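import Cfsg.Agent.Lib.TwoFusion.DihedralProduct.Local

/-!
# The conjugates of the quarter turns in the normalizer of `V × W`
-/

set_option autoImplicit false
set_option linter.style.haveILetI false
set_option linter.unusedSectionVars false

open Subgroup

namespace Cfsg.Lib.TwoFusion.DihProd

variable {G : Type*} [Group G]

theorem same_one_iff {Q : Subgroup G} {g : G} : Same Q g 1 ↔ g ∈ centralizer (Q : Set G) := by
  simp only [Same, one_mul, inv_one, mul_one, Subgroup.mem_centralizer_iff, SetLike.mem_coe]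
  exact forall₂_congr fun q _ => ⟨fun e => (mul_inv_eq_iff_eq_mul.1 e).symm,
    fun e => mul_inv_eq_iff_eq_mul.2 e.symm⟩

namespace Rect

variable [Finite G] {S : Sylow 2 G} {D₁ D₂ : Subgroup G} {c₁ a₁ z₁ c₂ a₂ z₂ : G} {n₁ n₂ : ℕ}
  {y w : G} (r : Rect S D₁ D₂ c₁ a₁ z₁ c₂ a₂ z₂ n₁ n₂ y w)

include r

theorem conj_z₁ {t : G} (ht : t ∈ (S : Subgroup G)) : t * z₁ * t⁻¹ = z₁ :=
  mul_inv_eq_iff_eq_mul.2 (r.frame.z₁_central ht).symm.eq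

theorem conj_z₂ {t : G} (ht : t ∈ (S : Subgroup G)) : t * z₂ * t⁻¹ = z₂ :=
  mul_inv_eq_iff_eq_mul.2 (r.frame.z₂_central ht).symm.eq

theorem act {t : G} (ht : t ∈ (S : Subgroup G) ⊓ normalizer (EL S y w : Set G)) :
    (t * y * t⁻¹ = y ∨ t * y * t⁻¹ = z₁ * y) ∧
      (t * w * t⁻¹ = w ∨ (4 ≤ n₂ ∧ t * w * t⁻¹ = z₂ * w)) := by
  rw [r.norm_form] at ht
  have key : ∀ d ∈ nFour D₁ y, ∀ e ∈ nFour D₂ w,
      (d * e * y * (d * e)⁻¹ = y ∨ d * e * y * (d * e)⁻¹ = z₁ * y) ∧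
        (d * e * w * (d * e)⁻¹ = w ∨ (4 ≤ n₂ ∧ d * e * w * (d * e)⁻¹ = z₂ * w)) := by
    intro d hd e he
    have e1 : d * e * y * (d * e)⁻¹ = d * y * d⁻¹ := by
      rw [show d * e * y * (d * e)⁻¹ = d * (e * y * e⁻¹) * d⁻¹ by group,
        (r.frame.comm r.ymem he.1).symm.eq, mul_inv_cancel_right]
    have e2 : d * e * w * (d * e)⁻¹ = e * w * e⁻¹ := by
      rw [show d * e * w * (d * e)⁻¹ = d * (e * w * e⁻¹) * d⁻¹ by group,
        (r.frame.comm hd.1 (mul_mem (mul_mem he.1 r.wmem) (inv_mem he.1))).eq, mul_inv_cancel_right]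
    rw [e1, e2]
    refine ⟨r.frame.d₁.conj_refl r.ymem r.ynot hd, ?_⟩
    rcases r.frame.d₂.conj_refl r.wmem r.wnot he with h | h
    · exact Or.inl h
    rcases Nat.lt_or_ge n₂ 4 with hn | hn
    · left
      obtain ⟨k, hk⟩ := r.frame.d₂.pow
      have h2 : n₂ = 2 := by
        have := r.frame.d₂.two
        rcases k with _ | _ | k
        · simp at hk; omega
        · simpa using hk
        · have : 4 ≤ 2 ^ (k + 1 + 1) := le_of_eq_of_le (by norm_num : (4 : ℕ) = 2 ^ 2)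
            (Nat.pow_le_pow_right two_pos (by omega))
          omega
      exact mul_inv_eq_iff_eq_mul.2 (r.frame.d₂.commute_of_two h2 he.1 r.wmem).eq
    · exact Or.inr ⟨hn, h⟩
  obtain ⟨d, hd, e, he, rfl⟩ : ∃ d ∈ nFour D₁ y, ∃ e ∈ nFour D₂ w, t = d * e := by
    have htS : t ∈ (S : Subgroup G) :=
      (sup_le (inf_le_left.trans r.frame.le₁) (inf_le_left.trans r.frame.le₂) :
        nFour D₁ y ⊔ nFour D₂ w ≤ (S : Subgroup G)) ht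
    obtain ⟨d, hd, e, he, rfl⟩ := r.frame.decomp htS
    let U : Subgroup G :=
      { carrier := {g | ∃ d ∈ nFour D₁ y, ∃ e ∈ nFour D₂ w, g = d * e}
        one_mem' := ⟨1, one_mem _, 1, one_mem _, (one_mul 1).symm⟩
        mul_mem' := by
          rintro _ _ ⟨d, hd, e, he, rfl⟩ ⟨d', hd', e', he', rfl⟩
          exact ⟨d * d', mul_mem hd hd', e * e', mul_mem he he',
            (r.frame.comm hd'.1 he.1).symm.mul_mul_mul_comm _ _⟩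
        inv_mem' := by
          rintro _ ⟨d, hd, e, he, rfl⟩
          exact ⟨d⁻¹, inv_mem hd, e⁻¹, inv_mem he, by
            rw [(r.frame.comm hd.1 he.1).eq, _root_.mul_inv_rev]⟩ }
    exact (sup_le (fun d hd => ⟨d, hd, 1, one_mem _, (mul_one d).symm⟩)
      (fun e he => ⟨1, one_mem _, e, he, (one_mul e).symm⟩) : nFour D₁ y ⊔ nFour D₂ w ≤ U) ht
  exact key d hd e he

theorem quarter₁ {x : G} (hx : x ∈ zpowers c₁) (hxx : x * x = z₁) :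
    x ∈ (S : Subgroup G) ⊓ normalizer (EL S y w : Set G) ∧ x * y * x⁻¹ = z₁ * y ∧
      x * w * x⁻¹ = w := by
  refine ⟨r.norm_form.symm ▸ mem_sup_left (r.frame.d₁.quarter_nFour hx hxx r.ymem r.ynot),
    r.frame.d₁.quarter_conj hx hxx r.ymem r.ynot, ?_⟩
  exact mul_inv_eq_iff_eq_mul.2 (r.frame.comm (r.frame.d₁.rot_mem hx) r.wmem).eq

theorem quarter₂ {x : G} (hx : x ∈ zpowers c₂) (hxx : x * x = z₂) :
    x ∈ (S : Subgroup G) ⊓ normalizer (EL S y w : Set G) ∧ x * y * x⁻¹ = y ∧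
      x * w * x⁻¹ = z₂ * w := by
  refine ⟨r.norm_form.symm ▸ mem_sup_right (r.frame.d₂.quarter_nFour hx hxx r.wmem r.wnot),
    ?_, r.frame.d₂.quarter_conj hx hxx r.wmem r.wnot⟩
  exact mul_inv_eq_iff_eq_mul.2 (r.frame.comm r.ymem (r.frame.d₂.rot_mem hx)).symm.eq

theorem tv_of_act {g z : G} (_hgN : g ∈ normalizer (EL S y w : Set G)) (hz : z ∈ EL S y w)
    (h1 : g * z₁ * g⁻¹ = z₁) (h2 : g * z₂ * g⁻¹ = z₂)
    (hy : g * y * g⁻¹ = y ∨ g * y * g⁻¹ = y * z) (hw : g * w * g⁻¹ = w ∨ g * w * g⁻¹ = w * z)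
    (hzz : g * z * g⁻¹ = z) (hne : g * y * g⁻¹ ≠ y ∨ g * w * g⁻¹ ≠ w) : Tv (EL S y w) g z := by
  refine ⟨hz, r.sq_EL hz, fun q hq => r.comm_EL hz hq, hzz, fun q hq => ?_, ?_⟩
  · let K : Subgroup G :=
      { carrier := {q | q ∈ EL S y w ∧ (g * q * g⁻¹ = q ∨ g * q * g⁻¹ = q * z)}
        one_mem' := ⟨one_mem _, Or.inl (by group)⟩
        mul_mem' := by
          rintro a b ⟨ha, ea⟩ ⟨hb, eb⟩
          refine ⟨mul_mem ha hb, ?_⟩
          rw [show g * (a * b) * g⁻¹ = g * a * g⁻¹ * (g * b * g⁻¹) by group]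
          rcases ea with ea | ea <;> rcases eb with eb | eb <;> rw [ea, eb]
          · exact Or.inl rfl
          · exact Or.inr (mul_assoc a b z).symm
          · exact Or.inr (by rw [mul_assoc, (r.comm_EL hz hb).eq, mul_assoc])
          · refine Or.inl ?_
            rw [(r.comm_EL hz hb).mul_mul_mul_comm, r.sq_EL hz, mul_one]
        inv_mem' := fun {a} h => by
          obtain ⟨ha, ea⟩ := h
          refine ⟨inv_mem ha, ?_⟩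
          rwa [inv_eq_of_mul_eq_one_right (r.sq_EL ha)] }
    exact (r.gen (K := K) ⟨r.mem_z₁, Or.inl h1⟩ ⟨r.mem_z₂, Or.inl h2⟩ ⟨r.mem_y, hy⟩ ⟨r.mem_w, hw⟩ hq).2
  · rcases hne with h | h
    exacts [⟨y, r.mem_y, h⟩, ⟨w, r.mem_w, h⟩]

theorem tv₁ {x : G} (hx : x ∈ zpowers c₁) (hxx : x * x = z₁) : Tv (EL S y w) x z₁ := by
  obtain ⟨⟨hxS, hxN⟩, hy, hw⟩ := r.quarter₁ hx hxx
  refine r.tv_of_act hxN r.mem_z₁ (r.conj_z₁ hxS) (r.conj_z₂ hxS) (Or.inr ?_) (Or.inl hw)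
    (r.conj_z₁ hxS) (Or.inl fun e => r.frame.d₁.z_ne_one ?_)
  · rw [hy, (r.frame.d₁.z_comm r.ymem).eq]
  · rw [hy, mul_eq_right] at e
    exact e

theorem tv₂ {x : G} (hx : x ∈ zpowers c₂) (hxx : x * x = z₂) : Tv (EL S y w) x z₂ := by
  obtain ⟨⟨hxS, hxN⟩, hy, hw⟩ := r.quarter₂ hx hxx
  refine r.tv_of_act hxN r.mem_z₂ (r.conj_z₁ hxS) (r.conj_z₂ hxS) (Or.inl hy) (Or.inr ?_)
    (r.conj_z₂ hxS) (Or.inr fun e => r.frame.d₂.z_ne_one ?_)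
  · rw [hw, (r.frame.d₂.z_comm r.wmem).eq]
  · rw [hw, mul_eq_right] at e
    exact e

theorem tv_act {t x : G} (ht : t ∈ (S : Subgroup G) ⊓ normalizer (EL S y w : Set G))
    (h : Tv (EL S y w) t x) :
    (x = z₁ ∧ t * y * t⁻¹ = z₁ * y ∧ t * w * t⁻¹ = w) ∨
      (x = z₂ ∧ 4 ≤ n₂ ∧ t * y * t⁻¹ = y ∧ t * w * t⁻¹ = z₂ * w) := by
  have cy : t * y * t⁻¹ = z₁ * y → x = z₁ := fun e => by
    rcases h.move y r.mem_y with e' | e'
    · exact absurd (mul_eq_right.1 (e.symm.trans e')) r.frame.d₁.z_ne_one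
    · rw [e, (r.frame.d₁.z_comm r.ymem).eq] at e'
      exact (mul_left_cancel e').symm
  have cw : t * w * t⁻¹ = z₂ * w → x = z₂ := fun e => by
    rcases h.move w r.mem_w with e' | e'
    · exact absurd (mul_eq_right.1 (e.symm.trans e')) r.frame.d₂.z_ne_one
    · rw [e, (r.frame.d₂.z_comm r.wmem).eq] at e'
      exact (mul_left_cancel e').symm
  obtain ⟨hy, hw⟩ := r.act ht
  rcases hy with hy | hy <;> rcases hw with hw | ⟨hn, hw⟩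
  · obtain ⟨q, hq, hne⟩ := h.ne
    refine absurd ?_ hne
    have := r.same_ext (g := t) (h := 1) (by rw [r.conj_z₁ ht.1]; group) (by rw [r.conj_z₂ ht.1]; group)
      (by rw [hy]; group) (by rw [hw]; group) q hq
    rwa [one_mul, inv_one, mul_one] at this
  · exact Or.inr ⟨cw hw, hn, hy, hw⟩
  · exact Or.inl ⟨cy hy, hy, hw⟩
  · exact absurd ((cy hy).symm.trans (cw hw)) r.z_ne

theorem same_act {g h : G} (hg : g ∈ (S : Subgroup G)) (hh : h ∈ (S : Subgroup G))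
    (e1 : g * y * g⁻¹ = h * y * h⁻¹) (e2 : g * w * g⁻¹ = h * w * h⁻¹) : Same (EL S y w) g h :=
  r.same_ext (by rw [r.conj_z₁ hg, r.conj_z₁ hh]) (by rw [r.conj_z₂ hg, r.conj_z₂ hh]) e1 e2

theorem T_comm {t t' : G} (ht : t ∈ (S : Subgroup G) ⊓ normalizer (EL S y w : Set G))
    (ht' : t' ∈ (S : Subgroup G) ⊓ normalizer (EL S y w : Set G)) :
    Same (EL S y w) (t * t') (t' * t) ∧ Same (EL S y w) (t * t) 1 := by
  have comb : ∀ {g g' q z : G}, z ∈ EL S y w → q ∈ EL S y w → g * z * g⁻¹ = z → g' * z * g'⁻¹ = z →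
      (g * q * g⁻¹ = q ∨ g * q * g⁻¹ = z * q) → (g' * q * g'⁻¹ = q ∨ g' * q * g'⁻¹ = z * q) →
      g * g' * q * (g * g')⁻¹ = g' * g * q * (g' * g)⁻¹ ∧
        (g * q * g⁻¹ = g' * q * g'⁻¹ → g * g' * q * (g * g')⁻¹ = q) := by
    intro g g' q z hz hq hgz hgz' hg hg'
    have hmul : ∀ a b c : G, a * (b * c) * a⁻¹ = a * b * a⁻¹ * (a * c * a⁻¹) := fun a b c => by group
    rw [show g * g' * q * (g * g')⁻¹ = g * (g' * q * g'⁻¹) * g⁻¹ by group,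
      show g' * g * q * (g' * g)⁻¹ = g' * (g * q * g⁻¹) * g'⁻¹ by group]
    have hzz : ∀ v, z * (z * v) = v := fun v => by rw [← mul_assoc, r.sq_EL hz, one_mul]
    rcases hg with e | e <;> rcases hg' with e' | e' <;>
      simp only [hmul, e, e', hgz, hgz', hzz, true_and, implies_true]
    · exact fun h => h.symm
    · exact fun h => h
  have hy := fun {t} (ht : t ∈ (S : Subgroup G) ⊓ normalizer (EL S y w : Set G)) => (r.act ht).1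
  have hw := fun {t} (ht : t ∈ (S : Subgroup G) ⊓ normalizer (EL S y w : Set G)) =>
    (r.act ht).2.imp id And.right
  refine ⟨r.same_act (mul_mem ht.1 ht'.1) (mul_mem ht'.1 ht.1)
    (comb r.mem_z₁ r.mem_y (r.conj_z₁ ht.1) (r.conj_z₁ ht'.1) (hy ht) (hy ht')).1
    (comb r.mem_z₂ r.mem_w (r.conj_z₂ ht.1) (r.conj_z₂ ht'.1) (hw ht) (hw ht')).1, ?_⟩
  refine r.same_act (mul_mem ht.1 ht.1) (one_mem _) ?_ ?_ <;> rw [one_mul, inv_one, mul_one]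
  · exact (comb r.mem_z₁ r.mem_y (r.conj_z₁ ht.1) (r.conj_z₁ ht.1) (hy ht) (hy ht)).2 rfl
  · exact (comb r.mem_z₂ r.mem_w (r.conj_z₂ ht.1) (r.conj_z₂ ht.1) (hw ht) (hw ht)).2 rfl

theorem conj_into {X : Subgroup G}
    (hT : (S : Subgroup G) ⊓ normalizer (EL S y w : Set G) ≤ X)
    (hX : X ≤ normalizer (EL S y w : Set G)) {u : G} (hu : u ∈ X) {k : ℕ} (hk : orderOf u = 2 ^ k) :
    ∃ g ∈ X, g * u * g⁻¹ ∈ (S : Subgroup G) ⊓ normalizer (EL S y w : Set G) := by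
  haveI : Fact (Nat.Prime 2) := ⟨Nat.prime_two⟩
  set T := (S : Subgroup G) ⊓ normalizer (EL S y w : Set G) with hTdef
  have hTp : IsPGroup 2 T := S.2.to_inf_left
  let T' : Sylow 2 X := (hTp.of_equiv (subgroupOfEquivOfLe hT).symm).toSylow fun hd =>
    r.sylow_norm (hd.trans ((relIndex_mul_relIndex _ _ _ hT hX) ▸ dvd_mul_right _ _))
  have hup : IsPGroup 2 (zpowers (⟨u, hu⟩ : X)) :=
    IsPGroup.of_card (n := k) (by rw [Nat.card_zpowers, Subgroup.orderOf_mk, hk])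
  obtain ⟨R, hR⟩ := hup.exists_le_sylow
  obtain ⟨g, hg⟩ := MulAction.exists_smul_eq X R T'
  refine ⟨g, g.2, ?_⟩
  have : g * (⟨u, hu⟩ : X) * g⁻¹ ∈ (T' : Subgroup X) := by
    rw [← hg, Sylow.coe_subgroup_smul]
    exact ⟨⟨u, hu⟩, hR (mem_zpowers _), rfl⟩
  exact mem_subgroupOf.1 this

/-- No element of order four is induced. -/
theorem hexp : ∀ g ∈ normalizer (EL S y w : Set G),
    Same (EL S y w) (g * g * (g * g)) 1 → Same (EL S y w) (g * g) 1 := by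
  intro g hg h4
  obtain ⟨a, m, hm, hord⟩ := Nat.exists_eq_two_pow_mul_odd (orderOf_pos g).ne'
  obtain ⟨k, hk⟩ := hm
  have ho : orderOf (g ^ m) = 2 ^ a := by
    rw [orderOf_pow_of_dvd (by omega) (hord ▸ dvd_mul_left _ _), hord,
      Nat.mul_div_cancel _ (by omega)]
  obtain ⟨l, hl, ht⟩ := r.conj_into inf_le_right le_rfl (pow_mem hg m) ho
  have h2 := (r.T_comm ht ht).2
  rw [same_one_iff] at h4 h2 ⊢
  have hm2 : g ^ m * g ^ m ∈ centralizer (EL S y w : Set G) := by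
    rw [← same_one_iff] at h2 ⊢
    have := h2.conj (k := l⁻¹) (inv_mem hl)
    rwa [show l⁻¹ * (l * g ^ m * l⁻¹ * (l * g ^ m * l⁻¹)) * l⁻¹⁻¹ = g ^ m * g ^ m by group,
      mul_one, mul_inv_cancel] at this
  have e : g * g = (g * g * (g * g))⁻¹ ^ k * (g ^ m * g ^ m) := by
    rw [show g * g * (g * g) = g ^ 4 by simp only [pow_succ, pow_zero, one_mul, mul_assoc], inv_pow,
      ← pow_mul, ← pow_add, eq_inv_mul_iff_mul_eq, ← pow_two, ← pow_add]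
    congr 1
    omega
  rw [e]
  exact mul_mem (pow_mem (inv_mem h4) k) hm2

variable {x₁ : G} (hx₁ : x₁ ∈ zpowers c₁) (hxx₁ : x₁ * x₁ = z₁)

include hx₁ hxx₁

/-- The two quarter turns are not fused. -/
theorem not_fused {x₂ : G} (hx₂ : x₂ ∈ zpowers c₂) (hxx₂ : x₂ * x₂ = z₂) {h : G}
    (hh : h ∈ normalizer (EL S y w : Set G)) : ¬ Same (EL S y w) (h * x₁ * h⁻¹) x₂ := by
  intro hf
  haveI : Fact (Nat.Prime 2) := ⟨Nat.prime_two⟩
  set N := normalizer (EL S y w : Set G) with hN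
  set T := (S : Subgroup G) ⊓ N with hT
  obtain ⟨t₁, -, -⟩ := r.quarter₁ hx₁ hxx₁
  obtain ⟨t₂, -, -⟩ := r.quarter₂ hx₂ hxx₂
  have hQ : ∀ {g}, g ∈ N → ∀ q ∈ EL S y w, g * q * g⁻¹ ∈ EL S y w :=
    fun hg q hq => conj_mem_of_mem_normalizer hg hq
  let X : Subgroup G :=
    { carrier := {g | g ∈ N ∧ Same (EL S y w) (g * x₂) (x₂ * g)}
      one_mem' := ⟨one_mem _, by rw [one_mul, mul_one]; exact Same.refl _ _⟩
      mul_mem' := by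
        rintro g g' ⟨hg, e⟩ ⟨hg', e'⟩
        refine ⟨mul_mem hg hg', ?_⟩
        have a1 := e'.mul_left g
        have a2 := e.mul_right (hQ hg')
        rw [← mul_assoc, ← mul_assoc] at a1
        rw [mul_assoc x₂ g g'] at a2
        exact a1.trans a2
      inv_mem' := by
        rintro g ⟨hg, e⟩
        refine ⟨inv_mem hg, ?_⟩
        have a1 := (e.mul_left g⁻¹).mul_right (hQ (inv_mem hg))
        rw [show g⁻¹ * (g * x₂) * g⁻¹ = x₂ * g⁻¹ by group,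
          show g⁻¹ * (x₂ * g) * g⁻¹ = g⁻¹ * x₂ by group] at a1
        exact a1.symm }
  have hTX : T ≤ X := fun t ht => ⟨ht.2, (r.T_comm ht t₂).1⟩
  have hTX' : ∀ t ∈ T, h * t * h⁻¹ ∈ X := by
    intro t ht
    have hc : h * t * h⁻¹ ∈ N := mul_mem (mul_mem hh ht.2) (inv_mem hh)
    refine ⟨hc, (hf.symm.mul_left (h * t * h⁻¹)).trans ?_⟩
    refine Same.trans ?_ (hf.mul_right (hQ hc))
    have := ((r.T_comm ht t₁).1).conj hh
    rwa [show h * (t * x₁) * h⁻¹ = h * t * h⁻¹ * (h * x₁ * h⁻¹) by group,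
      show h * (x₁ * t) * h⁻¹ = h * x₁ * h⁻¹ * (h * t * h⁻¹) by group] at this
  -- both are Sylow subgroups of `X`
  have hTp : IsPGroup 2 T := S.2.to_inf_left
  let T' : Sylow 2 X := (hTp.of_equiv (subgroupOfEquivOfLe hTX).symm).toSylow fun hd =>
    r.sylow_norm (hd.trans ((relIndex_mul_relIndex _ _ _ hTX (fun g hg => hg.1)) ▸ dvd_mul_right _ _))
  obtain ⟨R, hR⟩ := (((hTp.map (MulAut.conj h).toMonoidHom)).of_equiv (subgroupOfEquivOfLe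
    (show T.map (MulAut.conj h).toMonoidHom ≤ X by
      rintro _ ⟨t, ht, rfl⟩; exact hTX' t ht)).symm).exists_le_sylow
  obtain ⟨⟨k, hk⟩, hkR⟩ := MulAction.exists_smul_eq X R T'
  have hkh : ∀ t ∈ T, k * h * t * (k * h)⁻¹ ∈ T := by
    intro t ht
    have : (⟨k, hk⟩ : X) * ⟨h * t * h⁻¹, hTX' t ht⟩ * (⟨k, hk⟩ : X)⁻¹ ∈ (T' : Subgroup X) := by
      rw [← hkR, Sylow.coe_subgroup_smul]
      exact ⟨_, hR (mem_subgroupOf.2 ⟨t, ht, rfl⟩), rfl⟩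
    have := mem_subgroupOf.1 this
    rwa [show k * h * t * (k * h)⁻¹ = k * (h * t * h⁻¹) * k⁻¹ by group]
  obtain ⟨g, hgdef⟩ : ∃ g, g = k * h := ⟨_, rfl⟩
  rw [← hgdef] at hkh
  have hgN : g ∈ N := hgdef ▸ mul_mem hk.1 hh
  -- `g` swaps the two quarter turns
  have h12 : ¬ Same (EL S y w) x₁ x₂ := fun e =>
    r.z_ne ((r.tv₁ hx₁ hxx₁).centre_eq (r.tv₂ hx₂ hxx₂) e)
  have g1 : Same (EL S y w) (g * x₁ * g⁻¹) x₂ := by
    have a1 := (hf.conj hk.1)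
    rw [show k * (h * x₁ * h⁻¹) * k⁻¹ = g * x₁ * g⁻¹ by rw [hgdef]; group] at a1
    refine a1.trans ?_
    have a2 := hk.2.mul_right (hQ (inv_mem hk.1))
    rwa [mul_inv_cancel_right] at a2
  have g2 : Same (EL S y w) (g * x₂ * g⁻¹) x₁ := by
    have ht := hkh x₂ t₂
    have hv := (r.tv₂ hx₂ hxx₂).conj hgN
    obtain ⟨⟨-, -⟩, hy₁, hw₁⟩ := r.quarter₁ hx₁ hxx₁
    obtain ⟨⟨-, -⟩, hy₂, hw₂⟩ := r.quarter₂ hx₂ hxx₂
    rcases r.tv_act ht hv with ⟨-, ey, ew⟩ | ⟨-, -, ey, ew⟩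
    · exact r.same_act ht.1 t₁.1 (ey.trans hy₁.symm) (ew.trans hw₁.symm)
    · refine absurd ?_ h12
      have e : Same (EL S y w) (g * x₂ * g⁻¹) x₂ :=
        r.same_act ht.1 t₂.1 (ey.trans hy₂.symm) (ew.trans hw₂.symm)
      have := (g1.trans e.symm).conj (k := g⁻¹) (inv_mem hgN)
      rwa [show g⁻¹ * (g * x₁ * g⁻¹) * g⁻¹⁻¹ = x₁ by group,
        show g⁻¹ * (g * x₂ * g⁻¹) * g⁻¹⁻¹ = x₂ by group] at this
  obtain ⟨a, m, hm, hord⟩ := Nat.exists_eq_two_pow_mul_odd (orderOf_pos g).ne'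
  have hodd : ∀ i : ℕ, Same (EL S y w) (g ^ (2 * i + 1) * x₁ * (g ^ (2 * i + 1))⁻¹) x₂ := by
    intro i
    induction i with
    | zero => simpa using g1
    | succ i ih =>
      have a1 := (ih.conj hgN).trans g2
      have a2 := (a1.conj hgN).trans g1
      rwa [show g * (g * (g ^ (2 * i + 1) * x₁ * (g ^ (2 * i + 1))⁻¹) * g⁻¹) * g⁻¹ =
        g ^ (2 * (i + 1) + 1) * x₁ * (g ^ (2 * (i + 1) + 1))⁻¹ by
          rw [show 2 * (i + 1) + 1 = 1 + 1 + (2 * i + 1) by ring, pow_add g (1 + 1), pow_add g 1 1,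
            pow_one]
          group] at a2
  obtain ⟨i, rfl⟩ := hm
  obtain ⟨s, hs⟩ : ∃ s, s = g ^ (2 * i + 1) := ⟨_, rfl⟩
  have hgT : g ∈ normalizer (T : Set G) := mem_normalizer_fintype hkh
  have hsp : IsPGroup 2 (zpowers s) := IsPGroup.of_card (n := a) (by
    rw [Nat.card_zpowers, hs, orderOf_pow_of_dvd (by omega) (hord ▸ dvd_mul_left _ _), hord,
      Nat.mul_div_cancel _ (by omega)])
  have hsup : IsPGroup 2 (zpowers s ⊔ T : Subgroup G) :=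
    hsp.to_sup_of_normal_right' hTp (zpowers_le.2 (hs ▸ pow_mem hgT _))
  have hsT : s ∈ T := by
    have hle : zpowers s ⊔ T ≤ N := sup_le (zpowers_le.2 (hs ▸ pow_mem hgN _)) inf_le_right
    let TN : Sylow 2 N := (hTp.of_equiv (subgroupOfEquivOfLe inf_le_right).symm).toSylow r.sylow_norm
    have he := TN.3 (hsup.of_equiv (subgroupOfEquivOfLe hle).symm)
      (fun v (hv : v ∈ T.subgroupOf N) => mem_subgroupOf.2 (mem_sup_right (mem_subgroupOf.1 hv)))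
    have hm : (⟨s, hle (mem_sup_left (mem_zpowers s))⟩ : N) ∈ (TN : Subgroup N) :=
      he ▸ mem_subgroupOf.2 (mem_sup_left (mem_zpowers s))
    exact mem_subgroupOf.1 hm
  refine h12 (Same.trans ?_ (hs ▸ hodd i))
  have := ((r.T_comm hsT t₁).1).mul_right (hQ (inv_mem hsT.2))
  rw [mul_inv_cancel_right] at this
  exact this.symm

theorem quarter_order {h : G} : ∃ k, orderOf (h * x₁ * h⁻¹) = 2 ^ k := by
  haveI : Fact (Nat.Prime 2) := ⟨Nat.prime_two⟩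
  obtain ⟨k, hk⟩ := IsPGroup.iff_orderOf.1 S.2
    (⟨x₁, r.frame.le₁ (r.frame.d₁.rot_mem hx₁)⟩ : (S : Subgroup G))
  exact ⟨k, by rw [← MulAut.conj_apply, MulEquiv.orderOf_eq, ← hk, Subgroup.orderOf_mk]⟩

/-- A conjugate of the first quarter turn fixes the centres of those of the second. -/
theorem fix₂ {x₂ : G} (hx₂ : x₂ ∈ zpowers c₂) (hxx₂ : x₂ * x₂ = z₂) {h h₂ : G}
    (hh : h ∈ normalizer (EL S y w : Set G)) (hh₂ : h₂ ∈ normalizer (EL S y w : Set G)) :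
    h * x₁ * h⁻¹ * (h₂ * z₂ * h₂⁻¹) * (h * x₁ * h⁻¹)⁻¹ = h₂ * z₂ * h₂⁻¹ := by
  obtain ⟨t₁, -, -⟩ := r.quarter₁ hx₁ hxx₁
  obtain ⟨t₂, -, -⟩ := r.quarter₂ hx₂ hxx₂
  obtain ⟨g, hg⟩ : ∃ g, g = h₂⁻¹ * h := ⟨_, rfl⟩
  have hgN : g ∈ normalizer (EL S y w : Set G) := hg ▸ mul_mem (inv_mem hh₂) hh
  have hu := (r.tv₁ hx₁ hxx₁).conj hgN
  have huN : g * x₁ * g⁻¹ ∈ normalizer (EL S y w : Set G) := mul_mem (mul_mem hgN t₁.2) (inv_mem hgN)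
  have hfix : g * x₁ * g⁻¹ * z₂ * (g * x₁ * g⁻¹)⁻¹ = z₂ := by
    by_contra hne
    have e1 := (hu.move z₂ r.mem_z₂).resolve_left hne
    have e2 := Tv.move_symm r.hexp huN t₂.2 hu (r.tv₂ hx₂ hxx₂) hne
    have hb := (Tv.braid hu (r.tv₂ hx₂ hxx₂) e1 e2).conj (k := (g * x₁ * g⁻¹)⁻¹) (inv_mem huN)
    rw [show (g * x₁ * g⁻¹)⁻¹ * (g * x₁ * g⁻¹ * x₂ * (g * x₁ * g⁻¹)⁻¹) * (g * x₁ * g⁻¹)⁻¹⁻¹ = x₂ by
      group, show (g * x₁ * g⁻¹)⁻¹ * (x₂ * (g * x₁ * g⁻¹) * x₂⁻¹) * (g * x₁ * g⁻¹)⁻¹⁻¹ =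
        (g * x₁ * g⁻¹)⁻¹ * x₂ * g * x₁ * ((g * x₁ * g⁻¹)⁻¹ * x₂ * g)⁻¹ by group] at hb
    exact r.not_fused hx₁ hxx₁ hx₂ hxx₂ (mul_mem (mul_mem (inv_mem huN) t₂.2) hgN) hb
  calc h * x₁ * h⁻¹ * (h₂ * z₂ * h₂⁻¹) * (h * x₁ * h⁻¹)⁻¹
      = h₂ * (g * x₁ * g⁻¹ * z₂ * (g * x₁ * g⁻¹)⁻¹) * h₂⁻¹ := by rw [hg]; group
    _ = h₂ * z₂ * h₂⁻¹ := by rw [hfix]

/-- The second quarter turn fixes every centre. -/
theorem centre_fix₂ {x₂ : G} (hx₂ : x₂ ∈ zpowers c₂) (hxx₂ : x₂ * x₂ = z₂) {h : G}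
    (hh : h ∈ normalizer (EL S y w : Set G)) :
    x₂ * (h * z₁ * h⁻¹) * x₂⁻¹ = h * z₁ * h⁻¹ := by
  obtain ⟨t₁, -, -⟩ := r.quarter₁ hx₁ hxx₁
  obtain ⟨t₂, -, -⟩ := r.quarter₂ hx₂ hxx₂
  by_contra hne
  have hu := (r.tv₁ hx₁ hxx₁).conj hh
  have huN := mul_mem (mul_mem hh t₁.2) (inv_mem hh)
  have e := Tv.move_symm r.hexp t₂.2 huN (r.tv₂ hx₂ hxx₂) hu hne
  have e' := r.fix₂ hx₁ hxx₁ hx₂ hxx₂ hh (one_mem _)
  rw [one_mul, inv_one, mul_one, e, mul_eq_left] at e'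
  exact hu.ne_one e'

/-- A conjugate of the quarter turn whose centre it fixes acts as the quarter turn. -/
theorem centre_fixed {h : G} (hh : h ∈ normalizer (EL S y w : Set G))
    (hf : x₁ * (h * z₁ * h⁻¹) * x₁⁻¹ = h * z₁ * h⁻¹) :
    h * z₁ * h⁻¹ = z₁ ∧ Same (EL S y w) (h * x₁ * h⁻¹) x₁ := by
  obtain ⟨t₁, hy₁, hw₁⟩ := r.quarter₁ hx₁ hxx₁
  have hu := (r.tv₁ hx₁ hxx₁).conj hh
  have huN : h * x₁ * h⁻¹ ∈ normalizer (EL S y w : Set G) :=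
    mul_mem (mul_mem hh t₁.2) (inv_mem hh)
  obtain ⟨u, hudef⟩ : ∃ u, u = h * x₁ * h⁻¹ := ⟨_, rfl⟩
  obtain ⟨x, hxdef⟩ : ∃ x, x = h * z₁ * h⁻¹ := ⟨_, rfl⟩
  rw [← hudef, ← hxdef] at hu
  rw [← hudef] at huN ⊢
  rw [← hxdef] at hf ⊢
  have huz : u * z₁ * u⁻¹ = z₁ := by
    by_contra hne
    have e := Tv.move_symm r.hexp huN t₁.2 hu (r.tv₁ hx₁ hxx₁) hne
    rw [hf, left_eq_mul] at e
    exact r.frame.d₁.z_ne_one e
  have c1 : Same (EL S y w) (u * x₁) (x₁ * u) := hu.commute_of_fix (r.tv₁ hx₁ hxx₁) huz hf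
  have hQ : ∀ {g}, g ∈ normalizer (EL S y w : Set G) → ∀ q ∈ EL S y w, g * q * g⁻¹ ∈ EL S y w :=
    fun hg q hq => conj_mem_of_mem_normalizer hg hq
  have hall : ∀ t ∈ (S : Subgroup G) ⊓ normalizer (EL S y w : Set G),
      Same (EL S y w) (u * t) (t * u) := by
    intro t ht
    have via : ∀ {s}, Same (EL S y w) t s → Same (EL S y w) (u * s) (s * u) →
        Same (EL S y w) (u * t) (t * u) := fun e hs =>
      ((e.mul_left u).trans hs).trans (e.symm.mul_right (hQ huN))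
    obtain ⟨hy, hw⟩ := r.act ht
    rcases hy with hy | hy <;> rcases hw with hw | ⟨hn, hw⟩
    · refine via (r.same_act ht.1 (one_mem _) (by rw [hy]; group) (by rw [hw]; group)) ?_
      rw [mul_one, one_mul]
      exact Same.refl _ _
    · obtain ⟨x₂, hx₂, hxx₂⟩ := r.frame.d₂.exists_quarter hn
      obtain ⟨t₂, hy₂, hw₂⟩ := r.quarter₂ hx₂ hxx₂
      refine via (r.same_act ht.1 t₂.1 (hy.trans hy₂.symm) (hw.trans hw₂.symm))
        (hu.commute_of_fix (r.tv₂ hx₂ hxx₂) ?_ (hxdef ▸ r.centre_fix₂ hx₁ hxx₁ hx₂ hxx₂ hh))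
      have := r.fix₂ hx₁ hxx₁ hx₂ hxx₂ hh (one_mem _)
      rwa [one_mul, inv_one, mul_one, ← hudef] at this
    · exact via (r.same_act ht.1 t₁.1 (hy.trans hy₁.symm) (hw.trans hw₁.symm)) c1
    · obtain ⟨x₂, hx₂, hxx₂⟩ := r.frame.d₂.exists_quarter hn
      obtain ⟨t₂, hy₂, hw₂⟩ := r.quarter₂ hx₂ hxx₂
      have c2 : Same (EL S y w) (u * x₂) (x₂ * u) := hu.commute_of_fix (r.tv₂ hx₂ hxx₂)
        (by have := r.fix₂ hx₁ hxx₁ hx₂ hxx₂ hh (one_mem _)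
            rwa [one_mul, inv_one, mul_one, ← hudef] at this)
        (hxdef ▸ r.centre_fix₂ hx₁ hxx₁ hx₂ hxx₂ hh)
      refine via (s := x₁ * x₂) (r.same_act ht.1 (mul_mem t₁.1 t₂.1) ?_ ?_) ?_
      · rw [hy, show x₁ * x₂ * y * (x₁ * x₂)⁻¹ = x₁ * (x₂ * y * x₂⁻¹) * x₁⁻¹ by group, hy₂, hy₁]
      · rw [hw, show x₁ * x₂ * w * (x₁ * x₂)⁻¹ = x₁ * (x₂ * w * x₂⁻¹) * x₁⁻¹ by group, hw₂,
          show x₁ * (z₂ * w) * x₁⁻¹ = x₁ * z₂ * x₁⁻¹ * (x₁ * w * x₁⁻¹) by group, r.conj_z₂ t₁.1, hw₁]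
      · have a1 := c1.mul_right (hQ t₂.2)
        have a2 := c2.mul_left x₁
        rw [mul_assoc u x₁ x₂, mul_assoc x₁ u x₂] at a1
        rw [← mul_assoc x₁ x₂ u] at a2
        exact a1.trans a2
  let X : Subgroup G :=
    { carrier := {g | g ∈ normalizer (EL S y w : Set G) ∧
        ∀ t ∈ (S : Subgroup G) ⊓ normalizer (EL S y w : Set G), Same (EL S y w) (g * t) (t * g)}
      one_mem' := ⟨one_mem _, fun t _ => by rw [one_mul, mul_one]; exact Same.refl _ _⟩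
      mul_mem' := by
        rintro g g' ⟨hg, e⟩ ⟨hg', e'⟩
        refine ⟨mul_mem hg hg', fun t ht => ?_⟩
        have a1 := (e' t ht).mul_left g
        have a2 := (e t ht).mul_right (hQ hg')
        rw [← mul_assoc, ← mul_assoc] at a1
        rw [mul_assoc t g g'] at a2
        exact a1.trans a2
      inv_mem' := by
        rintro g ⟨hg, e⟩
        refine ⟨inv_mem hg, fun t ht => ?_⟩
        have a1 := ((e t ht).mul_left g⁻¹).mul_right (hQ (inv_mem hg))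
        rw [show g⁻¹ * (g * t) * g⁻¹ = t * g⁻¹ by group,
          show g⁻¹ * (t * g) * g⁻¹ = g⁻¹ * t by group] at a1
        exact a1.symm }
  obtain ⟨j, hj⟩ := r.quarter_order hx₁ hxx₁ (h := h)
  obtain ⟨g, hg, hgu⟩ := r.conj_into (X := X) (fun t ht => ⟨ht.2, fun t' ht' => (r.T_comm ht ht').1⟩)
    (fun g hg => hg.1) (u := u) ⟨huN, hall⟩ (hudef ▸ hj)
  have hsame : Same (EL S y w) u (g * u * g⁻¹) := by
    have a1 := ((hg.2 _ hgu).mul_left g⁻¹).mul_right (hQ (inv_mem hg.1))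
    rw [show g⁻¹ * (g * (g * u * g⁻¹)) * g⁻¹ = g * u * g⁻¹ * g⁻¹ by group] at a1
    have a2 := a1.mul_right (hQ hg.1)
    rw [inv_mul_cancel_right,
      show g⁻¹ * (g * u * g⁻¹ * g) * g⁻¹ * g = u by group] at a2
    exact a2.symm
  have hv := hu.same hsame.symm
  rcases r.tv_act hgu hv with ⟨rfl, ey, ew⟩ | ⟨-, hn, ey, ew⟩
  · exact ⟨rfl, hsame.trans (r.same_act hgu.1 t₁.1 (ey.trans hy₁.symm) (ew.trans hw₁.symm))⟩
  · obtain ⟨x₂, hx₂, hxx₂⟩ := r.frame.d₂.exists_quarter hn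
    obtain ⟨t₂, hy₂, hw₂⟩ := r.quarter₂ hx₂ hxx₂
    exact absurd (hudef ▸ hsame.trans (r.same_act hgu.1 t₂.1 (ey.trans hy₂.symm) (ew.trans hw₂.symm)))
      (r.not_fused hx₁ hxx₁ hx₂ hxx₂ hh)

/-- A centre other than `z₁` is moved by the quarter turn and moves `z₁`. -/
theorem centre_cases {h : G} (hh : h ∈ normalizer (EL S y w : Set G)) :
    (h * z₁ * h⁻¹ = z₁ ∧ Same (EL S y w) (h * x₁ * h⁻¹) x₁) ∨
      (x₁ * (h * z₁ * h⁻¹) * x₁⁻¹ = h * z₁ * h⁻¹ * z₁ ∧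
        h * x₁ * h⁻¹ * z₁ * (h * x₁ * h⁻¹)⁻¹ = z₁ * (h * z₁ * h⁻¹)) := by
  obtain ⟨t₁, -, -⟩ := r.quarter₁ hx₁ hxx₁
  have hu := (r.tv₁ hx₁ hxx₁).conj hh
  have huN := mul_mem (mul_mem hh t₁.2) (inv_mem hh)
  by_cases hf : x₁ * (h * z₁ * h⁻¹) * x₁⁻¹ = h * z₁ * h⁻¹
  · exact Or.inl (r.centre_fixed hx₁ hxx₁ hh hf)
  · exact Or.inr ⟨((r.tv₁ hx₁ hxx₁).move _ hu.mem).resolve_left hf,
      Tv.move_symm r.hexp t₁.2 huN (r.tv₁ hx₁ hxx₁) hu hf⟩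

/-- Conjugates with one centre act in the same way. -/
theorem same_of_centre {h h' : G} (hh : h ∈ normalizer (EL S y w : Set G))
    (hh' : h' ∈ normalizer (EL S y w : Set G)) (he : h * z₁ * h⁻¹ = h' * z₁ * h'⁻¹) :
    Same (EL S y w) (h * x₁ * h⁻¹) (h' * x₁ * h'⁻¹) := by
  have e : h'⁻¹ * h * z₁ * (h'⁻¹ * h)⁻¹ = z₁ := by
    rw [show h'⁻¹ * h * z₁ * (h'⁻¹ * h)⁻¹ = h'⁻¹ * (h * z₁ * h⁻¹) * h' by group, he]
    group
  have hs := (r.centre_fixed hx₁ hxx₁ (mul_mem (inv_mem hh') hh)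
    (by rw [e]; exact r.conj_z₁ (r.frame.le₁ (r.frame.d₁.rot_mem hx₁)))).2.conj hh'
  rwa [show h' * (h'⁻¹ * h * x₁ * (h'⁻¹ * h)⁻¹) * h'⁻¹ = h * x₁ * h⁻¹ by group] at hs

/-- At most two centres differ from `z₁`. -/
theorem centre_unique {h h' : G} (hh : h ∈ normalizer (EL S y w : Set G))
    (hh' : h' ∈ normalizer (EL S y w : Set G)) (hn : h * z₁ * h⁻¹ ≠ z₁)
    (hn' : h' * z₁ * h'⁻¹ ≠ z₁) :
    h' * z₁ * h'⁻¹ = h * z₁ * h⁻¹ ∨ h' * z₁ * h'⁻¹ = h * z₁ * h⁻¹ * z₁ := by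
  obtain ⟨t₁, -, -⟩ := r.quarter₁ hx₁ hxx₁
  have e := ((r.centre_cases hx₁ hxx₁ hh).resolve_left fun e => hn e.1).1
  have e' := ((r.centre_cases hx₁ hxx₁ hh').resolve_left fun e => hn' e.1).1
  have hu := (r.tv₁ hx₁ hxx₁).conj hh
  have hu' := (r.tv₁ hx₁ hxx₁).conj hh'
  have hu'N : h' * x₁ * h'⁻¹ ∈ normalizer (EL S y w : Set G) :=
    mul_mem (mul_mem hh' t₁.2) (inv_mem hh')
  rcases hu'.move (h * z₁ * h⁻¹) hu.mem with f | f
  · left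
    have hN : h'⁻¹ * h ∈ normalizer (EL S y w : Set G) := mul_mem (inv_mem hh') hh
    obtain ⟨ez, -⟩ := r.centre_fixed hx₁ hxx₁ hN (by
      calc x₁ * (h'⁻¹ * h * z₁ * (h'⁻¹ * h)⁻¹) * x₁⁻¹
          = h'⁻¹ * (h' * x₁ * h'⁻¹ * (h * z₁ * h⁻¹) * (h' * x₁ * h'⁻¹)⁻¹) * h' := by group
        _ = h'⁻¹ * h * z₁ * (h'⁻¹ * h)⁻¹ := by rw [f]; group)
    calc h' * z₁ * h'⁻¹ = h' * (h'⁻¹ * h * z₁ * (h'⁻¹ * h)⁻¹) * h'⁻¹ := by rw [ez]
      _ = h * z₁ * h⁻¹ := by group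
  · right
    have hgN : h' * x₁ * h'⁻¹ * h ∈ normalizer (EL S y w : Set G) := mul_mem hu'N hh
    have ev : h' * x₁ * h'⁻¹ * h * z₁ * (h' * x₁ * h'⁻¹ * h)⁻¹ =
        h * z₁ * h⁻¹ * (h' * z₁ * h'⁻¹) := by rw [← f]; group
    obtain ⟨ez, -⟩ := r.centre_fixed hx₁ hxx₁ hgN (by
      rw [ev, show x₁ * (h * z₁ * h⁻¹ * (h' * z₁ * h'⁻¹)) * x₁⁻¹ =
        x₁ * (h * z₁ * h⁻¹) * x₁⁻¹ * (x₁ * (h' * z₁ * h'⁻¹) * x₁⁻¹) by group, e, e',
        (r.comm_EL r.mem_z₁ hu'.mem).mul_mul_mul_comm, r.frame.d₁.z_sq, mul_one])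
    rw [ev] at ez
    calc h' * z₁ * h'⁻¹ = h * z₁ * h⁻¹ * (h * z₁ * h⁻¹ * (h' * z₁ * h'⁻¹)) := by
          rw [← mul_assoc, hu.sq, one_mul]
      _ = h * z₁ * h⁻¹ * z₁ := by rw [ez]

end Rect

end Cfsg.Lib.TwoFusion.DihProd
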