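import Cfsg.Agent.Lib.TwoFusion.DihedralProduct.Fusion

/-!
# The factor generated by the centres

The centres over a reflection `y` are `z₁` and at most `y e`, `y e z₁` with `e` central in `D₂`; hence the
subgroup they generate meets `D₂` trivially.
-/

set_option autoImplicit false
set_option linter.style.haveILetI false
set_option linter.unusedSectionVars false

open Subgroup

namespace Cfsg.Lib.TwoFusion.DihProd

variable {G : Type*} [Group G] [Finite G]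

/-- The centres over the reflections of `D`. -/
def orbSet (S : Sylow 2 G) (D : Subgroup G) (c z : G) : Set G :=
  {x | ∃ y ∈ D, y ∉ zpowers c ∧ Orb S z y x}

/-- The factor generated by the centres. -/
def fac (S : Sylow 2 G) (D : Subgroup G) (c z : G) : Subgroup G := closure (orbSet S D c z)

/-- The translations of the odd elements of `N(S)`. -/
def oddSet (S : Sylow 2 G) : Set G :=
  {x | ∃ q ∈ (S : Subgroup G), ∃ g ∈ normalizer ((S : Subgroup G) : Set G),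
    Odd (orderOf g) ∧ x = q⁻¹ * (g * q * g⁻¹)}

variable {S : Sylow 2 G} {D₁ D₂ : Subgroup G} {c₁ a₁ z₁ c₂ a₂ z₂ : G} {n₁ n₂ : ℕ}

namespace Frame

variable (F : Frame S D₁ D₂ c₁ a₁ z₁ c₂ a₂ z₂ n₁ n₂)

include F

theorem z₁_mem_QL {y : G} (hy : y ∈ D₁) : z₁ ∈ QL S y :=
  mem_QL.2 ⟨F.le₁ F.d₁.z_mem, F.z₁_central (F.le₁ hy)⟩

theorem orb_z {y : G} : Orb S z₁ y z₁ := ⟨1, one_mem _, by group⟩

theorem z_mem_orbSet : z₁ ∈ orbSet S D₁ c₁ z₁ := ⟨a₁, F.d₁.mema, F.d₁.anot, F.orb_z⟩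

theorem orb_mem {y x : G} (hy : y ∈ D₁) (h : Orb S z₁ y x) : x ∈ QL S y := by
  obtain ⟨g, hg, rfl⟩ := h
  exact conj_mem_of_mem_normalizer hg (F.z₁_mem_QL hy)

theorem fac_le : fac S D₁ c₁ z₁ ≤ (S : Subgroup G) :=
  (closure_le _).2 fun _ ⟨_, hy, _, h⟩ => (mem_QL.1 (F.orb_mem hy h)).1

theorem oddSet_le : closure (oddSet S) ≤ (S : Subgroup G) :=
  (closure_le _).2 fun _ ⟨_, hq, _, hg, _, e⟩ =>
    e ▸ mul_mem (inv_mem hq) (conj_mem_of_mem_normalizer hg hq)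

theorem conj_QL {k y y' : G} (hk : k ∈ normalizer ((S : Subgroup G) : Set G))
    (hy' : k * y * k⁻¹ = y') {q : G} : q ∈ QL S y ↔ k * q * k⁻¹ ∈ QL S y' := by
  rw [mem_QL, mem_QL, ← hy']
  refine and_congr (mem_normalizer_iff.1 hk q) ⟨fun h => ?_, fun h => ?_⟩
  · simpa using h.map (MulAut.conj k).toMonoidHom
  · simpa [mul_assoc] using h.map (MulAut.conj k⁻¹).toMonoidHom

theorem orb_conj {k y y' x : G} (hk : k ∈ normalizer ((S : Subgroup G) : Set G))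
    (hkz : k * z₁ * k⁻¹ = z₁) (hy' : ∀ q, q ∈ QL S y ↔ k * q * k⁻¹ ∈ QL S y')
    (h : Orb S z₁ y x) : Orb S z₁ y' (k * x * k⁻¹) := by
  obtain ⟨g, hg, rfl⟩ := h
  refine ⟨k * g * k⁻¹, mem_normalizer_fintype fun q hq => ?_, ?_⟩
  · have e : q = k * (k⁻¹ * q * k) * k⁻¹ := by group
    rw [SetLike.mem_coe, e, ← hy'] at hq
    rw [SetLike.mem_coe, e, show k * g * k⁻¹ * (k * (k⁻¹ * q * k) * k⁻¹) * (k * g * k⁻¹)⁻¹ =
      k * (g * (k⁻¹ * q * k) * g⁻¹) * k⁻¹ by group, ← hy']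
    exact conj_mem_of_mem_normalizer hg hq
  · have e : k⁻¹ * z₁ * k = z₁ := by
      conv_lhs => rw [← hkz]
      group
    rw [show k * g * k⁻¹ * z₁ * (k * g * k⁻¹)⁻¹ = k * (g * (k⁻¹ * z₁ * k) * g⁻¹) * k⁻¹ by group, e]

theorem refl_conj {d e y : G} (hd : d ∈ D₁) (he : e ∈ D₂) (hy : y ∈ D₁) (hyc : y ∉ zpowers c₁) :
    d * e * y * (d * e)⁻¹ = d * y * d⁻¹ ∧ d * y * d⁻¹ ∈ D₁ ∧ d * y * d⁻¹ ∉ zpowers c₁ := by
  refine ⟨?_, mul_mem (mul_mem hd hy) (inv_mem hd), fun h => hyc ?_⟩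
  · rw [show d * e * y * (d * e)⁻¹ = d * (e * y * e⁻¹) * d⁻¹ by group, (F.comm hy he).symm.eq,
      mul_inv_cancel_right]
  · have := F.d₁.conj_rot (inv_mem hd) h
    rwa [show d⁻¹ * (d * y * d⁻¹) * d⁻¹⁻¹ = y by group] at this

theorem orbSet_conj {s x : G} (hs : s ∈ (S : Subgroup G)) (hx : x ∈ orbSet S D₁ c₁ z₁) :
    s * x * s⁻¹ ∈ orbSet S D₁ c₁ z₁ := by
  obtain ⟨y, hy, hyc, h⟩ := hx
  obtain ⟨d, hd, e, he, rfl⟩ := F.decomp hs
  obtain ⟨e1, hy', hyc'⟩ := F.refl_conj hd he hy hyc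
  exact ⟨_, hy', hyc', F.orb_conj (le_normalizer hs)
    (mul_inv_eq_iff_eq_mul.2 (F.z₁_central hs).symm.eq) (fun _ => F.conj_QL (le_normalizer hs) e1) h⟩

theorem fac_conj {s : G} (hs : s ∈ (S : Subgroup G)) {x : G} (hx : x ∈ fac S D₁ c₁ z₁) :
    s * x * s⁻¹ ∈ fac S D₁ c₁ z₁ := by
  have hle : (fac S D₁ c₁ z₁).map (MulAut.conj s).toMonoidHom ≤ fac S D₁ c₁ z₁ := by
    rw [fac, MonoidHom.map_closure, closure_le]
    rintro _ ⟨x, hx, rfl⟩
    exact subset_closure (F.orbSet_conj hs hx)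
  exact hle ⟨x, hx, rfl⟩

/-- The shape of a centre other than `z₁`. -/
theorem orb_form {x₁ : G} (hx₁ : x₁ ∈ zpowers c₁) (hxx₁ : x₁ * x₁ = z₁) {y x : G} (hy : y ∈ D₁)
    (hyc : y ∉ zpowers c₁) (h : Orb S z₁ y x) (hne : x ≠ z₁) :
    ∃ e ∈ D₂, (∀ e' ∈ D₂, Commute e e') ∧ e * e = 1 ∧ (x = y * e ∨ x = y * e * z₁) := by
  have hmv := (F.orb_cases hx₁ hxx₁ hy hyc h).resolve_left hne
  obtain ⟨hxS, hxy⟩ := mem_QL.1 (F.orb_mem hy h)
  have hx2 : x * x = 1 := by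
    obtain ⟨g, -, rfl⟩ := h
    rw [show g * z₁ * g⁻¹ * (g * z₁ * g⁻¹) = g * (z₁ * z₁) * g⁻¹ by group, F.d₁.z_sq]
    group
  have hcen : ∀ q ∈ QL S y, Commute x q := by
    obtain ⟨g, hg, rfl⟩ := h
    intro q hq
    have h1 := (F.z₁_central (mem_QL.1 (conj_mem_of_mem_normalizer (inv_mem hg) hq)).1).map
      (MulAut.conj g).toMonoidHom
    simp only [MulEquiv.coe_toMonoidHom, MulAut.conj_apply] at h1
    rwa [show g * (g⁻¹ * q * g⁻¹⁻¹) * g⁻¹ = q by group] at h1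
  obtain ⟨d, hd, e, he, rfl⟩ := F.decomp hxS
  have hdy : Commute d y := by
    have h' : Commute (d * e) (y * 1) := by rw [mul_one]; exact hxy
    exact ((F.commute_iff hd he hy (one_mem _)).1 h').1
  rw [F.sq_mul hd he] at hx2
  refine ⟨e, he, fun e' he' => ?_, (F.unique (mul_mem hd hd) (mul_mem he he) (one_mem _) (one_mem _)
    (hx2.trans (one_mul 1).symm)).2, ?_⟩
  · have h' : Commute (d * e) (1 * e') := by
      rw [one_mul]
      exact hcen e' (mem_QL.2 ⟨F.le₂ he', (F.comm hy he').symm⟩)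
    exact ((F.commute_iff hd he (one_mem _) he').1 h').2
  · have hxe : Commute x₁ e := F.comm (F.d₁.rot_mem hx₁) he
    rcases F.d₁.four hy hyc hd hdy with r | r | r | r
    · refine absurd ?_ hmv
      rw [r, one_mul, hxe.eq, mul_inv_cancel_right]
    · refine absurd ?_ hmv
      rw [r, ((Dih.rot_commute hx₁ F.d₁.z_mem_rot).mul_right hxe).eq, mul_inv_cancel_right]
    · exact Or.inl (by rw [r])
    · exact Or.inr (by rw [r, mul_assoc, (F.z₁_central (F.mem_mul hy he)).eq])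

/-- The centres lie on a graph over `D₁`. -/
theorem graph {x₁ : G} (hx₁ : x₁ ∈ zpowers c₁) (hxx₁ : x₁ * x₁ = z₁) {ea : G} (hea : ea ∈ D₂)
    (hec : ∀ e' ∈ D₂, Commute ea e') (hee : ea * ea = 1)
    (hA : ∀ x, Orb S z₁ a₁ x → x = z₁ ∨ x = a₁ * ea ∨ x = a₁ * ea * z₁) :
    ∃ K : Subgroup G, fac S D₁ c₁ z₁ ≤ K ∧ a₁ * ea ∈ K ∧ K ⊓ D₂ = ⊥ := by
  have hb : a₁ * c₁ ∉ zpowers c₁ := fun h => F.d₁.anot
    ((mul_mem_cancel_right (mem_zpowers c₁)).1 h)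
  have hbD := mul_mem F.d₁.mema F.d₁.memc
  obtain ⟨eb, hebD, hbc, hbb, hB⟩ : ∃ eb ∈ D₂, (∀ e' ∈ D₂, Commute eb e') ∧ eb * eb = 1 ∧
      ∀ x, Orb S z₁ (a₁ * c₁) x → x = z₁ ∨ x = a₁ * c₁ * eb ∨ x = a₁ * c₁ * eb * z₁ := by
    by_cases hx : ∃ x, Orb S z₁ (a₁ * c₁) x ∧ x ≠ z₁
    · obtain ⟨x, hx, hne⟩ := hx
      obtain ⟨e, he, hc, h2, hform⟩ := F.orb_form hx₁ hxx₁ hbD hb hx hne
      refine ⟨e, he, hc, h2, fun x' hx' => ?_⟩
      by_cases hne' : x' = z₁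
      · exact Or.inl hne'
      have hzz : ∀ A : G, A * z₁ * z₁ = A := fun A => by rw [mul_assoc, F.d₁.z_sq, mul_one]
      rcases F.orb_unique hx₁ hxx₁ hbD hb hx hx' hne hne' with u | u <;>
        rcases hform with f | f <;> rw [u, f] <;> try rw [hzz]
      all_goals simp
    · push Not at hx
      exact ⟨1, one_mem _, fun e' _ => Commute.one_left e', one_mul 1, fun x h => Or.inl (hx x h)⟩
  obtain ⟨f, hf⟩ : ∃ f, f = ea * eb := ⟨_, rfl⟩
  have hfD : f ∈ D₂ := hf ▸ mul_mem hea hebD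
  have hfc : ∀ e' ∈ D₂, Commute f e' := fun e' he' => hf ▸ (hec e' he').mul_left (hbc e' he')
  have hff : f * f = 1 := by rw [hf, (hec eb hebD).symm.mul_mul_mul_comm, hee, hbb, one_mul]
  have hfS : ∀ s ∈ (S : Subgroup G), Commute f s := fun s hs => by
    obtain ⟨d, hd, e, he, rfl⟩ := F.decomp hs
    exact (F.comm hd hfD).symm.mul_right (hfc e he)
  obtain ⟨C, hC⟩ : ∃ C, C = c₁ * f := ⟨_, rfl⟩
  obtain ⟨A, hA'⟩ : ∃ A, A = a₁ * ea := ⟨_, rfl⟩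
  have hcf : Commute c₁ f := F.comm F.d₁.memc hfD
  have hCn : C ^ n₁ = 1 := by
    obtain ⟨m, hm⟩ := F.d₁.even
    rw [hC, hcf.mul_pow, ← F.d₁.ord, pow_orderOf_eq_one, one_mul, F.d₁.ord, hm, pow_mul, pow_two, hff,
      one_pow]
  have hCi : ∀ i : ℤ, C ^ i = c₁ ^ i * f ^ i := fun i => hC ▸ hcf.mul_zpow i
  have hAA : A * A = 1 := by
    rw [hA', F.sq_mul F.d₁.mema hea, F.d₁.sq _ F.d₁.mema F.d₁.anot, hee, one_mul]
  have hAC : ∀ i : ℤ, A * C ^ i * A⁻¹ = C ^ (-i) := by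
    intro i
    rw [hCi, hCi, hA', F.conj_mul F.d₁.mema hea (zpow_mem F.d₁.memc i) (zpow_mem hfD i),
      F.d₁.inv _ F.d₁.mema F.d₁.anot _ (zpow_mem (mem_zpowers c₁) i),
      (hec _ (zpow_mem hfD i)).eq, mul_inv_cancel_right, ← zpow_neg]
    congr 1
    rw [zpow_neg, ← inv_zpow, inv_eq_of_mul_eq_one_right hff]
  have hAi : A⁻¹ = A := inv_eq_of_mul_eq_one_right hAA
  let K : Subgroup G :=
    { carrier := {q | ∃ i : ℤ, q = C ^ i ∨ q = A * C ^ i}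
      one_mem' := ⟨0, Or.inl (zpow_zero C).symm⟩
      mul_mem' := by
        have sw : ∀ i : ℤ, C ^ i * A = A * C ^ (-i) := fun i => by
          have := mul_inv_eq_iff_eq_mul.1 (hAC (-i))
          rw [neg_neg] at this
          exact this.symm
        rintro q q' ⟨i, h⟩ ⟨j, h'⟩
        rcases h with h | h <;> rcases h' with h' | h' <;> subst h h'
        · exact ⟨i + j, Or.inl (zpow_add C i j).symm⟩
        · exact ⟨-i + j, Or.inr (by rw [← mul_assoc, sw, mul_assoc, ← zpow_add])⟩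
        · exact ⟨i + j, Or.inr (by rw [mul_assoc, ← zpow_add])⟩
        · exact ⟨-i + j, Or.inl (by
            rw [show A * C ^ i * (A * C ^ j) = A * (C ^ i * A) * C ^ j by group, sw, ← mul_assoc, hAA,
              one_mul, ← zpow_add])⟩
      inv_mem' := by
        rintro q ⟨i, rfl | rfl⟩
        · exact ⟨-i, Or.inl (zpow_neg C i).symm⟩
        · refine ⟨i, Or.inr ?_⟩
          have h1 := hAC (-i)
          rw [neg_neg] at h1
          rw [_root_.mul_inv_rev, ← zpow_neg, hAi, ← h1]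
          conv_rhs => rw [hAi]
          rw [← mul_assoc, ← mul_assoc, hAA, one_mul] }
  have hKA : A ∈ K := ⟨0, Or.inr (by rw [zpow_zero, mul_one])⟩
  have hKC : C ∈ K := ⟨1, Or.inl (zpow_one C).symm⟩
  have hKS : K ≤ (S : Subgroup G) := by
    rintro q ⟨i, h | h⟩ <;> rw [h]
    exacts [zpow_mem (hC ▸ F.mem_mul F.d₁.memc hfD) i,
      mul_mem (hA' ▸ F.mem_mul F.d₁.mema hea) (zpow_mem (hC ▸ F.mem_mul F.d₁.memc hfD) i)]
  have hzK : z₁ ∈ K := by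
    have h2 : Even (n₁ / 2) := by
      obtain ⟨k, hk⟩ := F.d₁.pow
      rcases k with _ | _ | k
      · have := F.big; simp at hk; omega
      · have := F.big; simp at hk; omega
      · rw [hk, pow_succ, Nat.mul_div_cancel _ two_pos, pow_succ]; exact even_two.mul_left _
    obtain ⟨j, hj⟩ := h2
    have e : C ^ (n₁ / 2) = z₁ := by
      rw [hC, hcf.mul_pow, ← F.d₁.hz, hj, ← two_mul, pow_mul, pow_two, hff, one_pow, mul_one]
    exact e ▸ pow_mem hKC _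
  refine ⟨K, (closure_le _).2 ?_, hA' ▸ hKA, ?_⟩
  · rintro x ⟨y, hy, hyc, hx⟩
    -- conjugate `y` to `a₁` or `a₁ c₁`
    obtain ⟨i, hi⟩ := mem_zpowers_iff.1 ((F.d₁.cover y hy).resolve_left hyc)
    have hinv : ∀ j : ℤ, a₁ * c₁ ^ j * a₁⁻¹ = (c₁ ^ j)⁻¹ := fun j =>
      F.d₁.inv _ F.d₁.mema F.d₁.anot _ (zpow_mem (mem_zpowers c₁) j)
    obtain ⟨j, y₀, hy₀, hj⟩ : ∃ j : ℤ, ∃ y₀, (y₀ = a₁ ∨ y₀ = a₁ * c₁) ∧ c₁ ^ j * y * (c₁ ^ j)⁻¹ = y₀ := by
      have hy' : y = c₁ ^ i * a₁ := by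
        rw [hi, mul_assoc, F.d₁.sq _ F.d₁.mema F.d₁.anot, mul_one]
      have e : ∀ j : ℤ, c₁ ^ j * y * (c₁ ^ j)⁻¹ = c₁ ^ (i + 2 * j) * a₁ := fun j => by
        have h1 : a₁ * (c₁ ^ j)⁻¹ = c₁ ^ j * a₁ := by
          rw [← hinv j]
          have := F.d₁.refl_inv F.d₁.mema F.d₁.anot
          rw [this, ← mul_assoc, ← mul_assoc, F.d₁.sq _ F.d₁.mema F.d₁.anot, one_mul]
        rw [hy', show c₁ ^ j * (c₁ ^ i * a₁) * (c₁ ^ j)⁻¹ = c₁ ^ j * c₁ ^ i * (a₁ * (c₁ ^ j)⁻¹) by group,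
          h1]
        group
      rcases Int.even_or_odd i with ⟨k, hk⟩ | ⟨k, hk⟩
      · exact ⟨-k, a₁, Or.inl rfl, by rw [e, show i + 2 * -k = 0 by omega, zpow_zero, one_mul]⟩
      · refine ⟨-k - 1, a₁ * c₁, Or.inr rfl, ?_⟩
        rw [e, show i + 2 * (-k - 1) = -1 by omega, zpow_neg, zpow_one]
        have h1 := hinv 1
        rw [zpow_one, mul_inv_eq_iff_eq_mul] at h1
        exact h1.symm
    have hcS : c₁ ^ j ∈ (S : Subgroup G) := zpow_mem (F.le₁ F.d₁.memc) j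
    have hk := le_normalizer (H := (S : Subgroup G)) hcS
    have horb := F.orb_conj hk (mul_inv_eq_iff_eq_mul.2 (F.z₁_central hcS).symm.eq)
      (fun _ => F.conj_QL hk hj) hx
    have hmem : c₁ ^ j * x * (c₁ ^ j)⁻¹ ∈ K := by
      have hB' : A * C = a₁ * c₁ * eb := by
        have hee' : ea * f = eb := by rw [hf, ← mul_assoc, hee, one_mul]
        rw [hA', hC, (F.comm F.d₁.memc hea).symm.mul_mul_mul_comm, hee']
      rcases hy₀ with h | h <;> rw [h] at horb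
      · rcases hA _ horb with h' | h' | h' <;> rw [h']
        exacts [hzK, hA' ▸ hKA, mul_mem (hA' ▸ hKA) hzK]
      · rcases hB _ horb with h' | h' | h' <;> rw [h']
        exacts [hzK, hB' ▸ mul_mem hKA hKC, mul_mem (hB' ▸ mul_mem hKA hKC) hzK]
    have hxS : x ∈ (S : Subgroup G) := (mem_QL.1 (F.orb_mem hy hx)).1
    have hxK : C ^ j * x * (C ^ j)⁻¹ ∈ K := by
      have hfj : Commute (f ^ j) x := (hfS x hxS).zpow_left j
      rw [hCi, _root_.mul_inv_rev,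
        show c₁ ^ j * f ^ j * x * ((f ^ j)⁻¹ * (c₁ ^ j)⁻¹) = c₁ ^ j * (f ^ j * x * (f ^ j)⁻¹) * (c₁ ^ j)⁻¹
          by group, hfj.eq, mul_inv_cancel_right]
      exact hmem
    have hCj := zpow_mem hKC j
    exact (mul_mem_cancel_left hCj).1 ((mul_mem_cancel_right (inv_mem hCj)).1 hxK)
  · rw [eq_bot_iff]
    rintro q ⟨⟨i, h⟩, hq⟩
    rcases h with h | h
    · obtain ⟨e1, -⟩ := F.unique (zpow_mem F.d₁.memc i) (zpow_mem hfD i) (one_mem _) hq
        (by rw [one_mul, ← hCi, ← h])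
      have hd : (n₁ : ℤ) ∣ i := F.d₁.ord ▸ orderOf_dvd_iff_zpow_eq_one.2 e1
      obtain ⟨k, rfl⟩ := hd
      rw [mem_bot, h, zpow_mul, zpow_natCast, hCn, one_zpow]
    · rw [hA', hCi, (F.comm (zpow_mem F.d₁.memc i) hea).symm.mul_mul_mul_comm] at h
      obtain ⟨e1, -⟩ := F.unique (mul_mem F.d₁.mema (zpow_mem F.d₁.memc i))
        (mul_mem hea (zpow_mem hfD i)) (one_mem _) hq (by rw [one_mul, ← h])
      refine absurd ?_ F.d₁.anot
      rw [eq_inv_of_mul_eq_one_left e1]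
      exact inv_mem (zpow_mem (mem_zpowers c₁) i)

theorem fac_inf {x₁ : G} (hx₁ : x₁ ∈ zpowers c₁) (hxx₁ : x₁ * x₁ = z₁) :
    fac S D₁ c₁ z₁ ⊓ D₂ = ⊥ := by
  obtain ⟨ea, hea, hec, hee, hA⟩ : ∃ ea ∈ D₂, (∀ e' ∈ D₂, Commute ea e') ∧ ea * ea = 1 ∧
      ∀ x, Orb S z₁ a₁ x → x = z₁ ∨ x = a₁ * ea ∨ x = a₁ * ea * z₁ := by
    by_cases hx : ∃ x, Orb S z₁ a₁ x ∧ x ≠ z₁
    · obtain ⟨x, hx, hne⟩ := hx
      obtain ⟨e, he, hc, h2, hform⟩ := F.orb_form hx₁ hxx₁ F.d₁.mema F.d₁.anot hx hne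
      refine ⟨e, he, hc, h2, fun x' hx' => ?_⟩
      by_cases hne' : x' = z₁
      · exact Or.inl hne'
      have hzz : ∀ A : G, A * z₁ * z₁ = A := fun A => by rw [mul_assoc, F.d₁.z_sq, mul_one]
      rcases F.orb_unique hx₁ hxx₁ F.d₁.mema F.d₁.anot hx hx' hne hne' with u | u <;>
        rcases hform with f | f <;> rw [u, f] <;> try rw [hzz]
      all_goals simp
    · push Not at hx
      exact ⟨1, one_mem _, fun e' _ => Commute.one_left e', one_mul 1, fun x h => Or.inl (hx x h)⟩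
  obtain ⟨K, hK, -, hK2⟩ := F.graph hx₁ hxx₁ hea hec hee hA
  exact eq_bot_iff.2 (hK2 ▸ inf_le_inf_right _ hK)

/-- Every reflection carries a centre other than `z₁`, if the centres project onto `D₁`. -/
theorem orb_exists {x₁ : G} (hx₁ : x₁ ∈ zpowers c₁) (hxx₁ : x₁ * x₁ = z₁) {y : G} (hy : y ∈ D₁)
    (hyc : y ∉ zpowers c₁) (hsurj : ∃ e ∈ D₂, y * e ∈ fac S D₁ c₁ z₁) :
    ∃ x, Orb S z₁ y x ∧ x ≠ z₁ := by
  by_contra hno
  push Not at hno
  have hd : Dih D₁ c₁ y z₁ n₁ := ⟨F.d₁.memc, hy, F.d₁.ord, F.d₁.two, F.d₁.pow, F.d₁.hz,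
    fun v hv => if h : v ∈ zpowers c₁ then Or.inl h else Or.inr (F.d₁.refl_mul hv h hy hyc),
    F.d₁.sq, F.d₁.inv, hyc⟩
  have F' : Frame S D₁ D₂ c₁ y z₁ c₂ a₂ z₂ n₁ n₂ := ⟨F.prod, hd, F.d₂, F.big⟩
  obtain ⟨e, he, hq⟩ := hsurj
  have key : ∀ ea, ea ∈ D₂ → (∀ e' ∈ D₂, Commute ea e') → ea * ea = 1 → ea = e := by
    intro ea hea hec hee
    obtain ⟨K, hK, hyK, hK2⟩ := F'.graph hx₁ hxx₁ hea hec hee fun x h => Or.inl (hno x h)
    have hm : ea⁻¹ * e ∈ K ⊓ D₂ := by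
      refine Subgroup.mem_inf.2 ⟨?_, mul_mem (inv_mem hea) he⟩
      have := mul_mem (inv_mem hyK) (hK hq)
      rwa [show (y * ea)⁻¹ * (y * e) = ea⁻¹ * e by group] at this
    rw [hK2, mem_bot, inv_mul_eq_one] at hm
    exact hm
  refine F.d₂.z_ne_one ((key z₂ F.d₂.z_mem (fun e' he' => F.d₂.z_comm he') F.d₂.z_sq).trans
    (key 1 (one_mem _) (fun e' _ => Commute.one_left e') (one_mul 1)).symm)

theorem exists_proj₁ : ∃ π : (S : Subgroup G) →* D₁, ∀ (s : (S : Subgroup G)), ∀ d ∈ D₁, ∀ e ∈ D₂,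
    (s : G) = d * e → (π s : G) = d := by
  classical
  choose fd hfd fe hfe hdec using fun s : (S : Subgroup G) => F.decomp s.2
  refine ⟨{ toFun := fun s => ⟨fd s, hfd s⟩, map_one' := ?_, map_mul' := ?_ },
    fun s d hd e he h => (F.unique hd he (hfd s) (hfe s) (h.symm.trans (hdec s))).1.symm⟩
  · exact Subtype.ext (F.unique (hfd 1) (hfe 1) (one_mem _) (one_mem _)
      (by rw [← hdec, one_mul]; rfl)).1
  · intro s t
    refine Subtype.ext (F.unique (hfd (s * t)) (hfe (s * t)) (mul_mem (hfd s) (hfd t))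
      (mul_mem (hfe s) (hfe t)) ?_).1
    rw [← hdec, Subgroup.coe_mul, hdec s, hdec t, (F.comm (hfd t) (hfe s)).symm.mul_mul_mul_comm]

theorem exists_proj₂ : ∃ π : (S : Subgroup G) →* D₂, ∀ (s : (S : Subgroup G)), ∀ d ∈ D₁, ∀ e ∈ D₂,
    (s : G) = d * e → (π s : G) = e := by
  classical
  choose fd hfd fe hfe hdec using fun s : (S : Subgroup G) => F.decomp s.2
  refine ⟨{ toFun := fun s => ⟨fe s, hfe s⟩, map_one' := ?_, map_mul' := ?_ },
    fun s d hd e he h => (F.unique hd he (hfd s) (hfe s) (h.symm.trans (hdec s))).2.symm⟩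
  · exact Subtype.ext (F.unique (hfd 1) (hfe 1) (one_mem _) (one_mem _)
      (by rw [← hdec, one_mul]; rfl)).2
  · intro s t
    refine Subtype.ext (F.unique (hfd (s * t)) (hfe (s * t)) (mul_mem (hfd s) (hfd t))
      (mul_mem (hfe s) (hfe t)) ?_).2
    rw [← hdec, Subgroup.coe_mul, hdec s, hdec t, (F.comm (hfd t) (hfe s)).symm.mul_mul_mul_comm]

/-- A subgroup of `S` meeting `D₂` trivially embeds into `D₁`. -/
theorem embed₁ {K : Subgroup G} (hKS : K ≤ (S : Subgroup G)) (hK : K ⊓ D₂ = ⊥) :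
    Nat.card K ≤ Nat.card D₁ ∧ (Nat.card K = Nat.card D₁ → Nonempty (K ≃* D₁)) := by
  obtain ⟨π, hπ⟩ := F.exists_proj₁
  have hinj : Function.Injective (π.comp (inclusion hKS)) := by
    refine (injective_iff_map_eq_one _).2 fun k hk => ?_
    obtain ⟨d, hd, e, he, hde⟩ := F.decomp (hKS k.2)
    have hd1 : d = 1 := by rw [← hπ (inclusion hKS k) d hd e he hde]; exact congrArg Subtype.val hk
    rw [hd1, one_mul] at hde
    have : (k : G) ∈ K ⊓ D₂ := ⟨k.2, hde ▸ he⟩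
    rw [hK, mem_bot] at this
    exact Subtype.ext this
  exact ⟨Nat.card_le_card_of_injective _ hinj, fun h => ⟨MulEquiv.ofBijective _
    ((Nat.bijective_iff_injective_and_card _).2 ⟨hinj, h⟩)⟩⟩

/-- A subgroup of `S` meeting `D₁` trivially embeds into `D₂`. -/
theorem embed₂ {K : Subgroup G} (hKS : K ≤ (S : Subgroup G)) (hK : K ⊓ D₁ = ⊥) :
    Nat.card K ≤ Nat.card D₂ ∧ (Nat.card K = Nat.card D₂ → Nonempty (K ≃* D₂)) := by
  obtain ⟨π, hπ⟩ := F.exists_proj₂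
  have hinj : Function.Injective (π.comp (inclusion hKS)) := by
    refine (injective_iff_map_eq_one _).2 fun k hk => ?_
    obtain ⟨d, hd, e, he, hde⟩ := F.decomp (hKS k.2)
    have hd1 : e = 1 := by rw [← hπ (inclusion hKS k) d hd e he hde]; exact congrArg Subtype.val hk
    rw [hd1, mul_one] at hde
    have : (k : G) ∈ K ⊓ D₁ := ⟨k.2, hde ▸ hd⟩
    rw [hK, mem_bot] at this
    exact Subtype.ext this
  exact ⟨Nat.card_le_card_of_injective _ hinj, fun h => ⟨MulEquiv.ofBijective _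
    ((Nat.bijective_iff_injective_and_card _).2 ⟨hinj, h⟩)⟩⟩

end Frame

end Cfsg.Lib.TwoFusion.DihProd
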