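import Cfsg.Agent.Lib.TwoFusion.DihedralProduct.Factors

/-!
# The conjugates of a quarter turn fix the second factor
-/

set_option autoImplicit false
set_option linter.style.haveILetI false
set_option linter.unusedSectionVars false

open Subgroup

namespace Cfsg.Lib.TwoFusion.DihProd

open Cfsg.Lib.Fusion (Moves)

variable {G : Type*} [Group G] [Finite G] {S : Sylow 2 G} {D₁ D₂ : Subgroup G}
  {c₁ a₁ z₁ c₂ a₂ z₂ : G} {n₁ n₂ : ℕ}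

namespace Frame

variable (F : Frame S D₁ D₂ c₁ a₁ z₁ c₂ a₂ z₂ n₁ n₂)

include F

variable {x₁ : G} (hx₁ : x₁ ∈ zpowers c₁) (hxx₁ : x₁ * x₁ = z₁)

include hx₁ hxx₁

theorem tv_moves {R : G → G → Prop} (hrefl : ∀ x, R x x)
    (hR : ∀ y ∈ D₁, y ∉ zpowers c₁ →
      (∀ g ∈ normalizer (QL S y : Set G), ∀ a ∈ QL S y,
        g * x₁ * g⁻¹ * a * (g * x₁ * g⁻¹)⁻¹ = a * (g * z₁ * g⁻¹) → R a (a * (g * z₁ * g⁻¹))) ∧
      ∀ w ∈ D₂, w ∉ zpowers c₂ → ∀ g ∈ normalizer (EL S y w : Set G), ∀ a ∈ EL S y w,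
        g * x₁ * g⁻¹ * a * (g * x₁ * g⁻¹)⁻¹ = a * (g * z₁ * g⁻¹) → R a (a * (g * z₁ * g⁻¹))) :
    TvMoves R S D₁ D₂ c₁ c₂ x₁ := by
  intro y hy hyc
  refine ⟨fun g hg a ha => ?_, fun w hw hwc g hg a ha => ?_⟩
  · have hu := (F.tv_QL hx₁ hxx₁ hy hyc le_rfl (F.z₁_mem_QL hy)
      (mem_QL.2 ⟨F.le₁ hy, Commute.refl y⟩)).conj hg
    rcases hu.move a ha with e | e
    · rw [e]; exact hrefl a
    · rw [e]; exact (hR y hy hyc).1 g hg a ha e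
  · have r : Rect S D₁ D₂ c₁ a₁ z₁ c₂ a₂ z₂ n₁ n₂ y w := ⟨F, hy, hyc, hw, hwc⟩
    rcases ((r.tv₁ hx₁ hxx₁).conj hg).move a ha with e | e
    · rw [e]; exact hrefl a
    · rw [e]; exact ((hR y hy hyc).2 w hw hwc) g hg a ha e

theorem centre_mem_QL {y : G} (hy : y ∈ D₁) (hyc : y ∉ zpowers c₁) {g : G}
    (hg : g ∈ normalizer (QL S y : Set G)) : g * z₁ * g⁻¹ ∈ fac S D₁ c₁ z₁ :=
  subset_closure ⟨y, hy, hyc, g, hg, rfl⟩

theorem centre_mem_EL {y w : G} (hy : y ∈ D₁) (hyc : y ∉ zpowers c₁) (hw : w ∈ D₂)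
    (hwc : w ∉ zpowers c₂) {g : G} (hg : g ∈ normalizer (EL S y w : Set G)) :
    g * z₁ * g⁻¹ ∈ fac S D₁ c₁ z₁ :=
  subset_closure ⟨y, hy, hyc,
    (⟨F, hy, hyc, hw, hwc⟩ : Rect S D₁ D₂ c₁ a₁ z₁ c₂ a₂ z₂ n₁ n₂ y w).orb_of_centre hx₁ hxx₁ hg⟩

variable {x₂ : G} (hx₂ : x₂ ∈ zpowers c₂) (hxx₂ : x₂ * x₂ = z₂) (h4 : 4 ≤ n₂)

include hx₂ hxx₂ h4

/-- A centre over `w` is one over every `V × W`. -/
theorem orb_lift {y w x : G} (hy : y ∈ D₁) (hyc : y ∉ zpowers c₁) (hw : w ∈ D₂)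
    (hwc : w ∉ zpowers c₂) (h : Orb S z₂ w x) :
    ∃ k ∈ normalizer (EL S y w : Set G), k * z₂ * k⁻¹ = x := by
  rcases eq_or_ne x z₂ with rfl | hne
  · exact ⟨1, one_mem _, by group⟩
  have hm := ((F.swap h4).orb_cases hx₂ hxx₂ hw hwc h).resolve_left hne
  obtain ⟨g, hg, rfl⟩ := h
  have r : Rect S D₂ D₁ c₂ a₂ z₂ c₁ a₁ z₁ n₂ n₁ w y := ⟨F.swap h4, hw, hwc, hy, hyc⟩
  obtain ⟨k, hk, e, -⟩ := r.local_of_tv hx₂ hxx₂ le_rfl EL_le_QL hg hm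
  exact ⟨k, EL_comm (S := S) ▸ hk, e⟩

/-- A conjugate of the quarter turn at `V × D₂` fixes the centres of the second kind. -/
theorem fix_QL {y w : G} (hy : y ∈ D₁) (hyc : y ∉ zpowers c₁) (hw : w ∈ D₂) (hwc : w ∉ zpowers c₂)
    {g : G} (hg : g ∈ normalizer (QL S y : Set G)) {k : G}
    (hk : k ∈ normalizer (EL S y w : Set G)) :
    g * x₁ * g⁻¹ * (k * z₂ * k⁻¹) * (g * x₁ * g⁻¹)⁻¹ = k * z₂ * k⁻¹ := by
  have r : Rect S D₁ D₂ c₁ a₁ z₁ c₂ a₂ z₂ n₁ n₂ y w := ⟨F, hy, hyc, hw, hwc⟩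
  have hkE : k * z₂ * k⁻¹ ∈ EL S y w := conj_mem_of_mem_normalizer hk r.mem_z₂
  have hu := (F.tv_QL hx₁ hxx₁ hy hyc le_rfl (F.z₁_mem_QL hy)
    (mem_QL.2 ⟨F.le₁ hy, Commute.refl y⟩)).conj hg
  rcases F.orb_cases hx₁ hxx₁ hy hyc ⟨g, hg, rfl⟩ with hz | hm
  · by_cases hne : ∃ q ∈ EL S y w, g * x₁ * g⁻¹ * q * (g * x₁ * g⁻¹)⁻¹ ≠ q
    · obtain ⟨hxS, hxy⟩ := mem_QL.1 hu.mem
      have hxE : g * z₁ * g⁻¹ ∈ EL S y w := mem_EL.2 ⟨hxS, hxy, hu.cen w (EL_le_QL r.mem_w)⟩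
      have huN : g * x₁ * g⁻¹ ∈ normalizer (EL S y w : Set G) := mem_normalizer_fintype fun q hq => by
        rcases hu.move q (EL_le_QL hq) with e | e <;> rw [e]
        exacts [hq, mul_mem hq hxE]
      obtain ⟨j, hj⟩ := r.quarter_order hx₁ hxx₁ (h := g)
      rcases r.tv_class hx₁ hxx₁ huN hj ⟨hxE, hu.sq, fun q hq => hu.cen q (EL_le_QL hq), hu.fix,
          fun q hq => hu.move q (EL_le_QL hq), hne⟩ with ⟨h, hh, -, hs⟩ | ⟨hn, h, hh, e⟩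
      · rw [hs _ hkE]
        exact r.fix₂ hx₁ hxx₁ hx₂ hxx₂ hh hk
      · have r' : Rect S D₂ D₁ c₂ a₂ z₂ c₁ a₁ z₁ n₂ n₁ w y := ⟨F.swap h4, hw, hwc, hy, hyc⟩
        have hf : x₂ * (h * z₂ * h⁻¹) * x₂⁻¹ = h * z₂ * h⁻¹ := by
          rw [e, hz, ← (F.z₁_central (F.le₂ (F.d₂.rot_mem hx₂))).eq, mul_inv_cancel_right]
        have e2 := (r'.centre_fixed hx₂ hxx₂ (EL_comm (S := S) ▸ hh) hf).1
        rw [e, hz] at e2
        exact absurd e2 r.z_ne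
    · push Not at hne
      exact hne _ hkE
  · obtain ⟨h, hh, -, hs⟩ := r.local_of_tv hx₁ hxx₁ le_rfl EL_le_QL hg hm
    rw [hs _ hkE]
    exact r.fix₂ hx₁ hxx₁ hx₂ hxx₂ hh hk

theorem fac₂_fixed_QL {y : G} (hy : y ∈ D₁) (hyc : y ∉ zpowers c₁) {g : G}
    (hg : g ∈ normalizer (QL S y : Set G)) {a : G} (ha : a ∈ fac S D₂ c₂ z₂) :
    g * x₁ * g⁻¹ * a * (g * x₁ * g⁻¹)⁻¹ = a := by
  have hle : fac S D₂ c₂ z₂ ≤ (MulAut.conj (g * x₁ * g⁻¹)).toMonoidHom.eqLocus (MonoidHom.id G) := by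
    rw [fac, closure_le]
    rintro x ⟨w, hw, hwc, hx⟩
    obtain ⟨k, hk, rfl⟩ := F.orb_lift hx₁ hxx₁ hx₂ hxx₂ h4 hy hyc hw hwc hx
    exact F.fix_QL hx₁ hxx₁ hx₂ hxx₂ h4 hy hyc hw hwc hg hk
  exact hle ha

theorem fac₂_fixed_EL (hinf : fac S D₂ c₂ z₂ ⊓ D₁ = ⊥)
    (hex : ∀ w ∈ D₂, w ∉ zpowers c₂ → ∃ x, Orb S z₂ w x ∧ x ≠ z₂)
    {y w : G} (hy : y ∈ D₁) (hyc : y ∉ zpowers c₁) (hw : w ∈ D₂) (hwc : w ∉ zpowers c₂) {g : G}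
    (hg : g ∈ normalizer (EL S y w : Set G)) {a : G} (ha : a ∈ fac S D₂ c₂ z₂)
    (haE : a ∈ EL S y w) : g * x₁ * g⁻¹ * a * (g * x₁ * g⁻¹)⁻¹ = a := by
  have F' := F.swap h4
  have r : Rect S D₁ D₂ c₁ a₁ z₁ c₂ a₂ z₂ n₁ n₂ y w := ⟨F, hy, hyc, hw, hwc⟩
  obtain ⟨K, hK⟩ : ∃ K, K = fac S D₂ c₂ z₂ ⊓
      (MulAut.conj (g * x₁ * g⁻¹)).toMonoidHom.eqLocus (MonoidHom.id G) := ⟨_, rfl⟩
  have hfix : ∀ {x}, Orb S z₂ w x → x ∈ K := by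
    intro x hx
    rw [hK]
    refine Subgroup.mem_inf.2 ⟨subset_closure ⟨w, hw, hwc, hx⟩, ?_⟩
    obtain ⟨k, hk, rfl⟩ := F.orb_lift hx₁ hxx₁ hx₂ hxx₂ h4 hy hyc hw hwc hx
    exact r.fix₂ hx₁ hxx₁ hx₂ hxx₂ hg hk
  have hz : z₂ ∈ K := hfix F'.orb_z
  obtain ⟨x, hx, hne⟩ := hex w hw hwc
  obtain ⟨e'', he'', -, -, hform⟩ := F'.orb_form hx₂ hxx₂ hw hwc hx hne
  have hf : w * e'' ∈ K := by
    rcases hform with h | h
    · exact h ▸ hfix hx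
    · exact (mul_mem_cancel_right hz).1 (h ▸ hfix hx)
  obtain ⟨haS, -, haw⟩ := mem_EL.1 haE
  obtain ⟨d, hd, e, he, rfl⟩ := F.decomp haS
  have hew : Commute e w := by
    have h' : Commute (d * e) (1 * w) := by rw [one_mul]; exact haw
    exact ((F.commute_iff hd he (one_mem _) hw).1 h').2
  have hcand : ∃ d' ∈ D₁, e * d' ∈ K := by
    rcases F.d₂.four hw hwc he hew with h | h | h | h <;> rw [h]
    · exact ⟨1, one_mem _, by rw [mul_one]; exact one_mem _⟩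
    · exact ⟨1, one_mem _, by rw [mul_one]; exact hz⟩
    · exact ⟨e'', he'', hf⟩
    · exact ⟨e'', he'', by rw [mul_assoc]; exact mul_mem hz hf⟩
  obtain ⟨d', hd', hq⟩ := hcand
  have hq' : e * d' ∈ fac S D₂ c₂ z₂ := (Subgroup.mem_inf.1 (hK ▸ hq)).1
  have hmem : d * d'⁻¹ ∈ fac S D₂ c₂ z₂ ⊓ D₁ := by
    refine Subgroup.mem_inf.2 ⟨?_, mul_mem hd (inv_mem hd')⟩
    have := mul_mem ha (inv_mem hq')
    rwa [_root_.mul_inv_rev, (F.comm (inv_mem hd') (inv_mem he)).eq,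
      show d * e * (e⁻¹ * d'⁻¹) = d * d'⁻¹ by group] at this
  rw [hinf, mem_bot, mul_inv_eq_one] at hmem
  rw [hmem, (F.comm hd' he).eq]
  exact (Subgroup.mem_inf.1 (hK ▸ hq)).2

end Frame

namespace Frame

variable (F : Frame S D₁ D₂ c₁ a₁ z₁ c₂ a₂ z₂ n₁ n₂) (h2 : n₂ = 2) {x₁ : G} (hx₁ : x₁ ∈ zpowers c₁)
  (hxx₁ : x₁ * x₁ = z₁)

include F h2

theorem oddSet_form {x : G} (hx : x ∈ oddSet S) :
    ∃ d e, (d = 1 ∨ d = z₁) ∧ e ∈ D₂ ∧ x = d * e := by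
  obtain ⟨q, hq, g, hg, hm, rfl⟩ := hx
  obtain ⟨d, hd, e, he, rfl⟩ := F.decomp hq
  obtain ⟨e', he', h⟩ := F.odd_normalizer_small h2 hg hm hd he
  rcases h with h | h <;> rw [h]
  · exact ⟨1, e⁻¹ * e', Or.inl rfl, mul_mem (inv_mem he) he', by group⟩
  · refine ⟨z₁, e⁻¹ * e', Or.inr rfl, mul_mem (inv_mem he) he', ?_⟩
    rw [show (d * e)⁻¹ * (d * z₁ * e') = e⁻¹ * (z₁ * e') by group, ← mul_assoc,
      (F.comm F.d₁.z_mem (inv_mem he)).symm.eq, mul_assoc]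

theorem oddSet_central {x : G} (hx : x ∈ oddSet S) :
    x ∈ (S : Subgroup G) ∧ x * x = 1 ∧ ∀ s ∈ (S : Subgroup G), Commute x s := by
  obtain ⟨d, e, hd, he, rfl⟩ := F.oddSet_form h2 hx
  have hdD : d ∈ D₁ := by
    rcases hd with rfl | rfl
    exacts [one_mem _, F.d₁.z_mem]
  have hdd : d * d = 1 := by
    rcases hd with rfl | rfl
    exacts [mul_one 1, F.d₁.z_sq]
  refine ⟨F.mem_mul hdD he, by rw [F.sq_mul hdD he, hdd, F.d₂.sq_of_two h2 he, one_mul], fun s hs => ?_⟩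
  obtain ⟨f, hf, f', hf', rfl⟩ := F.decomp hs
  refine (F.commute_iff hdD he hf hf').2 ⟨?_, F.d₂.commute_of_two h2 he hf'⟩
  rcases hd with rfl | rfl
  exacts [Commute.one_left f, F.d₁.z_comm hf]

include hx₁ hxx₁

theorem odd_fix_z₁ {g : G} (hg : g ∈ normalizer ((S : Subgroup G) : Set G)) (hm : Odd (orderOf g)) :
    g * z₁ * g⁻¹ = z₁ := by
  have hxS := F.le₁ (F.d₁.rot_mem hx₁)
  obtain ⟨ζ, hζ⟩ : ∃ ζ, ζ = x₁⁻¹ * (g * x₁ * g⁻¹) := ⟨_, rfl⟩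
  obtain ⟨hζS, hζζ, hζc⟩ := F.oddSet_central h2
    (show ζ ∈ oddSet S from ⟨x₁, hxS, g, hg, hm, hζ⟩)
  have e : g * x₁ * g⁻¹ = x₁ * ζ := by rw [hζ, mul_inv_cancel_left]
  rw [← hxx₁, show g * (x₁ * x₁) * g⁻¹ = g * x₁ * g⁻¹ * (g * x₁ * g⁻¹) by group, e,
    (hζc x₁ hxS).mul_mul_mul_comm, hζζ, mul_one]

omit hx₁ hxx₁ in
theorem odd_normalizes {g : G} (hg : g ∈ normalizer ((S : Subgroup G) : Set G)) (hm : Odd (orderOf g))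
    {y : G} (hy : y ∈ D₁) : g ∈ normalizer (QL S y : Set G) := by
  refine mem_normalizer_fintype fun q hq => ?_
  obtain ⟨hqS, hqy⟩ := mem_QL.1 hq
  obtain ⟨ζ, hζ⟩ : ∃ ζ, ζ = q⁻¹ * (g * q * g⁻¹) := ⟨_, rfl⟩
  obtain ⟨hζS, -, hζc⟩ := F.oddSet_central h2
    (show ζ ∈ oddSet S from ⟨q, hqS, g, hg, hm, hζ⟩)
  have e : g * q * g⁻¹ = q * ζ := by rw [hζ, mul_inv_cancel_left]
  rw [SetLike.mem_coe, e]
  exact mem_QL.2 ⟨mul_mem hqS hζS, hqy.mul_left (hζc y (F.le₁ hy))⟩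

theorem oddSet_fixed {y : G} (hy : y ∈ D₁) (hyc : y ∉ zpowers c₁) {g' : G}
    (hg' : g' ∈ normalizer (QL S y : Set G)) {a : G} (ha : a ∈ closure (oddSet S)) :
    g' * x₁ * g'⁻¹ * a * (g' * x₁ * g'⁻¹)⁻¹ = a := by
  have hle : closure (oddSet S) ≤ (MulAut.conj (g' * x₁ * g'⁻¹)).toMonoidHom.eqLocus (MonoidHom.id G) := by
    rw [closure_le]
    intro ζ hζ
    show g' * x₁ * g'⁻¹ * ζ * (g' * x₁ * g'⁻¹)⁻¹ = ζ
    have r : Rect S D₁ D₂ c₁ a₁ z₁ c₂ a₂ z₂ n₁ n₂ y a₂ := ⟨F, hy, hyc, F.d₂.mema, F.d₂.anot⟩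
    have hE : EL S y a₂ = QL S y := F.EL_eq_of_two h2 F.d₂.mema hy
    have hg'E : g' ∈ normalizer (EL S y a₂ : Set G) := hE.symm ▸ hg'
    obtain ⟨x, hx⟩ : ∃ x, x = g' * z₁ * g'⁻¹ := ⟨_, rfl⟩
    obtain ⟨u, hu⟩ : ∃ u, u = g' * x₁ * g'⁻¹ := ⟨_, rfl⟩
    obtain ⟨hζS, -, hζc⟩ := F.oddSet_central h2 hζ
    have hmemE : ∀ {a}, a ∈ (S : Subgroup G) → (∀ s ∈ (S : Subgroup G), Commute a s) → a ∈ EL S y a₂ :=
      fun haS hac => mem_EL.2 ⟨haS, hac y (F.le₁ hy), hac a₂ (F.le₂ F.d₂.mema)⟩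
    have hζE := hmemE hζS hζc
    rcases eq_or_ne x z₁ with hxz | hxz
    · have hxS := F.le₁ (F.d₁.rot_mem hx₁)
      rw [((r.centre_fixed hx₁ hxx₁ hg'E (by
        rw [← hx, hxz, (F.z₁_central hxS).symm.eq, mul_inv_cancel_right])).2) ζ hζE,
        (hζc x₁ hxS).symm.eq, mul_inv_cancel_right]
    rw [← hu]
    have hT : Tv (EL S y a₂) u x := hu ▸ hx ▸ (r.tv₁ hx₁ hxx₁).conj hg'E
    obtain ⟨q, hqS, g, hg, hm, hζq⟩ := hζ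
    have hgE : g ∈ normalizer (EL S y a₂ : Set G) := hE.symm ▸ F.odd_normalizes h2 hg hm hy
    have hgz := F.odd_fix_z₁ h2 hx₁ hxx₁ hg hm
    have hxz' : g * x * g⁻¹ ≠ z₁ := fun e => hxz
      (mul_left_cancel (mul_right_cancel (e.trans hgz.symm)))
    -- `g` fixes `x`
    have hgx : g * x * g⁻¹ = x := by
      have hgg : g * g * x * (g * g)⁻¹ = x := by
        have hc := r.centre_unique hx₁ hxx₁ hg'E (mul_mem hgE hg'E)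
          (hx ▸ hxz) (by rwa [show g * g' * z₁ * (g * g')⁻¹ = g * (g' * z₁ * g'⁻¹) * g⁻¹ by group, ← hx])
        rw [show g * g' * z₁ * (g * g')⁻¹ = g * (g' * z₁ * g'⁻¹) * g⁻¹ by group, ← hx] at hc
        rw [show g * g * x * (g * g)⁻¹ = g * (g * x * g⁻¹) * g⁻¹ by group]
        rcases hc with h | h <;> rw [h]
        · exact h
        · rw [show g * (x * z₁) * g⁻¹ = g * x * g⁻¹ * (g * z₁ * g⁻¹) by group, hgz, h, mul_assoc,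
            F.d₁.z_sq, mul_one]
      obtain ⟨k, hk⟩ := hm
      have he : g = (g * g) ^ (k + 1) := by
        rw [← pow_two, ← pow_mul, show 2 * (k + 1) = orderOf g + 1 by omega, pow_succ,
          pow_orderOf_eq_one, one_mul]
      have hm' : g * g ∈ centralizer ({x} : Set G) :=
        mem_centralizer_singleton_iff.2 (mul_inv_eq_iff_eq_mul.1 hgg)
      have : g ∈ centralizer ({x} : Set G) := he ▸ pow_mem hm' _
      rw [mem_centralizer_singleton_iff.1 this, mul_inv_cancel_right]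
    have hsame : Same (EL S y a₂) (g * u * g⁻¹) u := by
      have := r.same_of_centre hx₁ hxx₁ (mul_mem hgE hg'E) hg'E
        (by rw [show g * g' * z₁ * (g * g')⁻¹ = g * (g' * z₁ * g'⁻¹) * g⁻¹ by group, ← hx, hgx])
      rwa [show g * g' * x₁ * (g * g')⁻¹ = g * (g' * x₁ * g'⁻¹) * g⁻¹ by group, ← hu] at this
    have hgu : ∀ a ∈ EL S y a₂, u * (g * a * g⁻¹) * u⁻¹ = g * (u * a * u⁻¹) * g⁻¹ := by
      intro a ha
      rw [← hsame _ (conj_mem_of_mem_normalizer hgE ha)]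
      group
    -- the fixed central elements
    let K : Subgroup G :=
      { carrier := {a | a ∈ (S : Subgroup G) ∧ (∀ s ∈ (S : Subgroup G), Commute a s) ∧ u * a * u⁻¹ = a}
        one_mem' := ⟨one_mem _, fun s _ => Commute.one_left s, by group⟩
        mul_mem' := fun {a b} ha hb => ⟨mul_mem ha.1 hb.1, fun s hs => (ha.2.1 s hs).mul_left (hb.2.1 s hs),
          by rw [show u * (a * b) * u⁻¹ = u * a * u⁻¹ * (u * b * u⁻¹) by group, ha.2.2, hb.2.2]⟩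
        inv_mem' := fun {a} ha => ⟨inv_mem ha.1, fun s hs => (ha.2.1 s hs).inv_left,
          by rw [show u * a⁻¹ * u⁻¹ = (u * a * u⁻¹)⁻¹ by group, ha.2.2]⟩ }
    have hgc : ∀ a, a ∈ (S : Subgroup G) → (∀ s ∈ (S : Subgroup G), Commute a s) →
        g * a * g⁻¹ ∈ (S : Subgroup G) ∧ ∀ s ∈ (S : Subgroup G), Commute (g * a * g⁻¹) s := by
      intro a haS hac
      refine ⟨conj_mem_of_mem_normalizer hg haS, fun s hs => ?_⟩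
      have h1 := (hac _ (conj_mem_of_mem_normalizer (inv_mem hg) hs)).map (MulAut.conj g).toMonoidHom
      simp only [MulEquiv.coe_toMonoidHom, MulAut.conj_apply] at h1
      rwa [show g * (g⁻¹ * s * g⁻¹⁻¹) * g⁻¹ = s by group] at h1
    have hKg : ∀ a ∈ K, g * a * g⁻¹ ∈ K := fun a ⟨haS, hac, hau⟩ =>
      ⟨(hgc a haS hac).1, (hgc a haS hac).2, by rw [hgu a (hmemE haS hac), hau]⟩
    obtain ⟨hgS, hgC⟩ := hgc ζ hζS hζc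
    have hd : ζ⁻¹ * (g * ζ * g⁻¹) ∈ K := by
      refine ⟨mul_mem (inv_mem hζS) hgS, fun s hs => (hζc s hs).inv_left.mul_left (hgC s hs), ?_⟩
      rw [show u * (ζ⁻¹ * (g * ζ * g⁻¹)) * u⁻¹ = (u * ζ * u⁻¹)⁻¹ * (u * (g * ζ * g⁻¹) * u⁻¹) by group,
        hgu ζ hζE]
      rcases hT.move ζ hζE with h | h <;> rw [h]
      rw [show g * (ζ * x) * g⁻¹ = g * ζ * g⁻¹ * (g * x * g⁻¹) by group, hgx,
        (hgC x (mem_EL.1 hT.mem).1).eq, (hζc x (mem_EL.1 hT.mem).1).eq]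
      group
    have hpow : ζ ^ orderOf g ∈ K := shift_mem (q := q)
      (by rw [hζq, mul_inv_cancel_left]) hd hKg (fun z hz => hζc z hz.1)
    exact (mem_of_odd_pow hζS hm hpow).2.2
  exact hle ha

theorem z₁_not_mem (hex : ∃ y ∈ D₁, y ∉ zpowers c₁ ∧ ∃ x, Orb S z₁ y x ∧ x ≠ z₁) :
    z₁ ∉ closure (oddSet S) := by
  obtain ⟨y, hy, hyc, x, ⟨g, hg, rfl⟩, hne⟩ := hex
  intro hz
  have r : Rect S D₁ D₂ c₁ a₁ z₁ c₂ a₂ z₂ n₁ n₂ y a₂ := ⟨F, hy, hyc, F.d₂.mema, F.d₂.anot⟩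
  have hgE : g ∈ normalizer (EL S y a₂ : Set G) := (F.EL_eq_of_two h2 F.d₂.mema hy).symm ▸ hg
  rcases r.centre_cases hx₁ hxx₁ hgE with ⟨e, -⟩ | ⟨-, e⟩
  · exact hne e
  · have := F.oddSet_fixed h2 hx₁ hxx₁ hy hyc hg hz
    rw [e, mul_eq_left, conj_eq_one_iff] at this
    exact F.d₁.z_ne_one this

end Frame

end Cfsg.Lib.TwoFusion.DihProd
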