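import Cfsg.Agent.Lib.TwoFusion.DihedralProduct.Transvection
import Cfsg.Prelude.Def_TwoFusion
import Mathlib.GroupTheory.SpecificGroups.Dihedral

/-!
# A Sylow 2-subgroup which is a product of two dihedral groups: coordinates
-/

set_option autoImplicit false
set_option linter.style.haveILetI false
set_option linter.unusedSectionVars false

open Subgroup

namespace Cfsg.Lib.TwoFusion.DihProd

variable {G : Type*} [Group G]

/-- A dihedral 2-group `D` of order `2 n` with rotation `c`, reflection `a` and centre involution `z`. -/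
structure Dih (D : Subgroup G) (c a z : G) (n : ℕ) : Prop where
  memc : c ∈ D
  mema : a ∈ D
  ord : orderOf c = n
  two : 2 ≤ n
  pow : ∃ k, n = 2 ^ k
  hz : z = c ^ (n / 2)
  cover : ∀ y ∈ D, y ∈ zpowers c ∨ y * a ∈ zpowers c
  sq : ∀ y ∈ D, y ∉ zpowers c → y * y = 1
  inv : ∀ y ∈ D, y ∉ zpowers c → ∀ r ∈ zpowers c, y * r * y⁻¹ = r⁻¹
  anot : a ∉ zpowers c

/-- A dihedral group of order `2 ^ (k + 1)` provides one. -/
theorem exists_dih {D : Subgroup G} {m : ℕ} (hm : 2 ≤ m) (hD : IsPGroup 2 D)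
    (e : D ≃* DihedralGroup m) : ∃ c a z, Dih D c a z m := by
  classical
  haveI : NeZero m := ⟨by omega⟩
  obtain ⟨k, hk⟩ : ∃ k, m = 2 ^ k := by
    haveI : Fact (Nat.Prime 2) := ⟨Nat.prime_two⟩
    haveI : Finite D := Finite.of_equiv _ e.toEquiv.symm
    obtain ⟨l, hl⟩ := IsPGroup.iff_card.1 hD
    rw [Nat.card_congr e.toEquiv, DihedralGroup.nat_card] at hl
    rcases l with _ | l
    · omega
    · exact ⟨l, by rw [pow_succ] at hl; omega⟩
  have hmem : ∀ (r : DihedralGroup m), r ∈ zpowers (DihedralGroup.r (1 : ZMod m)) ↔ ∃ i, r = .r i := by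
    intro r
    constructor
    · rintro ⟨i, rfl⟩
      exact ⟨_, DihedralGroup.r_one_zpow i⟩
    · rintro ⟨i, rfl⟩
      exact ⟨i.val, by show _ ^ (i.val : ℤ) = _; rw [zpow_natCast, DihedralGroup.r_one_pow]; simp⟩
  have hcz : ∀ y : D, (y : G) ∈ zpowers ((e.symm (.r 1) : D) : G) ↔
      ∃ i, e y = .r i := by
    intro y
    rw [← hmem]
    constructor
    · rintro ⟨i, hi⟩
      refine ⟨i, ?_⟩
      apply e.symm.injective
      show e.symm (DihedralGroup.r (1 : ZMod m) ^ i) = e.symm (e y)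
      rw [map_zpow, e.symm_apply_apply]
      exact Subtype.ext (by rw [SubgroupClass.coe_zpow]; exact hi)
    · rintro ⟨i, hi⟩
      simp only at hi
      refine ⟨i, ?_⟩
      have h1 : e.symm (DihedralGroup.r (1 : ZMod m) ^ i) = y := by rw [hi, e.symm_apply_apply]
      rw [map_zpow] at h1
      show ((e.symm (.r 1) : D) : G) ^ i = (y : G)
      rw [← SubgroupClass.coe_zpow, h1]
  refine ⟨(e.symm (.r 1) : D), (e.symm (.sr 0) : D), _, (e.symm (.r 1)).2, (e.symm (.sr 0)).2, ?_, hm,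
    ⟨k, hk⟩, rfl, ?_, ?_, ?_, ?_⟩
  · rw [Subgroup.orderOf_coe, MulEquiv.orderOf_eq, DihedralGroup.orderOf_r_one]
  · intro y hy
    rcases hey : e ⟨y, hy⟩ with i | i
    · exact Or.inl ((hcz ⟨y, hy⟩).2 ⟨i, hey⟩)
    · refine Or.inr ((hcz (⟨y, hy⟩ * e.symm (.sr 0))).2 ⟨-i, ?_⟩)
      rw [map_mul, hey, e.apply_symm_apply, DihedralGroup.sr_mul_sr, zero_sub]
  · intro y hy hyc
    rcases hey : e ⟨y, hy⟩ with i | i
    · exact absurd ((hcz ⟨y, hy⟩).2 ⟨i, hey⟩) hyc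
    · refine congrArg Subtype.val (e.injective ?_ : (⟨y, hy⟩ * ⟨y, hy⟩ : D) = 1)
      rw [map_mul, hey, DihedralGroup.sr_mul_self, map_one]
  · intro y hy hyc r hr
    have hrD : r ∈ D := (zpowers_le.2 (e.symm (.r 1)).2) hr
    obtain ⟨j, hj⟩ := (hcz ⟨r, hrD⟩).1 hr
    rcases hey : e ⟨y, hy⟩ with i | i
    · exact absurd ((hcz ⟨y, hy⟩).2 ⟨i, hey⟩) hyc
    · refine congrArg Subtype.val (e.injective ?_ :
        (⟨y, hy⟩ * ⟨r, hrD⟩ * ⟨y, hy⟩⁻¹ : D) = ⟨r, hrD⟩⁻¹)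
      rw [map_mul, map_mul, map_inv, map_inv, hey, hj, DihedralGroup.inv_sr, DihedralGroup.inv_r,
        DihedralGroup.sr_mul_r, DihedralGroup.sr_mul_sr]
      congr 1
      ring
  · intro hm'
    obtain ⟨i, hi⟩ := (hcz _).1 hm'
    rw [e.apply_symm_apply] at hi
    cases hi

namespace Dih

variable {D : Subgroup G} {c a z : G} {n : ℕ} (h : Dih D c a z n)

include h

theorem even : 2 ∣ n := by
  obtain ⟨k, hk⟩ := h.pow
  rcases k with _ | k
  · have := h.two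
    simp at hk
    omega
  · exact ⟨2 ^ k, by rw [hk, pow_succ]; ring⟩

theorem rot_mem {r : G} (hr : r ∈ zpowers c) : r ∈ D := zpowers_le.2 h.memc hr

theorem z_mem_rot : z ∈ zpowers c := h.hz ▸ pow_mem (mem_zpowers c) _

theorem z_mem : z ∈ D := h.rot_mem h.z_mem_rot

theorem z_sq : z * z = 1 := by
  rw [h.hz, ← pow_add, show n / 2 + n / 2 = n by have := h.even; omega, ← h.ord, pow_orderOf_eq_one]

theorem z_ne_one : z ≠ 1 := by
  rw [h.hz]
  exact pow_ne_one_of_lt_orderOf (by have := h.two; omega) (by rw [h.ord]; have := h.two; omega)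

theorem z_inv : z⁻¹ = z := inv_eq_of_mul_eq_one_right h.z_sq

omit h in
theorem rot_commute {c r r' : G} (hr : r ∈ zpowers c) (hr' : r' ∈ zpowers c) : Commute r r' := by
  obtain ⟨i, rfl⟩ := mem_zpowers_iff.1 hr
  obtain ⟨j, rfl⟩ := mem_zpowers_iff.1 hr'
  exact (Commute.refl c).zpow_zpow i j

theorem z_comm {y : G} (hy : y ∈ D) : Commute z y := by
  by_cases hyc : y ∈ zpowers c
  · exact rot_commute h.z_mem_rot hyc
  · have := h.inv y hy hyc z h.z_mem_rot
    rw [h.z_inv, mul_inv_eq_iff_eq_mul] at this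
    exact this.symm

theorem refl_inv {y : G} (hy : y ∈ D) (hyc : y ∉ zpowers c) : y⁻¹ = y :=
  inv_eq_of_mul_eq_one_right (h.sq y hy hyc)

theorem refl_mul {y y' : G} (hy : y ∈ D) (hyc : y ∉ zpowers c) (hy' : y' ∈ D)
    (hyc' : y' ∉ zpowers c) : y * y' ∈ zpowers c := by
  have h1 := (h.cover y hy).resolve_left hyc
  have h2 := (h.cover y' hy').resolve_left hyc'
  have e : y * a * (y' * a)⁻¹ = y * y' := by
    rw [_root_.mul_inv_rev, h.refl_inv hy' hyc', ← mul_assoc, mul_inv_cancel_right]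
  exact e ▸ mul_mem h1 (inv_mem h2)

theorem sq_rot {y : G} (hy : y ∈ D) : y * y ∈ zpowers c := by
  by_cases hyc : y ∈ zpowers c
  · exact mul_mem hyc hyc
  · rw [h.sq y hy hyc]
    exact one_mem _

theorem conj_rot {y r : G} (hy : y ∈ D) (hr : r ∈ zpowers c) : y * r * y⁻¹ ∈ zpowers c := by
  by_cases hyc : y ∈ zpowers c
  · exact mul_mem (mul_mem hyc hr) (inv_mem hyc)
  · rw [h.inv y hy hyc r hr]
    exact inv_mem hr

theorem sq_one_rot {r : G} (hr : r ∈ zpowers c) (h1 : r * r = 1) : r = 1 ∨ r = z := by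
  have hn : 0 < n := by have := h.two; omega
  have hfin : IsOfFinOrder c := orderOf_pos_iff.1 (by rw [h.ord]; exact hn)
  obtain ⟨i, rfl⟩ := hfin.mem_powers_iff_mem_zpowers.2 hr
  simp only at h1 ⊢
  have hd : n ∣ 2 * i := h.ord ▸ orderOf_dvd_of_pow_eq_one (by rw [two_mul, pow_add]; exact h1)
  obtain ⟨m, hm⟩ := h.even
  rw [hm, Nat.mul_dvd_mul_iff_left two_pos] at hd
  obtain ⟨j, rfl⟩ := hd
  rcases Nat.even_or_odd j with ⟨j', rfl⟩ | ⟨j', rfl⟩
  · left
    rw [show m * (j' + j') = n * j' by rw [hm]; ring, pow_mul, ← h.ord, pow_orderOf_eq_one, one_pow]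
  · right
    rw [show m * (2 * j' + 1) = n * j' + n / 2 by
      rw [hm, Nat.mul_div_cancel_left _ two_pos]; ring, pow_add, pow_mul, ← h.ord, pow_orderOf_eq_one,
      one_pow, one_mul, h.ord, ← h.hz]

/-- A rotation commuting with a reflection squares to one. -/
theorem sq_one_of_commute {y r : G} (hy : y ∈ D) (hyc : y ∉ zpowers c) (hr : r ∈ zpowers c)
    (hc : Commute y r) : r * r = 1 := by
  have := h.inv y hy hyc r hr
  rw [hc.eq, mul_inv_cancel_right] at this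
  exact mul_eq_one_iff_eq_inv.2 this

/-- The centralizer of a reflection is a four group. -/
theorem four {y q : G} (hy : y ∈ D) (hyc : y ∉ zpowers c) (hq : q ∈ D) (hc : Commute q y) :
    q = 1 ∨ q = z ∨ q = y ∨ q = z * y := by
  by_cases hqc : q ∈ zpowers c
  · rcases h.sq_one_rot hqc (h.sq_one_of_commute hy hyc hqc hc.symm) with e | e
    · exact Or.inl e
    · exact Or.inr (Or.inl e)
  · have hr := h.refl_mul hq hqc hy hyc
    have hyy := h.sq y hy hyc
    have e : q = q * y * y := by rw [mul_assoc, hyy, mul_one]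
    rcases h.sq_one_rot hr (h.sq_one_of_commute hy hyc hr (hc.symm.mul_right (Commute.refl y))) with
      e' | e'
    · exact Or.inr (Or.inr (Or.inl (by rw [e, e', one_mul])))
    · exact Or.inr (Or.inr (Or.inr (by rw [e, e'])))

theorem zy_not_rot {y : G} (hyc : y ∉ zpowers c) : z * y ∉ zpowers c :=
  fun h' => hyc ((mul_mem_cancel_left h.z_mem_rot).1 h')

/-- An element of order four of the rotations when `4 ≤ n`. -/
theorem exists_quarter (h4 : 4 ≤ n) : ∃ x ∈ zpowers c, x * x = z := by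
  obtain ⟨k, hk⟩ := h.pow
  rcases k with _ | _ | k
  · simp at hk; omega
  · simp at hk; omega
  refine ⟨c ^ 2 ^ k, pow_mem (mem_zpowers c) _, ?_⟩
  rw [← pow_add, h.hz, hk, show 2 ^ (k + 1 + 1) / 2 = 2 ^ k + 2 ^ k by
    rw [pow_succ _ (k + 1), Nat.mul_div_cancel _ two_pos, pow_succ, mul_two]]

theorem quarter_conj {x y : G} (hxc : x ∈ zpowers c) (hxx : x * x = z) (hy : y ∈ D)
    (hyc : y ∉ zpowers c) : x * y * x⁻¹ = z * y := by
  have hyi := h.inv y hy hyc x hxc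
  calc x * y * x⁻¹ = x * (y * x * y⁻¹)⁻¹ * y := by group
    _ = z * y := by rw [hyi, inv_inv, hxx]

/-- A central element is `1` or `z` when `4 ≤ n`. -/
theorem center_eq (h4 : 4 ≤ n) {q : G} (hq : q ∈ D) (hc : Commute q c) (ha : Commute q a) :
    q = 1 ∨ q = z := by
  rcases h.four h.mema h.anot hq ha with e | e | e | e
  · exact Or.inl e
  · exact Or.inr e
  all_goals
    exfalso
    obtain ⟨x, hx, hxx⟩ := h.exists_quarter h4
    have hqx : Commute q x := by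
      obtain ⟨i, rfl⟩ := mem_zpowers_iff.1 hx
      exact hc.zpow_right i
    have hqc : q ∉ zpowers c := by
      rw [e]
      first | exact h.anot | exact h.zy_not_rot h.anot
    have := h.quarter_conj hx hxx hq hqc
    rw [hqx.symm.eq, mul_inv_cancel_right, right_eq_mul] at this
    exact h.z_ne_one this

theorem card_eq [Finite G] : Nat.card D = 2 * n := by
  have hidx : ((zpowers c).subgroupOf D).index = 2 := by
    refine index_eq_two_iff.2 ⟨⟨a, h.mema⟩, fun b => ?_⟩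
    have hb : (b * ⟨a, h.mema⟩ ∈ (zpowers c).subgroupOf D) ↔ (b : G) * a ∈ zpowers c := Iff.rfl
    rw [hb, mem_subgroupOf]
    by_cases hbc : (b : G) ∈ zpowers c
    · exact Or.inr ⟨hbc, fun h' => h.anot ((mul_mem_cancel_left hbc).1 h')⟩
    · exact Or.inl ⟨(h.cover b b.2).resolve_left hbc, hbc⟩
  rw [← ((zpowers c).subgroupOf D).index_mul_card, hidx,
    Nat.card_congr (subgroupOfEquivOfLe (zpowers_le.2 h.memc)).toEquiv, Nat.card_zpowers, h.ord]

end Dih

/-- `S = D₁ × D₂` with dihedral factors, the first nonabelian. -/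
structure Frame [Finite G] (S : Sylow 2 G) (D₁ D₂ : Subgroup G) (c₁ a₁ z₁ c₂ a₂ z₂ : G) (n₁ n₂ : ℕ) :
    Prop where
  prod : Cfsg.IsInternalDirectProduct D₁ D₂ (S : Subgroup G)
  d₁ : Dih D₁ c₁ a₁ z₁ n₁
  d₂ : Dih D₂ c₂ a₂ z₂ n₂
  big : 4 ≤ n₁

namespace Frame

variable [Finite G] {S : Sylow 2 G} {D₁ D₂ : Subgroup G} {c₁ a₁ z₁ c₂ a₂ z₂ : G} {n₁ n₂ : ℕ}
  (F : Frame S D₁ D₂ c₁ a₁ z₁ c₂ a₂ z₂ n₁ n₂)

include F

theorem le₁ : D₁ ≤ (S : Subgroup G) := F.prod.1

theorem le₂ : D₂ ≤ (S : Subgroup G) := F.prod.2.1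

theorem comm {d e : G} (hd : d ∈ D₁) (he : e ∈ D₂) : Commute d e := F.prod.2.2.1 d hd e he

theorem swap (h4 : 4 ≤ n₂) : Frame S D₂ D₁ c₂ a₂ z₂ c₁ a₁ z₁ n₂ n₁ :=
  ⟨⟨F.le₂, F.le₁, fun a ha b hb => (F.comm hb ha).symm.eq, inf_comm D₁ D₂ ▸ F.prod.2.2.2.1,
    sup_comm D₁ D₂ ▸ F.prod.2.2.2.2⟩, F.d₂, F.d₁, h4⟩

theorem decomp {s : G} (hs : s ∈ (S : Subgroup G)) : ∃ d ∈ D₁, ∃ e ∈ D₂, s = d * e := by
  let U : Subgroup G :=
    { carrier := {g | ∃ d ∈ D₁, ∃ e ∈ D₂, g = d * e}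
      one_mem' := ⟨1, one_mem _, 1, one_mem _, (one_mul 1).symm⟩
      mul_mem' := by
        rintro _ _ ⟨d, hd, e, he, rfl⟩ ⟨d', hd', e', he', rfl⟩
        exact ⟨d * d', mul_mem hd hd', e * e', mul_mem he he',
          (F.comm hd' he).symm.mul_mul_mul_comm _ _⟩
      inv_mem' := by
        rintro _ ⟨d, hd, e, he, rfl⟩
        exact ⟨d⁻¹, inv_mem hd, e⁻¹, inv_mem he, by rw [(F.comm hd he).eq, _root_.mul_inv_rev]⟩ }
  have hle : D₁ ⊔ D₂ ≤ U := sup_le (fun d hd => ⟨d, hd, 1, one_mem _, (mul_one d).symm⟩)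
    (fun e he => ⟨1, one_mem _, e, he, (one_mul e).symm⟩)
  exact hle (F.prod.2.2.2.2.symm ▸ hs)

theorem unique {d e d' e' : G} (hd : d ∈ D₁) (he : e ∈ D₂) (hd' : d' ∈ D₁) (he' : e' ∈ D₂)
    (h : d * e = d' * e') : d = d' ∧ e = e' := by
  have h1 : d'⁻¹ * d = e' * e⁻¹ := by rw [eq_mul_inv_iff_mul_eq, mul_assoc, h, inv_mul_cancel_left]
  have h2 : d'⁻¹ * d ∈ D₁ ⊓ D₂ :=
    Subgroup.mem_inf.2 ⟨mul_mem (inv_mem hd') hd, h1 ▸ mul_mem he' (inv_mem he)⟩
  rw [F.prod.2.2.2.1, mem_bot, inv_mul_eq_one] at h2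
  exact ⟨h2.symm, mul_left_cancel (a := d) (by rw [h, h2])⟩

theorem mem_mul {d e : G} (hd : d ∈ D₁) (he : e ∈ D₂) : d * e ∈ (S : Subgroup G) :=
  mul_mem (F.le₁ hd) (F.le₂ he)

theorem conj_mul {d e d' e' : G} (hd : d ∈ D₁) (he : e ∈ D₂) (hd' : d' ∈ D₁) (he' : e' ∈ D₂) :
    d * e * (d' * e') * (d * e)⁻¹ = d * d' * d⁻¹ * (e * e' * e⁻¹) := by
  have h1 : Commute (d * d' * d⁻¹) e := F.comm (mul_mem (mul_mem hd hd') (inv_mem hd)) he
  calc d * e * (d' * e') * (d * e)⁻¹ = d * (e * d') * (e' * e⁻¹) * d⁻¹ := by group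
    _ = d * d' * e * ((e' * e⁻¹) * d⁻¹) := by rw [(F.comm hd' he).symm.eq]; group
    _ = d * d' * (e * d⁻¹) * (e' * e⁻¹) := by
        rw [(F.comm (inv_mem hd) (mul_mem he' (inv_mem he))).symm.eq]; group
    _ = d * d' * d⁻¹ * (e * e' * e⁻¹) := by rw [(F.comm (inv_mem hd) he).symm.eq]; group

theorem commute_iff {d e d' e' : G} (hd : d ∈ D₁) (he : e ∈ D₂) (hd' : d' ∈ D₁) (he' : e' ∈ D₂) :
    Commute (d * e) (d' * e') ↔ Commute d d' ∧ Commute e e' := by
  refine ⟨fun h => ?_, fun h => (h.1.mul_right (F.comm hd he')).mul_left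
    ((F.comm hd' he).symm.mul_right h.2)⟩
  obtain ⟨h1, h2⟩ := F.unique (mul_mem hd hd') (mul_mem he he') (mul_mem hd' hd) (mul_mem he' he)
    (by rw [← (F.comm hd' he).symm.mul_mul_mul_comm, ← (F.comm hd he').symm.mul_mul_mul_comm, h.eq])
  exact ⟨h1, h2⟩

theorem z₁_central {s : G} (hs : s ∈ (S : Subgroup G)) : Commute z₁ s := by
  obtain ⟨d, hd, e, he, rfl⟩ := F.decomp hs
  exact (F.d₁.z_comm hd).mul_right (F.comm F.d₁.z_mem he)

theorem z₂_central {s : G} (hs : s ∈ (S : Subgroup G)) : Commute z₂ s := by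
  obtain ⟨d, hd, e, he, rfl⟩ := F.decomp hs
  exact (F.comm hd F.d₂.z_mem).symm.mul_right (F.d₂.z_comm he)

end Frame

/-- `V × D₂` for the four group `V` of the reflection `y` of `D₁`. -/
def QL (S : Sylow 2 G) (y : G) : Subgroup G := (S : Subgroup G) ⊓ centralizer ({y} : Set G)

/-- `V × W` for the four groups of the reflections `y` and `w`. -/
def EL (S : Sylow 2 G) (y w : G) : Subgroup G := QL S y ⊓ centralizer ({w} : Set G)

theorem mem_QL [Finite G] {S : Sylow 2 G} {y q : G} :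
    q ∈ QL S y ↔ q ∈ (S : Subgroup G) ∧ Commute q y := by
  simp only [QL, Subgroup.mem_inf, mem_centralizer_singleton_iff, commute_iff_eq]

theorem mem_EL [Finite G] {S : Sylow 2 G} {y w q : G} :
    q ∈ EL S y w ↔ q ∈ (S : Subgroup G) ∧ Commute q y ∧ Commute q w := by
  simp only [EL, QL, Subgroup.mem_inf, mem_centralizer_singleton_iff, commute_iff_eq, and_assoc]

theorem EL_le_QL [Finite G] {S : Sylow 2 G} {y w : G} : EL S y w ≤ QL S y := inf_le_left

theorem EL_comm [Finite G] {S : Sylow 2 G} {y w : G} : EL S y w = EL S w y := by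
  rw [EL, EL, QL, QL, inf_right_comm]

end Cfsg.Lib.TwoFusion.DihProd
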