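import Cfsg.Agent.Lib.TwoFusion.DihedralProduct.Radical
import Cfsg.Agent.Lib.Fusion.Tate
import Cfsg.Agent.Lib.PGroup.Basic
import Mathlib.GroupTheory.IndexNormal

/-!
# Fusion in a product of two dihedral groups

All fusion comes from `N(S)` and from the conjugates of the quarter turns at `V × D₂`, `D₁ × W`, `V × W`.
-/

set_option autoImplicit false
set_option linter.style.haveILetI false
set_option linter.unusedSectionVars false

open Subgroup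
open scoped commutatorElement

namespace Cfsg.Lib.Fusion

variable {G : Type*} [Group G] [Finite G] {p : ℕ} [hp : Fact p.Prime]

/-- The normalizer of a Sylow subgroup moves it along a relation that `S` and the `p'`-elements do. -/
theorem moves_normalizer (S : Sylow p G) (R : G → G → Prop)
    (htrans : ∀ x y z, R x y → R y z → R x z)
    (hin : ∀ s ∈ (S : Subgroup G), Moves R s (S : Subgroup G))
    (hodd : ∀ g ∈ normalizer ((S : Subgroup G) : Set G), Nat.Coprime (orderOf g) p →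
      Moves R g (S : Subgroup G))
    {g : G} (hg : g ∈ normalizer ((S : Subgroup G) : Set G)) : Moves R g (S : Subgroup G) := by
  have hN : ∀ {g : G}, g ∈ normalizer ((S : Subgroup G) : Set G) → ∀ a ∈ (S : Subgroup G),
      g * a * g⁻¹ ∈ (S : Subgroup G) := fun hg a ha => (mem_normalizer_iff.1 hg a).1 ha
  obtain ⟨x, hx, m, hm, hxm⟩ := exists_mul_of_sylow (S.subtype le_normalizer) ⟨g, hg⟩
  let K : Subgroup (normalizer ((S : Subgroup G) : Set G)) :=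
    { carrier := {k | Moves R (k : G) (S : Subgroup G) ∧ Moves R (k : G)⁻¹ (S : Subgroup G)}
      one_mem' := ⟨hin 1 (one_mem _), by simpa using hin 1 (one_mem _)⟩
      mul_mem' := by
        rintro k k' ⟨h1, h2⟩ ⟨h3, h4⟩
        refine ⟨Moves.mul R htrans (hN k'.2) h1 h3, ?_⟩
        rw [Subgroup.coe_mul, _root_.mul_inv_rev]
        exact Moves.mul R htrans (hN (inv_mem k.2)) h4 h2
      inv_mem' := by
        rintro k ⟨h1, h2⟩
        exact ⟨h2, by rw [Subgroup.coe_inv, inv_inv]; exact h1⟩ }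
  have hle : pResidual p (normalizer ((S : Subgroup G) : Set G)) ≤ K := by
    rw [pResidual, closure_le]
    intro k hk
    have hk' : Nat.Coprime (orderOf (k : G)) p := by rw [Subgroup.orderOf_coe]; exact hk
    exact ⟨hodd k k.2 hk', hodd _ (inv_mem k.2) (by rwa [orderOf_inv])⟩
  have he : g = (x : G) * m := congrArg Subtype.val hxm
  rw [he]
  exact Moves.mul R htrans (hN m.2) (hin x hx) (hle hm).1

/-- Without normal subgroups of index `2`, a relation containing fusion generates `S`. -/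
theorem top_of_fusion {S : Sylow 2 G} (h2 : ∀ N : Subgroup G, N.Normal → N.index ≠ 2)
    {K : Subgroup G} (hKS : K ≤ (S : Subgroup G))
    (H : ∀ M : Subgroup G, K ≤ M → M ≤ (S : Subgroup G) →
      (∀ a ∈ (S : Subgroup G), ∀ s ∈ (S : Subgroup G), a⁻¹ * (s * a * s⁻¹) ∈ M) →
      ∀ x g : G, x ∈ (S : Subgroup G) → g * x * g⁻¹ ∈ (S : Subgroup G) → x⁻¹ * (g * x * g⁻¹) ∈ M) :
    K = (S : Subgroup G) := by
  haveI : Fact (Nat.Prime 2) := ⟨Nat.prime_two⟩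
  have htop : pResidual 2 G = ⊤ := by
    by_contra hne
    have hq : IsPGroup 2 (G ⧸ pResidual 2 G) := isPGroup_quotient_pResidual
    obtain ⟨n, hn⟩ := IsPGroup.iff_card.1 hq
    rcases n with _ | n
    · exact hne (Subgroup.index_eq_one.1 (by rw [Subgroup.index_eq_card, hn, pow_zero]))
    obtain ⟨H', hH'⟩ := Sylow.exists_subgroup_card_pow_prime (G := G ⧸ pResidual 2 G) 2 (n := n)
      (hn ▸ pow_dvd_pow 2 n.le_succ)
    have hi : H'.index = 2 := by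
      have := H'.card_mul_index
      rw [hH', hn, pow_succ] at this
      exact Nat.eq_of_mul_eq_mul_left (Nat.two_pow_pos n) this
    refine h2 (H'.comap (QuotientGroup.mk' (pResidual 2 G))) ?_ ?_
    · exact (Subgroup.normal_of_index_eq_two hi).comap _
    · rw [index_comap_of_surjective _ (QuotientGroup.mk'_surjective _), hi]
  by_contra hne
  have hlt : K.subgroupOf (S : Subgroup G) ≠ ⊤ := fun h => hne (le_antisymm hKS (subgroupOf_eq_top.1 h))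
  obtain ⟨M₀, hM₀, hle⟩ := (eq_top_or_exists_le_coatom _).resolve_left hlt
  obtain ⟨M, hM⟩ : ∃ M, M = M₀.map (S : Subgroup G).subtype := ⟨_, rfl⟩
  have hMS : M ≤ (S : Subgroup G) := hM ▸ map_subtype_le _
  have hcomm : ∀ a ∈ (S : Subgroup G), ∀ s ∈ (S : Subgroup G), a⁻¹ * (s * a * s⁻¹) ∈ M := by
    intro a ha s hs
    have h1 : ⁅(⟨a, ha⟩⁻¹ : (S : Subgroup G)), ⟨s, hs⟩⁆ ∈ M₀ :=
      frattini_le_coatom hM₀ (Cfsg.Lib.PGroup.commutator_le_frattini S.2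
        (Subgroup.commutator_mem_commutator (mem_top _) (mem_top _)))
    rw [hM]
    refine ⟨_, h1, ?_⟩
    simp [commutatorElement_def, mul_assoc]
  have hKM : K ≤ M := fun x hx => hM ▸ ⟨⟨x, hKS hx⟩, hle (mem_subgroupOf.2 hx), rfl⟩
  have hfoc : (S : Subgroup G).focalSubgroup ≤ M := by
    rw [focalSubgroup_def, closure_le]
    rintro g ⟨hgS, x, hx, u, rfl⟩
    have hu : u * x⁻¹ * u⁻¹ ∈ (S : Subgroup G) := by
      rw [show u * x⁻¹ * u⁻¹ = x⁻¹ * ⁅x, u⁆ by rw [commutatorElement_def]; group]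
      exact mul_mem (inv_mem hx) hgS
    have := H M hKM hMS hcomm x⁻¹ u (inv_mem hx) hu
    rwa [show x⁻¹⁻¹ * (u * x⁻¹ * u⁻¹) = ⁅x, u⁆ by rw [commutatorElement_def]; group] at this
  refine hM₀.1 (eq_top_iff.2 fun s _ => ?_)
  have hs : (s : G) ∈ M := hfoc (pResidual_inf_le_focal S ⟨htop ▸ mem_top _, s.2⟩)
  rw [hM] at hs
  obtain ⟨s', hs', e⟩ := hs
  exact (Subtype.ext e : s' = s) ▸ hs'

end Cfsg.Lib.Fusion

namespace Cfsg.Lib.TwoFusion.DihProd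

open Cfsg.Lib.Fusion (Moves)

variable {G : Type*} [Group G] [Finite G]

/-- The conjugates of `x₁` at `V × D₂` and at `V × W` move their domains along `R`. -/
def TvMoves (R : G → G → Prop) (S : Sylow 2 G) (D₁ D₂ : Subgroup G) (c₁ c₂ x₁ : G) : Prop :=
  ∀ y ∈ D₁, y ∉ zpowers c₁ →
    (∀ g ∈ normalizer (QL S y : Set G), Moves R (g * x₁ * g⁻¹) (QL S y)) ∧
      ∀ w ∈ D₂, w ∉ zpowers c₂ → ∀ g ∈ normalizer (EL S y w : Set G),
        Moves R (g * x₁ * g⁻¹) (EL S y w)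

variable {S : Sylow 2 G} {D₁ D₂ : Subgroup G} {c₁ a₁ z₁ c₂ a₂ z₂ : G} {n₁ n₂ : ℕ}

namespace Frame

variable (F : Frame S D₁ D₂ c₁ a₁ z₁ c₂ a₂ z₂ n₁ n₂) {R : G → G → Prop}
  (htrans : ∀ x y z, R x y → R y z → R x z)
  (hin : ∀ s ∈ (S : Subgroup G), Moves R s (S : Subgroup G))

include F htrans hin

theorem moves_QL {x₁ : G} (hx₁ : x₁ ∈ zpowers c₁) (hxx₁ : x₁ * x₁ = z₁)
    (hT : TvMoves R S D₁ D₂ c₁ c₂ x₁) {y : G} (hy : y ∈ D₁) (hyc : y ∉ zpowers c₁) :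
    ∀ g ∈ normalizer (QL S y : Set G), ∀ t ∈ (S : Subgroup G) ⊓ normalizer (QL S y : Set G),
      Moves R (g * t * g⁻¹) (QL S y) := by
  have hQS : QL S y ≤ (S : Subgroup G) := inf_le_left
  have inner : ∀ q ∈ QL S y, Moves R q (QL S y) := fun q hq a ha => hin q (hQS hq) a (hQS ha)
  intro g hg t ht
  obtain ⟨d, hd, e, he, rfl⟩ := F.decomp ht.1
  have hN := fun {q : G} (hq : q ∈ QL S y) => conj_mem_of_mem_normalizer ht.2 hq
  have hd' : d ∈ nFour D₁ y := by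
    refine ⟨hd, mem_normalizer_fintype fun q hq => ?_⟩
    obtain ⟨hqD, hqy⟩ := F.d₁.mem_four.1 hq
    have h1 := hN (mem_QL.2 ⟨F.le₁ hqD, hqy⟩ : q ∈ QL S y)
    rw [← mul_one q, F.conj_mul hd he hqD (one_mem _), mul_one, mul_inv_cancel, mul_one] at h1
    exact F.d₁.mem_four.2 ⟨mul_mem (mul_mem hd hqD) (inv_mem hd), (mem_QL.1 h1).2⟩
  have ety : d * e * y * (d * e)⁻¹ = d * y * d⁻¹ := by
    rw [show d * e * y * (d * e)⁻¹ = d * (e * y * e⁻¹) * d⁻¹ by group, (F.comm hy he).symm.eq,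
      mul_inv_cancel_right]
  rcases F.d₁.conj_refl hy hyc hd' with h | h
  · refine inner _ (conj_mem_of_mem_normalizer hg (mem_QL.2 ⟨ht.1, ?_⟩))
    exact mul_inv_eq_iff_eq_mul.1 (ety.trans h)
  · have hxS := F.le₁ (F.d₁.rot_mem hx₁)
    have hxN := F.quarter_normalizer hx₁ hxx₁ hy hyc
    have hq : x₁⁻¹ * (d * e) ∈ QL S y := by
      refine mem_QL.2 ⟨mul_mem (inv_mem hxS) ht.1, mul_inv_eq_iff_eq_mul.1 ?_⟩
      rw [show x₁⁻¹ * (d * e) * y * (x₁⁻¹ * (d * e))⁻¹ = x₁⁻¹ * (d * e * y * (d * e)⁻¹) * x₁ by group,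
        ety, h, ← F.d₁.quarter_conj hx₁ hxx₁ hy hyc]
      group
    rw [show g * (d * e) * g⁻¹ = g * x₁ * g⁻¹ * (g * (x₁⁻¹ * (d * e)) * g⁻¹) by group]
    exact Moves.mul R htrans (fun a ha => mul_mem (mul_mem (conj_mem_of_mem_normalizer hg hq) ha)
      (inv_mem (conj_mem_of_mem_normalizer hg hq))) ((hT y hy hyc).1 g hg)
      (inner _ (conj_mem_of_mem_normalizer hg hq))

theorem moves_EL {x₁ : G} (hx₁ : x₁ ∈ zpowers c₁) (hxx₁ : x₁ * x₁ = z₁)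
    (hT₁ : TvMoves R S D₁ D₂ c₁ c₂ x₁) {x₂ : G}
    (hT₂ : 4 ≤ n₂ → x₂ ∈ zpowers c₂ ∧ x₂ * x₂ = z₂ ∧ TvMoves R S D₂ D₁ c₂ c₁ x₂) {y w : G}
    (r : Rect S D₁ D₂ c₁ a₁ z₁ c₂ a₂ z₂ n₁ n₂ y w) :
    ∀ g ∈ normalizer (EL S y w : Set G), ∀ t ∈ (S : Subgroup G) ⊓ normalizer (EL S y w : Set G),
      Moves R (g * t * g⁻¹) (EL S y w) := by
  have hQS : EL S y w ≤ (S : Subgroup G) := fun q hq => (mem_EL.1 hq).1
  have inner : ∀ q ∈ EL S y w, Moves R q (EL S y w) := fun q hq a ha => hin q (hQS hq) a (hQS ha)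
  intro g hg
  have hc : ∀ {t : G}, t ∈ normalizer (EL S y w : Set G) →
      ∀ a ∈ EL S y w, g * t * g⁻¹ * a * (g * t * g⁻¹)⁻¹ ∈ EL S y w := fun ht a ha =>
    conj_mem_of_mem_normalizer (mul_mem (mul_mem hg ht) (inv_mem hg)) ha
  obtain ⟨q₁, hy₁, hw₁⟩ := r.quarter₁ hx₁ hxx₁
  -- a `t` fixing `y`
  have step : ∀ t ∈ (S : Subgroup G) ⊓ normalizer (EL S y w : Set G), t * y * t⁻¹ = y →
      Moves R (g * t * g⁻¹) (EL S y w) := by
    intro t ht hty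
    rcases (r.act ht).2 with h | ⟨hn, h⟩
    · exact inner _ (conj_mem_of_mem_normalizer hg
        (mem_EL.2 ⟨ht.1, mul_inv_eq_iff_eq_mul.1 hty, mul_inv_eq_iff_eq_mul.1 h⟩))
    · obtain ⟨hx₂, hxx₂, hT⟩ := hT₂ hn
      obtain ⟨q₂, hy₂, hw₂⟩ := r.quarter₂ hx₂ hxx₂
      have hq : x₂⁻¹ * t ∈ EL S y w := by
        refine mem_EL.2 ⟨mul_mem (inv_mem q₂.1) ht.1, mul_inv_eq_iff_eq_mul.1 ?_,
          mul_inv_eq_iff_eq_mul.1 ?_⟩
        · rw [show x₂⁻¹ * t * y * (x₂⁻¹ * t)⁻¹ = x₂⁻¹ * (t * y * t⁻¹) * x₂ by group, hty]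
          conv_lhs => rw [← hy₂]
          group
        · rw [show x₂⁻¹ * t * w * (x₂⁻¹ * t)⁻¹ = x₂⁻¹ * (t * w * t⁻¹) * x₂ by group, h, ← hw₂]
          group
      rw [show g * t * g⁻¹ = g * x₂ * g⁻¹ * (g * (x₂⁻¹ * t) * g⁻¹) by group]
      refine Moves.mul R htrans (hc (le_normalizer hq)) ?_ (inner _ (conj_mem_of_mem_normalizer hg hq))
      have hg' : g ∈ normalizer (EL S w y : Set G) := EL_comm (S := S) ▸ hg
      have := (hT w r.wmem r.wnot).2 y r.ymem r.ynot g hg'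
      rwa [EL_comm (S := S)]
  intro t ht
  rcases (r.act ht).1 with h | h
  · exact step t ht h
  · have hm : x₁⁻¹ * t ∈ (S : Subgroup G) ⊓ normalizer (EL S y w : Set G) :=
      mul_mem (inv_mem q₁) ht
    rw [show g * t * g⁻¹ = g * x₁ * g⁻¹ * (g * (x₁⁻¹ * t) * g⁻¹) by group]
    refine Moves.mul R htrans (hc hm.2) ((hT₁ y r.ymem r.ynot).2 w r.wmem r.wnot g hg) (step _ hm ?_)
    rw [show x₁⁻¹ * t * y * (x₁⁻¹ * t)⁻¹ = x₁⁻¹ * (t * y * t⁻¹) * x₁ by group, h, ← hy₁]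
    group

/-- **Fusion in `S`.** -/
theorem fusion_rel (hrefl : ∀ x, R x x)
    (hodd : ∀ g ∈ normalizer ((S : Subgroup G) : Set G), Odd (orderOf g) →
      Moves R g (S : Subgroup G))
    {x₁ x₂ : G} (hx₁ : x₁ ∈ zpowers c₁) (hxx₁ : x₁ * x₁ = z₁)
    (hT₁ : TvMoves R S D₁ D₂ c₁ c₂ x₁)
    (hT₂ : 4 ≤ n₂ → x₂ ∈ zpowers c₂ ∧ x₂ * x₂ = z₂ ∧ TvMoves R S D₂ D₁ c₂ c₁ x₂)
    {x g : G} (hx : x ∈ (S : Subgroup G)) (hg : g * x * g⁻¹ ∈ (S : Subgroup G)) :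
    R x (g * x * g⁻¹) := by
  haveI : Fact (Nat.Prime 2) := ⟨Nat.prime_two⟩
  refine Cfsg.Lib.Fusion.moves_of_local S R hrefl htrans
    (fun g hg x hx => Cfsg.Lib.Fusion.moves_normalizer S R htrans hin
      (fun g hg h => hodd g hg (Nat.coprime_two_right.1 h)) hg x hx)
    (fun Q hlt hFN hcen hR => ?_) hx hg
  rcases F.radical_form hlt hFN hcen hR with ⟨y, w, r, rfl⟩ | ⟨y, hy, hyc, rfl⟩ |
    ⟨hn, w, hw, hwc, rfl⟩
  · exact F.moves_EL htrans hin hx₁ hxx₁ hT₁ hT₂ r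
  · exact F.moves_QL htrans hin hx₁ hxx₁ hT₁ hy hyc
  · obtain ⟨hx₂, hxx₂, hT⟩ := hT₂ hn
    exact (F.swap hn).moves_QL htrans hin hx₂ hxx₂ hT hw hwc

end Frame

end Cfsg.Lib.TwoFusion.DihProd
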