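import Cfsg.Agent.Lib.TwoFusion.DihedralProduct.Frame

/-!
# The normalizer of `V × W`

`S ∩ N(V × W)` is a Sylow subgroup of the normalizer inducing at most four automorphisms, generated by
the transvections of the two quarter turns, which are not fused.  Hence the conjugates of the first
commute with those of the second and at most three of them occur.
-/

set_option autoImplicit false
set_option linter.style.haveILetI false
set_option linter.unusedSectionVars false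

open Subgroup

namespace Cfsg.Lib.TwoFusion.DihProd

variable {G : Type*} [Group G]

/-- The elements of `D` normalizing the four group of the reflection `y`. -/
def nFour (D : Subgroup G) (y : G) : Subgroup G :=
  D ⊓ normalizer ((D ⊓ centralizer ({y} : Set G) : Subgroup G) : Set G)

namespace Dih

variable {D : Subgroup G} {c a z : G} {n : ℕ} (h : Dih D c a z n)

include h

theorem mem_four {y q : G} : q ∈ D ⊓ centralizer ({y} : Set G) ↔ q ∈ D ∧ Commute q y := by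
  simp only [Subgroup.mem_inf, mem_centralizer_singleton_iff, commute_iff_eq]

theorem conj_refl {y d : G} (hy : y ∈ D) (hyc : y ∉ zpowers c) (hd : d ∈ nFour D y) :
    d * y * d⁻¹ = y ∨ d * y * d⁻¹ = z * y := by
  have hq : d * y * d⁻¹ ∈ D ⊓ centralizer ({y} : Set G) :=
    conj_mem_of_mem_normalizer hd.2 (h.mem_four.2 ⟨hy, Commute.refl y⟩)
  have hnr : d * y * d⁻¹ ∉ zpowers c := fun hm => hyc (by
    have := h.conj_rot (inv_mem hd.1) hm
    rwa [show d⁻¹ * (d * y * d⁻¹) * d⁻¹⁻¹ = y by group] at this)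
  rcases h.four hy hyc hq.1 (h.mem_four.1 hq).2 with e | e | e | e
  · exact absurd (e ▸ one_mem _) hnr
  · exact absurd (e ▸ h.z_mem_rot) hnr
  · exact Or.inl e
  · exact Or.inr e

theorem quarter_nFour {x y : G} (hxc : x ∈ zpowers c) (hxx : x * x = z) (hy : y ∈ D)
    (hyc : y ∉ zpowers c) : x ∈ nFour D y := by
  refine ⟨h.rot_mem hxc, ?_⟩
  have hconj : ∀ g ∈ D, g * y * g⁻¹ = z * y → ∀ q ∈ D ⊓ centralizer ({y} : Set G),
      g * q * g⁻¹ ∈ D ⊓ centralizer ({y} : Set G) := fun g hg e q hq => by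
    obtain ⟨hqD, hqy⟩ := h.mem_four.1 hq
    refine h.mem_four.2 ⟨mul_mem (mul_mem hg hqD) (inv_mem hg), ?_⟩
    have h1 : Commute (g * q * g⁻¹) (z * y) := e ▸ hqy.map (MulAut.conj g).toMonoidHom
    have h2 := ((h.z_comm (mul_mem (mul_mem hg hqD) (inv_mem hg))).symm.inv_right).mul_right h1
    rwa [inv_mul_cancel_left] at h2
  have hx := hconj x (h.rot_mem hxc) (h.quarter_conj hxc hxx hy hyc)
  have hx' : x⁻¹ * y * x⁻¹⁻¹ = z * y := by
    have h1 := h.quarter_conj hxc hxx hy hyc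
    have hxz : Commute x z := rot_commute hxc h.z_mem_rot
    calc x⁻¹ * y * x⁻¹⁻¹ = x⁻¹ * (z⁻¹ * (z * y)) * x := by group
      _ = z⁻¹ * (x⁻¹ * (z * y) * x) := by
          rw [← mul_assoc, hxz.inv_inv.eq]; group
      _ = z⁻¹ * (x⁻¹ * (x * y * x⁻¹) * x) := by rw [h1]
      _ = z * y := by rw [h.z_inv]; group
  have hxi := hconj x⁻¹ (inv_mem (h.rot_mem hxc)) hx'
  refine mem_normalizer_iff.2 fun q => ⟨hx q, fun hq => ?_⟩
  have := hxi _ hq
  rwa [show x⁻¹ * (x * q * x⁻¹) * x⁻¹⁻¹ = q by group] at this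

theorem card_four [Finite G] {y : G} (hy : y ∈ D) (hyc : y ∉ zpowers c) :
    Nat.card ↥(D ⊓ centralizer ({y} : Set G)) = 4 := by
  have hle : zpowers z ≤ D ⊓ centralizer ({y} : Set G) :=
    zpowers_le.2 (h.mem_four.2 ⟨h.z_mem, h.z_comm hy⟩)
  have hz2 : orderOf z = 2 := orderOf_eq_prime (by rw [pow_two, h.z_sq]) h.z_ne_one
  have hrot : ∀ b ∈ zpowers z, b ∈ zpowers c := fun b hb => zpowers_le.2 h.z_mem_rot hb
  have hidx : ((zpowers z).subgroupOf (D ⊓ centralizer ({y} : Set G))).index = 2 := by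
    refine index_eq_two_iff.2 ⟨⟨y, h.mem_four.2 ⟨hy, Commute.refl y⟩⟩, fun b => ?_⟩
    show Xor ((b : G) * y ∈ zpowers z) ((b : G) ∈ zpowers z)
    by_cases hb : (b : G) ∈ zpowers z
    · exact Or.inr ⟨hb, fun h' => hyc (hrot _ ((mul_mem_cancel_left hb).1 h'))⟩
    · refine Or.inl ⟨?_, hb⟩
      obtain ⟨hbD, hby⟩ := h.mem_four.1 b.2
      rcases h.four hy hyc hbD hby with e | e | e | e
      · exact absurd (e ▸ one_mem _) hb
      · exact absurd (e ▸ mem_zpowers z) hb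
      · rw [e, h.sq y hy hyc]
        exact one_mem _
      · rw [e, mul_assoc, h.sq y hy hyc, mul_one]
        exact mem_zpowers z
  rw [← ((zpowers z).subgroupOf _).index_mul_card, hidx,
    Nat.card_congr (subgroupOfEquivOfLe hle).toEquiv, Nat.card_zpowers, hz2]

theorem card_nFour [Finite G] {y : G} (hy : y ∈ D) (hyc : y ∉ zpowers c) :
    Nat.card (nFour D y) = if n = 2 then 4 else 8 := by
  have hle : D ⊓ centralizer ({y} : Set G) ≤ nFour D y := le_inf inf_le_left le_normalizer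
  split
  · next hn =>
    refine le_antisymm ?_ (h.card_four hy hyc ▸ Nat.le_of_dvd Nat.card_pos (card_dvd_of_le hle))
    refine (Nat.le_of_dvd Nat.card_pos (card_dvd_of_le (inf_le_left : nFour D y ≤ D))).trans ?_
    rw [h.card_eq, hn]
  · next hn =>
    obtain ⟨k, hk⟩ := h.pow
    have h4 : 4 ≤ n := by
      rcases k with _ | _ | k
      · have := h.two; simp at hk; omega
      · simp at hk; omega
      · calc 4 = 2 ^ 2 := rfl
          _ ≤ n := hk ▸ Nat.pow_le_pow_right two_pos (by omega)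
    obtain ⟨x, hxc, hxx⟩ := h.exists_quarter h4
    have hxy := h.quarter_conj hxc hxx hy hyc
    have hidx : ((D ⊓ centralizer ({y} : Set G)).subgroupOf (nFour D y)).index = 2 := by
      refine index_eq_two_iff.2 ⟨⟨x, h.quarter_nFour hxc hxx hy hyc⟩, fun b => ?_⟩
      show Xor ((b : G) * x ∈ D ⊓ centralizer ({y} : Set G))
        ((b : G) ∈ D ⊓ centralizer ({y} : Set G))
      have key : ∀ g : G, g * y * g⁻¹ = y ↔ Commute g y := fun g => mul_inv_eq_iff_eq_mul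
      have hbz : (b : G) * z * (b : G)⁻¹ = z := by
        rw [(h.z_comm b.2.1).symm.eq, mul_inv_cancel_right]
      rcases h.conj_refl hy hyc b.2 with e | e
      · refine Or.inr ⟨h.mem_four.2 ⟨b.2.1, (key _).1 e⟩, fun h' => h.z_ne_one ?_⟩
        have := (key _).2 (h.mem_four.1 h').2
        rw [show (b : G) * x * y * ((b : G) * x)⁻¹ = b * (x * y * x⁻¹) * (b : G)⁻¹ by group, hxy,
          show (b : G) * (z * y) * (b : G)⁻¹ = b * z * (b : G)⁻¹ * (b * y * (b : G)⁻¹) by group, hbz,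
          e, mul_eq_right] at this
        exact this
      · refine Or.inl ⟨h.mem_four.2 ⟨mul_mem b.2.1 (h.rot_mem hxc), (key _).1 ?_⟩, fun h' =>
          h.z_ne_one ?_⟩
        · rw [show (b : G) * x * y * ((b : G) * x)⁻¹ = b * (x * y * x⁻¹) * (b : G)⁻¹ by group, hxy,
            show (b : G) * (z * y) * (b : G)⁻¹ = b * z * (b : G)⁻¹ * (b * y * (b : G)⁻¹) by group,
            hbz, e, ← mul_assoc, h.z_sq, one_mul]
        · have := (key _).2 (h.mem_four.1 h').2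
          rw [e, mul_eq_right] at this
          exact this
    rw [← ((D ⊓ centralizer ({y} : Set G)).subgroupOf (nFour D y)).index_mul_card, hidx,
      Nat.card_congr (subgroupOfEquivOfLe hle).toEquiv, h.card_four hy hyc]

theorem commute_of_two (h2 : n = 2) {d d' : G} (hd : d ∈ D) (hd' : d' ∈ D) : Commute d d' := by
  have hca : Commute c a := by
    have hc2 : c * c = 1 := by rw [← pow_two, ← h2, ← h.ord, pow_orderOf_eq_one]
    have := h.inv a h.mema h.anot c (mem_zpowers c)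
    rw [inv_eq_of_mul_eq_one_right hc2, mul_inv_eq_iff_eq_mul] at this
    exact this.symm
  have key : ∀ {g : G}, g ∈ D → Commute g c ∧ Commute g a := by
    intro g hg
    rcases h.cover g hg with e | e
    · obtain ⟨i, rfl⟩ := mem_zpowers_iff.1 e
      exact ⟨(Commute.refl c).zpow_left i, hca.zpow_left i⟩
    · obtain ⟨i, hi⟩ := mem_zpowers_iff.1 e
      rw [show g = c ^ i * a⁻¹ by rw [eq_mul_inv_iff_mul_eq, hi]]
      exact ⟨((Commute.refl c).zpow_left i).mul_left hca.symm.inv_left,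
        (hca.zpow_left i).mul_left (Commute.refl a).inv_left⟩
  rcases h.cover d' hd' with e | e
  · obtain ⟨i, rfl⟩ := mem_zpowers_iff.1 e
    exact (key hd).1.zpow_right i
  · obtain ⟨i, hi⟩ := mem_zpowers_iff.1 e
    rw [show d' = c ^ i * a⁻¹ by rw [eq_mul_inv_iff_mul_eq, hi]]
    exact ((key hd).1.zpow_right i).mul_right (key hd).2.inv_right

end Dih

namespace Frame

variable [Finite G] {S : Sylow 2 G} {D₁ D₂ : Subgroup G} {c₁ a₁ z₁ c₂ a₂ z₂ : G} {n₁ n₂ : ℕ}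
  (F : Frame S D₁ D₂ c₁ a₁ z₁ c₂ a₂ z₂ n₁ n₂)

include F

theorem card_sup {A B : Subgroup G} (hA : A ≤ D₁) (hB : B ≤ D₂) :
    Nat.card ↥(A ⊔ B) = Nat.card A * Nat.card B := by
  rw [← Nat.card_prod]
  have hcomm : ∀ q ∈ A ⊔ B, ∃ d ∈ A, ∃ e ∈ B, q = d * e := by
    let U : Subgroup G :=
      { carrier := {g | ∃ d ∈ A, ∃ e ∈ B, g = d * e}
        one_mem' := ⟨1, one_mem _, 1, one_mem _, (one_mul 1).symm⟩
        mul_mem' := by
          rintro _ _ ⟨d, hd, e, he, rfl⟩ ⟨d', hd', e', he', rfl⟩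
          exact ⟨d * d', mul_mem hd hd', e * e', mul_mem he he',
            (F.comm (hA hd') (hB he)).symm.mul_mul_mul_comm _ _⟩
        inv_mem' := by
          rintro _ ⟨d, hd, e, he, rfl⟩
          exact ⟨d⁻¹, inv_mem hd, e⁻¹, inv_mem he, by
            rw [(F.comm (hA hd) (hB he)).eq, _root_.mul_inv_rev]⟩ }
    have hle : A ⊔ B ≤ U := sup_le (fun d hd => ⟨d, hd, 1, one_mem _, (mul_one d).symm⟩)
      (fun e he => ⟨1, one_mem _, e, he, (one_mul e).symm⟩)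
    exact fun q hq => hle hq
  refine (Nat.card_congr (Equiv.ofBijective (fun p : A × B =>
    (⟨(p.1 : G) * p.2, mul_mem (mem_sup_left p.1.2) (mem_sup_right p.2.2)⟩ : ↥(A ⊔ B))) ⟨?_, ?_⟩)).symm
  · rintro ⟨d, e⟩ ⟨d', e'⟩ h
    obtain ⟨h1, h2⟩ := F.unique (hA d.2) (hB e.2) (hA d'.2) (hB e'.2) (congrArg Subtype.val h)
    exact Prod.ext (Subtype.ext h1) (Subtype.ext h2)
  · rintro ⟨q, hq⟩
    obtain ⟨d, hd, e, he, rfl⟩ := hcomm q hq
    exact ⟨(⟨d, hd⟩, ⟨e, he⟩), rfl⟩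

variable {y w : G}

theorem EL_form (hy : y ∈ D₁) (hw : w ∈ D₂) :
    EL S y w = (D₁ ⊓ centralizer ({y} : Set G)) ⊔ (D₂ ⊓ centralizer ({w} : Set G)) := by
  refine le_antisymm (fun q hq => ?_) (sup_le ?_ ?_)
  · obtain ⟨hqS, hqy, hqw⟩ := mem_EL.1 hq
    obtain ⟨d, hd, e, he, rfl⟩ := F.decomp hqS
    rw [← mul_one y, F.commute_iff hd he hy (one_mem _)] at hqy
    rw [← one_mul w, F.commute_iff hd he (one_mem _) hw] at hqw
    exact mul_mem_sup (F.d₁.mem_four.2 ⟨hd, hqy.1⟩) (F.d₂.mem_four.2 ⟨he, hqw.2⟩)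
  · intro d hd
    obtain ⟨hd, hdy⟩ := F.d₁.mem_four.1 hd
    exact mem_EL.2 ⟨F.le₁ hd, hdy, F.comm hd hw⟩
  · intro e he
    obtain ⟨he, hew⟩ := F.d₂.mem_four.1 he
    exact mem_EL.2 ⟨F.le₂ he, (F.comm hy he).symm, hew⟩

end Frame

/-- The reflections of a rectangle. -/
structure Rect [Finite G] (S : Sylow 2 G) (D₁ D₂ : Subgroup G) (c₁ a₁ z₁ c₂ a₂ z₂ : G) (n₁ n₂ : ℕ)
    (y w : G) : Prop where
  frame : Frame S D₁ D₂ c₁ a₁ z₁ c₂ a₂ z₂ n₁ n₂
  ymem : y ∈ D₁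
  ynot : y ∉ zpowers c₁
  wmem : w ∈ D₂
  wnot : w ∉ zpowers c₂

namespace Rect

variable [Finite G] {S : Sylow 2 G} {D₁ D₂ : Subgroup G} {c₁ a₁ z₁ c₂ a₂ z₂ : G} {n₁ n₂ : ℕ}
  {y w : G} (r : Rect S D₁ D₂ c₁ a₁ z₁ c₂ a₂ z₂ n₁ n₂ y w)

include r

theorem mem_y : y ∈ EL S y w :=
  mem_EL.2 ⟨r.frame.le₁ r.ymem, Commute.refl y, r.frame.comm r.ymem r.wmem⟩

theorem mem_w : w ∈ EL S y w :=
  mem_EL.2 ⟨r.frame.le₂ r.wmem, (r.frame.comm r.ymem r.wmem).symm, Commute.refl w⟩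

theorem mem_z₁ : z₁ ∈ EL S y w :=
  mem_EL.2 ⟨r.frame.le₁ r.frame.d₁.z_mem, r.frame.z₁_central (r.frame.le₁ r.ymem),
    r.frame.z₁_central (r.frame.le₂ r.wmem)⟩

theorem mem_z₂ : z₂ ∈ EL S y w :=
  mem_EL.2 ⟨r.frame.le₂ r.frame.d₂.z_mem, r.frame.z₂_central (r.frame.le₁ r.ymem),
    r.frame.z₂_central (r.frame.le₂ r.wmem)⟩

theorem z_ne : z₁ ≠ z₂ := fun e => r.frame.d₁.z_ne_one
  (r.frame.unique r.frame.d₁.z_mem (one_mem _) (one_mem _) r.frame.d₂.z_mem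
    (by rw [mul_one, one_mul, e])).1

theorem gen {K : Subgroup G} (h1 : z₁ ∈ K) (h2 : z₂ ∈ K) (h3 : y ∈ K) (h4 : w ∈ K) :
    EL S y w ≤ K := by
  rw [r.frame.EL_form r.ymem r.wmem]
  refine sup_le (fun d hd => ?_) fun e he => ?_
  · obtain ⟨hd, hdy⟩ := r.frame.d₁.mem_four.1 hd
    rcases r.frame.d₁.four r.ymem r.ynot hd hdy with e | e | e | e <;> rw [e]
    exacts [one_mem _, h1, h3, mul_mem h1 h3]
  · obtain ⟨he, hew⟩ := r.frame.d₂.mem_four.1 he
    rcases r.frame.d₂.four r.wmem r.wnot he hew with h | h | h | h <;> rw [h]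
    exacts [one_mem _, h2, h4, mul_mem h2 h4]

theorem same_ext {g h : G} (e1 : g * z₁ * g⁻¹ = h * z₁ * h⁻¹) (e2 : g * z₂ * g⁻¹ = h * z₂ * h⁻¹)
    (e3 : g * y * g⁻¹ = h * y * h⁻¹) (e4 : g * w * g⁻¹ = h * w * h⁻¹) : Same (EL S y w) g h :=
  fun _ hq => r.gen
    (K := (MulAut.conj g).toMonoidHom.eqLocus (MulAut.conj h).toMonoidHom) e1 e2 e3 e4 hq

theorem comm_EL {q q' : G} (hq : q ∈ EL S y w) (hq' : q' ∈ EL S y w) : Commute q q' := by
  obtain ⟨hqS, hqy, hqw⟩ := mem_EL.1 hq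
  exact (mem_centralizer_singleton_iff.1 (r.gen (K := centralizer ({q} : Set G))
    (mem_centralizer_singleton_iff.2 (r.frame.z₁_central hqS).eq)
    (mem_centralizer_singleton_iff.2 (r.frame.z₂_central hqS).eq)
    (mem_centralizer_singleton_iff.2 hqy.symm.eq) (mem_centralizer_singleton_iff.2 hqw.symm.eq) hq')
    : q' * q = q * q').symm

theorem sq_EL {q : G} (hq : q ∈ EL S y w) : q * q = 1 := by
  rw [r.frame.EL_form r.ymem r.wmem] at hq
  have hq' : q ∈ EL S y w := by rwa [r.frame.EL_form r.ymem r.wmem]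
  let K : Subgroup G :=
    { carrier := {g | g ∈ EL S y w ∧ g * g = 1}
      one_mem' := ⟨one_mem _, mul_one 1⟩
      mul_mem' := fun {g g'} h h' => ⟨mul_mem h.1 h'.1, by
        rw [(r.comm_EL h'.1 h.1).mul_mul_mul_comm, h.2, h'.2, one_mul]⟩
      inv_mem' := fun {g} h => ⟨inv_mem h.1, by rw [← _root_.mul_inv_rev, h.2, inv_one]⟩ }
  exact (r.gen (K := K) ⟨r.mem_z₁, r.frame.d₁.z_sq⟩ ⟨r.mem_z₂, r.frame.d₂.z_sq⟩
    ⟨r.mem_y, r.frame.d₁.sq y r.ymem r.ynot⟩ ⟨r.mem_w, r.frame.d₂.sq w r.wmem r.wnot⟩ hq').2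

theorem card_EL : Nat.card (EL S y w) = 16 := by
  rw [r.frame.EL_form r.ymem r.wmem, r.frame.card_sup inf_le_left inf_le_left,
    r.frame.d₁.card_four r.ymem r.ynot, r.frame.d₂.card_four r.wmem r.wnot]

theorem norm_form :
    (S : Subgroup G) ⊓ normalizer (EL S y w : Set G) = nFour D₁ y ⊔ nFour D₂ w := by
  refine le_antisymm (fun t ht => ?_) (sup_le ?_ ?_)
  · obtain ⟨htS, htN⟩ := ht
    obtain ⟨d, hd, e, he, rfl⟩ := r.frame.decomp htS
    refine mul_mem_sup ⟨hd, mem_normalizer_fintype fun q hq => ?_⟩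
      ⟨he, mem_normalizer_fintype fun q hq => ?_⟩
    · obtain ⟨hqD, hqy⟩ := r.frame.d₁.mem_four.1 hq
      have h1 := conj_mem_of_mem_normalizer htN
        (mem_EL.2 ⟨r.frame.le₁ hqD, hqy, r.frame.comm hqD r.wmem⟩ : q ∈ EL S y w)
      rw [← mul_one q, r.frame.conj_mul hd he hqD (one_mem _), mul_one, mul_inv_cancel, mul_one] at h1
      exact r.frame.d₁.mem_four.2 ⟨mul_mem (mul_mem hd hqD) (inv_mem hd), (mem_EL.1 h1).2.1⟩
    · obtain ⟨hqD, hqw⟩ := r.frame.d₂.mem_four.1 hq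
      have h1 := conj_mem_of_mem_normalizer htN
        (mem_EL.2 ⟨r.frame.le₂ hqD, (r.frame.comm r.ymem hqD).symm, hqw⟩ : q ∈ EL S y w)
      rw [← one_mul q, r.frame.conj_mul hd he (one_mem _) hqD, mul_one, mul_inv_cancel, one_mul] at h1
      exact r.frame.d₂.mem_four.2 ⟨mul_mem (mul_mem he hqD) (inv_mem he), (mem_EL.1 h1).2.2⟩
  · intro d hd
    refine ⟨r.frame.le₁ hd.1, mem_normalizer_fintype fun q hq => ?_⟩
    obtain ⟨hqS, hqy, hqw⟩ := mem_EL.1 hq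
    obtain ⟨q₁, hq₁, q₂, hq₂, rfl⟩ := r.frame.decomp hqS
    rw [← mul_one y, r.frame.commute_iff hq₁ hq₂ r.ymem (one_mem _)] at hqy
    rw [← one_mul w, r.frame.commute_iff hq₁ hq₂ (one_mem _) r.wmem] at hqw
    rw [← mul_one d, r.frame.conj_mul hd.1 (one_mem _) hq₁ hq₂, one_mul, inv_one, mul_one]
    have h1 := r.frame.d₁.mem_four.1 (conj_mem_of_mem_normalizer hd.2 (r.frame.d₁.mem_four.2 ⟨hq₁, hqy.1⟩))
    rw [r.frame.EL_form r.ymem r.wmem]
    exact mul_mem_sup (r.frame.d₁.mem_four.2 ⟨h1.1, h1.2⟩) (r.frame.d₂.mem_four.2 ⟨hq₂, hqw.2⟩)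
  · intro e he
    refine ⟨r.frame.le₂ he.1, mem_normalizer_fintype fun q hq => ?_⟩
    obtain ⟨hqS, hqy, hqw⟩ := mem_EL.1 hq
    obtain ⟨q₁, hq₁, q₂, hq₂, rfl⟩ := r.frame.decomp hqS
    rw [← mul_one y, r.frame.commute_iff hq₁ hq₂ r.ymem (one_mem _)] at hqy
    rw [← one_mul w, r.frame.commute_iff hq₁ hq₂ (one_mem _) r.wmem] at hqw
    rw [← one_mul e, r.frame.conj_mul (one_mem _) he.1 hq₁ hq₂, one_mul, inv_one, mul_one]
    have h1 := r.frame.d₂.mem_four.1 (conj_mem_of_mem_normalizer he.2 (r.frame.d₂.mem_four.2 ⟨hq₂, hqw.2⟩))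
    rw [r.frame.EL_form r.ymem r.wmem]
    exact mul_mem_sup (r.frame.d₁.mem_four.2 ⟨hq₁, hqy.1⟩) (r.frame.d₂.mem_four.2 ⟨h1.1, h1.2⟩)

theorem card_norm : Nat.card ↥((S : Subgroup G) ⊓ normalizer (EL S y w : Set G)) =
    (if n₁ = 2 then 4 else 8) * (if n₂ = 2 then 4 else 8) := by
  rw [r.norm_form, r.frame.card_sup (show nFour D₁ y ≤ D₁ from inf_le_left)
    (show nFour D₂ w ≤ D₂ from inf_le_left), r.frame.d₁.card_nFour r.ymem r.ynot,
    r.frame.d₂.card_nFour r.wmem r.wnot]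

omit r in
theorem recognize {F : Frame S D₁ D₂ c₁ a₁ z₁ c₂ a₂ z₂ n₁ n₂} {K : Subgroup G}
    (hK : K ≤ (S : Subgroup G)) (hc : ∀ q ∈ K, ∀ q' ∈ K, Commute q q') (hs : ∀ q ∈ K, q * q = 1)
    (hcard : Nat.card K = 16) :
    ∃ y' w', Rect S D₁ D₂ c₁ a₁ z₁ c₂ a₂ z₂ n₁ n₂ y' w' ∧ K = EL S y' w' := by
  classical
  have hco : ∀ {d e d' e'}, d ∈ D₁ → e ∈ D₂ → d' ∈ D₁ → e' ∈ D₂ → d * e ∈ K → d' * e' ∈ K →
      Commute d d' ∧ Commute e e' ∧ d * d = 1 ∧ e * e = 1 := by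
    intro d e d' e' hd he hd' he' hq hq'
    refine ⟨((F.commute_iff hd he hd' he').1 (hc _ hq _ hq')).1,
      ((F.commute_iff hd he hd' he').1 (hc _ hq _ hq')).2, ?_⟩
    have h1 := hs _ hq
    rw [(F.comm hd he).symm.mul_mul_mul_comm, ← mul_one (1 : G)] at h1
    exact F.unique (mul_mem hd hd) (mul_mem he he) (one_mem _) (one_mem _) h1
  -- first coordinates
  obtain ⟨X₁, hX₁, hX₁c, hX₁m⟩ : ∃ X₁ ≤ D₁,
      ((∃ y', y' ∈ D₁ ∧ y' ∉ zpowers c₁ ∧ X₁ = D₁ ⊓ centralizer ({y'} : Set G)) ∨ Nat.card X₁ ≤ 2) ∧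
      ∀ d ∈ D₁, ∀ e ∈ D₂, d * e ∈ K → d ∈ X₁ := by
    by_cases hy : ∃ y' ∈ D₁, y' ∉ zpowers c₁ ∧ ∃ e ∈ D₂, y' * e ∈ K
    · obtain ⟨y', hy', hyc, e', he', hq'⟩ := hy
      exact ⟨_, inf_le_left, Or.inl ⟨y', hy', hyc, rfl⟩, fun d hd e he hq =>
        F.d₁.mem_four.2 ⟨hd, (hco hd he hy' he' hq hq').1⟩⟩
    · push Not at hy
      refine ⟨zpowers z₁, zpowers_le.2 F.d₁.z_mem, Or.inr ?_, fun d hd e he hq => ?_⟩
      · rw [Nat.card_zpowers]
        exact Nat.le_of_dvd two_pos (orderOf_dvd_of_pow_eq_one (by rw [pow_two, F.d₁.z_sq]))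
      · have hdc : d ∈ zpowers c₁ := by
          by_contra hdc
          exact hy d hd hdc e he hq
        rcases F.d₁.sq_one_rot hdc (hco hd he hd he hq hq).2.2.1 with h | h <;> rw [h]
        exacts [one_mem _, mem_zpowers _]
  obtain ⟨X₂, hX₂, hX₂c, hX₂m⟩ : ∃ X₂ ≤ D₂,
      ((∃ w', w' ∈ D₂ ∧ w' ∉ zpowers c₂ ∧ X₂ = D₂ ⊓ centralizer ({w'} : Set G)) ∨ Nat.card X₂ ≤ 2) ∧
      ∀ d ∈ D₁, ∀ e ∈ D₂, d * e ∈ K → e ∈ X₂ := by
    by_cases hy : ∃ w' ∈ D₂, w' ∉ zpowers c₂ ∧ ∃ d ∈ D₁, d * w' ∈ K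
    · obtain ⟨w', hw', hwc, d', hd', hq'⟩ := hy
      exact ⟨_, inf_le_left, Or.inl ⟨w', hw', hwc, rfl⟩, fun d hd e he hq =>
        F.d₂.mem_four.2 ⟨he, (hco hd he hd' hw' hq hq').2.1⟩⟩
    · push Not at hy
      refine ⟨zpowers z₂, zpowers_le.2 F.d₂.z_mem, Or.inr ?_, fun d hd e he hq => ?_⟩
      · rw [Nat.card_zpowers]
        exact Nat.le_of_dvd two_pos (orderOf_dvd_of_pow_eq_one (by rw [pow_two, F.d₂.z_sq]))
      · have hec : e ∈ zpowers c₂ := by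
          by_contra hec
          exact hy e he hec d hd hq
        rcases F.d₂.sq_one_rot hec (hco hd he hd he hq hq).2.2.2 with h | h <;> rw [h]
        exacts [one_mem _, mem_zpowers _]
  have hle : K ≤ X₁ ⊔ X₂ := fun q hq => by
    obtain ⟨d, hd, e, he, rfl⟩ := F.decomp (hK hq)
    exact mul_mem_sup (hX₁m d hd e he hq) (hX₂m d hd e he hq)
  have hb := (Nat.le_of_dvd Nat.card_pos (card_dvd_of_le hle))
  rw [hcard, F.card_sup hX₁ hX₂] at hb
  rcases hX₁c with ⟨y', hy', hyc, rfl⟩ | h1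
  · rcases hX₂c with ⟨w', hw', hwc, rfl⟩ | h2
    · have r' : Rect S D₁ D₂ c₁ a₁ z₁ c₂ a₂ z₂ n₁ n₂ y' w' := ⟨F, hy', hyc, hw', hwc⟩
      refine ⟨y', w', r', ?_⟩
      rw [← F.EL_form hy' hw'] at hle
      exact eq_of_le_of_card_ge hle (by rw [r'.card_EL, hcard])
    · rw [F.d₁.card_four hy' hyc] at hb
      have := Nat.mul_le_mul_left 4 h2
      omega
  · rcases hX₂c with ⟨w', hw', hwc, rfl⟩ | h2
    · rw [F.d₂.card_four hw' hwc] at hb
      have := Nat.mul_le_mul_right 4 h1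
      omega
    · have := Nat.mul_le_mul h1 h2
      omega

/-- `S ∩ N(V × W)` is a Sylow subgroup of the normalizer. -/
theorem sylow_norm : ¬ 2 ∣ ((S : Subgroup G) ⊓ normalizer (EL S y w : Set G)).relIndex
    (normalizer (EL S y w : Set G)) := by
  haveI : Fact (Nat.Prime 2) := ⟨Nat.prime_two⟩
  set N := normalizer (EL S y w : Set G) with hN
  have hTp : IsPGroup 2 ((S : Subgroup G) ⊓ N : Subgroup G) := S.2.to_inf_left
  obtain ⟨R, hR⟩ := (hTp.of_equiv (subgroupOfEquivOfLe inf_le_right).symm).exists_le_sylow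
  have hRp : IsPGroup 2 ((R : Subgroup N).map N.subtype) := R.2.map _
  obtain ⟨S', hS'⟩ := hRp.exists_le_sylow
  obtain ⟨g, rfl⟩ := MulAction.exists_smul_eq G S S'
  -- conjugate into `S`
  have hback : ∀ q ∈ (R : Subgroup N).map N.subtype, g⁻¹ * q * g ∈ (S : Subgroup G) := by
    intro q hq
    obtain ⟨s, hs, e⟩ := hS' hq
    have e' : g * s * g⁻¹ = q := e
    rw [← e', show g⁻¹ * (g * s * g⁻¹) * g = s by group]
    exact hs
  have hEN : EL S y w ≤ (S : Subgroup G) ⊓ N :=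
    le_inf (fun q hq => (mem_EL.1 hq).1) le_normalizer
  have hTR : (S : Subgroup G) ⊓ N ≤ (R : Subgroup N).map N.subtype := fun q hq =>
    ⟨⟨q, hq.2⟩, hR (mem_subgroupOf.2 hq), rfl⟩
  obtain ⟨K, hK⟩ : ∃ K, K = (EL S y w).map (MulAut.conj g⁻¹).toMonoidHom := ⟨_, rfl⟩
  have hKm : ∀ {q}, q ∈ K → g * q * g⁻¹ ∈ EL S y w := by
    intro q hq
    rw [hK] at hq
    obtain ⟨s, hs, rfl⟩ := hq
    simpa [mul_assoc] using hs
  have hmap : ∀ {q}, q ∈ EL S y w → g⁻¹ * q * g ∈ K := fun {q} hq => hK ▸ ⟨q, hq, by simp⟩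
  have hKS : K ≤ (S : Subgroup G) := fun q hq => by
    have := hback _ (hTR (hEN (hKm hq)))
    simpa [mul_assoc] using this
  obtain ⟨y', w', r', hK'⟩ := recognize (F := r.frame) hKS
    (fun q hq q' hq' => by
      have := (r.comm_EL (hKm hq) (hKm hq')).map (MulAut.conj g⁻¹).toMonoidHom
      simpa [mul_assoc] using this)
    (fun q hq => conj_eq_one_iff.1 (show g * (q * q) * g⁻¹ = 1 by
      rw [← r.sq_EL (hKm hq)]; group))
    (by rw [hK, card_map_of_injective (f := (MulAut.conj g⁻¹).toMonoidHom) (MulAut.conj g⁻¹).injective,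
      r.card_EL])
  have hle : ((R : Subgroup N).map N.subtype).map (MulAut.conj g⁻¹).toMonoidHom ≤
      (S : Subgroup G) ⊓ normalizer (EL S y' w' : Set G) := by
    rintro _ ⟨q, hq, rfl⟩
    refine ⟨by rw [MulEquiv.coe_toMonoidHom, MulAut.conj_apply, inv_inv]; exact hback q hq, ?_⟩
    rw [← hK']
    refine mem_normalizer_fintype fun s hs => ?_
    obtain ⟨m, -, e⟩ := hq
    have hqN : q ∈ N := e ▸ m.2
    have := hmap (conj_mem_of_mem_normalizer (hN ▸ hqN) (hKm hs))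
    simp only [MulEquiv.coe_toMonoidHom, MulAut.conj_apply, inv_inv]
    rwa [show g⁻¹ * (q * (g * s * g⁻¹) * q⁻¹) * g = g⁻¹ * q * g * s * (g⁻¹ * q * g)⁻¹ by group] at this
  have hc := Nat.le_of_dvd Nat.card_pos (card_dvd_of_le hle)
  rw [card_map_of_injective (f := (MulAut.conj g⁻¹).toMonoidHom) (MulAut.conj g⁻¹).injective,
    r'.card_norm, ← r.card_norm] at hc
  rw [eq_of_le_of_card_ge hTR hc]
  show ¬ 2 ∣ (((R : Subgroup N).map N.subtype).subgroupOf N).index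
  rw [subgroupOf, comap_map_eq_self_of_injective N.subtype_injective]
  exact R.not_dvd_index

end Rect

end Cfsg.Lib.TwoFusion.DihProd
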