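import Cfsg.Agent.Lib.TwoFusion.DihedralProduct.Fixing
import Mathlib.Algebra.Group.Subgroup.Pointwise

/-!
# Product fusion in a Sylow 2-subgroup which is a product of two dihedral groups

Without normal subgroups of index 2 the factors generated by the centres form a direct decomposition
into strongly closed subgroups.
-/

set_option autoImplicit false
set_option linter.style.haveILetI false
set_option linter.unusedSectionVars false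

open Subgroup Pointwise

namespace Cfsg.Lib.TwoFusion.DihProd

open Cfsg.Lib.Fusion (Moves)

variable {G : Type*} [Group G] [Finite G] {S : Sylow 2 G} {D₁ D₂ : Subgroup G}
  {c₁ a₁ z₁ c₂ a₂ z₂ : G} {n₁ n₂ : ℕ}

namespace Frame

variable (F : Frame S D₁ D₂ c₁ a₁ z₁ c₂ a₂ z₂ n₁ n₂) (h2 : ∀ N : Subgroup G, N.Normal → N.index ≠ 2)
  {x₁ x₂ : G} (hx₁ : x₁ ∈ zpowers c₁) (hxx₁ : x₁ * x₁ = z₁)
  (hx₂ : 4 ≤ n₂ → x₂ ∈ zpowers c₂ ∧ x₂ * x₂ = z₂) {S₂ : Subgroup G}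
  (hS₂ : S₂ ≤ (S : Subgroup G)) (hconj : ∀ s ∈ (S : Subgroup G), ∀ q ∈ S₂, s * q * s⁻¹ ∈ S₂)

include F h2 hx₁ hxx₁ hx₂ hS₂ in
/-- The two factors generate `S`. -/
theorem sup_eq (hO : 4 ≤ n₂ → fac S D₂ c₂ z₂ ≤ S₂) (hC : closure (oddSet S) ≤ S₂) :
    fac S D₁ c₁ z₁ ⊔ S₂ = (S : Subgroup G) := by
  refine Cfsg.Lib.Fusion.top_of_fusion h2 (sup_le F.fac_le hS₂) fun M hM hMS hcomm x g hx hg => ?_
  have h1 : ∀ {a}, a ∈ fac S D₁ c₁ z₁ → a ∈ M := fun h => hM (mem_sup_left h)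
  have h2' : ∀ {a}, a ∈ S₂ → a ∈ M := fun h => hM (mem_sup_right h)
  refine F.fusion_rel (R := fun a b => a⁻¹ * b ∈ M) ?_ ?_ ?_ ?_ hx₁ hxx₁ ?_ (x₂ := x₂) ?_ hx hg
  · intro a b c hab hbc
    have := mul_mem hab hbc
    rwa [show a⁻¹ * b * (b⁻¹ * c) = a⁻¹ * c by group] at this
  · exact fun s hs a ha => hcomm a ha s hs
  · intro a
    simp only [inv_mul_cancel]
    exact one_mem M
  · exact fun g hg hm a ha => h2' (hC (subset_closure ⟨a, ha, g, hg, hm, rfl⟩))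
  · refine F.tv_moves hx₁ hxx₁ (fun a => by simp only [inv_mul_cancel]; exact one_mem M)
      fun y hy hyc => ⟨fun g hg a _ _ => ?_, fun w hw hwc g hg a _ _ => ?_⟩
    · rw [inv_mul_cancel_left]
      exact h1 (F.centre_mem_QL hx₁ hxx₁ hy hyc hg)
    · rw [inv_mul_cancel_left]
      exact h1 (F.centre_mem_EL hx₁ hxx₁ hy hyc hw hwc hg)
  · intro h4
    refine ⟨(hx₂ h4).1, (hx₂ h4).2, (F.swap h4).tv_moves (hx₂ h4).1 (hx₂ h4).2
      (fun a => by simp only [inv_mul_cancel]; exact one_mem M)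
      fun y hy hyc => ⟨fun g hg a _ _ => ?_, fun w hw hwc g hg a _ _ => ?_⟩⟩
    · rw [inv_mul_cancel_left]
      exact h2' (hO h4 ((F.swap h4).centre_mem_QL (hx₂ h4).1 (hx₂ h4).2 hy hyc hg))
    · rw [inv_mul_cancel_left]
      exact h2' (hO h4 ((F.swap h4).centre_mem_EL (hx₂ h4).1 (hx₂ h4).2 hy hyc hw hwc hg))

include F hx₁ hxx₁ in
theorem orb_exists_of_sup (hsup : fac S D₁ c₁ z₁ ⊔ S₂ = (S : Subgroup G))
    (hfirst : S₂ ≤ zpowers z₁ ⊔ D₂) :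
    ∀ y ∈ D₁, y ∉ zpowers c₁ → ∃ x, Orb S z₁ y x ∧ x ≠ z₁ := by
  intro y hy hyc
  refine F.orb_exists hx₁ hxx₁ hy hyc ?_
  have hle : (S : Subgroup G) ≤ fac S D₁ c₁ z₁ ⊔ D₂ := by
    rw [← hsup]
    exact sup_le le_sup_left (hfirst.trans (sup_le
      ((zpowers_le.2 (subset_closure F.z_mem_orbSet : z₁ ∈ fac S D₁ c₁ z₁)).trans le_sup_left)
      le_sup_right))
  have hN : fac S D₁ c₁ z₁ ≤ normalizer (D₂ : Set G) := fun s hs => by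
    obtain ⟨d, hd, e, he, rfl⟩ := F.decomp (F.fac_le hs)
    refine mem_normalizer_fintype fun f hf => ?_
    rw [SetLike.mem_coe] at hf ⊢
    rw [show d * e * f * (d * e)⁻¹ = d * (e * f * e⁻¹) * d⁻¹ by group,
      (F.comm hd (mul_mem (mul_mem he hf) (inv_mem he))).eq, mul_inv_cancel_right]
    exact mul_mem (mul_mem he hf) (inv_mem he)
  have hy' : y ∈ ((fac S D₁ c₁ z₁ ⊔ D₂ : Subgroup G) : Set G) := hle (F.le₁ hy)
  rw [Subgroup.coe_mul_of_left_le_normalizer_right _ _ hN] at hy'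
  obtain ⟨s, hs, e, he, hse⟩ := Set.mem_mul.1 hy'
  exact ⟨e⁻¹, inv_mem he, by rw [← hse, mul_inv_cancel_right]; exact hs⟩

include F hx₁ hxx₁ hS₂ hconj in
theorem product (hsup : fac S D₁ c₁ z₁ ⊔ S₂ = (S : Subgroup G)) (hinf : S₂ ⊓ D₁ = ⊥) :
    Cfsg.IsInternalDirectProduct (fac S D₁ c₁ z₁) S₂ (S : Subgroup G) ∧
      Nonempty (fac S D₁ c₁ z₁ ≃* D₁) ∧ Nonempty (S₂ ≃* D₂) := by
  obtain ⟨A, hA⟩ : ∃ A, A = fac S D₁ c₁ z₁ := ⟨_, rfl⟩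
  have hAS : A ≤ (S : Subgroup G) := hA ▸ F.fac_le
  have hAc : ∀ s ∈ (S : Subgroup G), ∀ q ∈ A, s * q * s⁻¹ ∈ A := fun s hs q hq =>
    hA ▸ F.fac_conj hs (hA ▸ hq)
  obtain ⟨hA1, hA2⟩ := F.embed₁ hAS (hA ▸ F.fac_inf hx₁ hxx₁)
  obtain ⟨hB1, hB2⟩ := F.embed₂ hS₂ hinf
  have hN : A ≤ normalizer (S₂ : Set G) := fun s hs =>
    mem_normalizer_fintype fun q hq => hconj s (hAS hs) q hq
  let f : A × S₂ → (S : Subgroup G) := fun p => ⟨p.1 * p.2, mul_mem (hAS p.1.2) (hS₂ p.2.2)⟩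
  have hf : Function.Surjective f := by
    rintro ⟨s, hs⟩
    have hs' : s ∈ ((A ⊔ S₂ : Subgroup G) : Set G) := by rw [hA, hsup]; exact hs
    rw [Subgroup.coe_mul_of_left_le_normalizer_right _ _ hN] at hs'
    obtain ⟨a, ha, b, hb, e⟩ := Set.mem_mul.1 hs'
    exact ⟨(⟨a, ha⟩, ⟨b, hb⟩), Subtype.ext e⟩
  have hS : Nat.card (S : Subgroup G) = Nat.card D₁ * Nat.card D₂ := by
    rw [← F.card_sup le_rfl le_rfl, F.prod.2.2.2.2]
  have h1 := Nat.card_le_card_of_surjective f hf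
  rw [hS, Nat.card_prod] at h1
  have eA : Nat.card A = Nat.card D₁ := by
    refine le_antisymm hA1 ?_
    by_contra h
    have := Nat.mul_lt_mul_of_lt_of_le (not_le.1 h) hB1 Nat.card_pos
    omega
  have eB : Nat.card S₂ = Nat.card D₂ := by
    refine le_antisymm hB1 ?_
    rw [eA] at h1
    exact Nat.le_of_mul_le_mul_left h1 Nat.card_pos
  have hinj : Function.Injective f :=
    ((Nat.bijective_iff_surjective_and_card f).2 ⟨hf, by rw [Nat.card_prod, eA, eB, hS]⟩).1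
  have hAB : A ⊓ S₂ = ⊥ := by
    refine eq_bot_iff.2 fun x hx => ?_
    have := congrArg Prod.fst (hinj (a₁ := ((⟨x, hx.1⟩, ⟨x⁻¹, inv_mem hx.2⟩) : A × S₂)) (a₂ := (1, 1))
      (Subtype.ext (by show x * x⁻¹ = (1 : G) * 1; group)))
    exact mem_bot.2 (congrArg Subtype.val this)
  have hc : ∀ a ∈ A, ∀ b ∈ S₂, a * b = b * a := by
    intro a ha b hb
    have h3 : a * b * a⁻¹ * b⁻¹ ∈ A ⊓ S₂ := by
      refine Subgroup.mem_inf.2 ⟨?_, mul_mem (hconj a (hAS ha) b hb) (inv_mem hb)⟩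
      rw [show a * b * a⁻¹ * b⁻¹ = a * (b * a⁻¹ * b⁻¹) by group]
      exact mul_mem ha (hAc b (hS₂ hb) _ (inv_mem ha))
    rw [hAB, mem_bot, mul_inv_eq_one, mul_inv_eq_iff_eq_mul] at h3
    exact h3
  rw [← hA]
  exact ⟨⟨hAS, hS₂, hc, hAB, hA ▸ hsup⟩, hA2 eA, hB2 eB⟩

include F hx₁ hxx₁ hx₂ hS₂ hconj in
theorem strongly_closed (hO : 4 ≤ n₂ → fac S D₂ c₂ z₂ ≤ S₂)
    (hodd : ∀ g ∈ normalizer ((S : Subgroup G) : Set G), Odd (orderOf g) →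
      (∀ a ∈ fac S D₁ c₁ z₁, g * a * g⁻¹ ∈ fac S D₁ c₁ z₁) ∧ ∀ a ∈ S₂, g * a * g⁻¹ ∈ S₂)
    (hQL : ∀ y ∈ D₁, y ∉ zpowers c₁ → ∀ g ∈ normalizer (QL S y : Set G), ∀ a ∈ S₂, a ∈ QL S y →
      g * x₁ * g⁻¹ * a * (g * x₁ * g⁻¹)⁻¹ = a)
    (hEL : ∀ y ∈ D₁, y ∉ zpowers c₁ → ∀ w ∈ D₂, w ∉ zpowers c₂ →
      ∀ g ∈ normalizer (EL S y w : Set G), ∀ a ∈ S₂, a ∈ EL S y w →
      g * x₁ * g⁻¹ * a * (g * x₁ * g⁻¹)⁻¹ = a)
    (hT₂ : 4 ≤ n₂ →
      (∀ w ∈ D₂, w ∉ zpowers c₂ → ∀ g ∈ normalizer (QL S w : Set G), ∀ a ∈ fac S D₁ c₁ z₁, a ∈ QL S w →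
        g * x₂ * g⁻¹ * a * (g * x₂ * g⁻¹)⁻¹ = a) ∧
      ∀ w ∈ D₂, w ∉ zpowers c₂ → ∀ y ∈ D₁, y ∉ zpowers c₁ →
        ∀ g ∈ normalizer (EL S w y : Set G), ∀ a ∈ fac S D₁ c₁ z₁, a ∈ EL S w y →
        g * x₂ * g⁻¹ * a * (g * x₂ * g⁻¹)⁻¹ = a) :
    Cfsg.IsStronglyClosed (fac S D₁ c₁ z₁) (S : Subgroup G) ∧
      Cfsg.IsStronglyClosed S₂ (S : Subgroup G) := by
  have key : ∀ {x g : G}, x ∈ (S : Subgroup G) → g * x * g⁻¹ ∈ (S : Subgroup G) →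
      (x ∈ fac S D₁ c₁ z₁ → g * x * g⁻¹ ∈ fac S D₁ c₁ z₁) ∧ (x ∈ S₂ → g * x * g⁻¹ ∈ S₂) := by
    intro x g hx hg
    refine F.fusion_rel (R := fun a b => (a ∈ fac S D₁ c₁ z₁ → b ∈ fac S D₁ c₁ z₁) ∧ (a ∈ S₂ → b ∈ S₂))
      ?_ ?_ ?_ ?_ hx₁ hxx₁ ?_ (x₂ := x₂) ?_ hx hg
    · exact fun a b c h h' => ⟨fun ha => h'.1 (h.1 ha), fun ha => h'.2 (h.2 ha)⟩
    · exact fun s hs a _ => ⟨fun ha => F.fac_conj hs ha, fun ha => hconj s hs a ha⟩
    · exact fun a => ⟨id, id⟩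
    · exact fun g hg hm a _ => ⟨(hodd g hg hm).1 a, (hodd g hg hm).2 a⟩
    · refine F.tv_moves hx₁ hxx₁ (fun a => ⟨id, id⟩)
        fun y hy hyc => ⟨fun g hg a haQ e => ?_, fun w hw hwc g hg a haQ e => ?_⟩
      · refine ⟨fun ha => mul_mem ha (F.centre_mem_QL hx₁ hxx₁ hy hyc hg), fun ha => ?_⟩
        rw [← e, hQL y hy hyc g hg a ha haQ]
        exact ha
      · refine ⟨fun ha => mul_mem ha (F.centre_mem_EL hx₁ hxx₁ hy hyc hw hwc hg), fun ha => ?_⟩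
        rw [← e, hEL y hy hyc w hw hwc g hg a ha haQ]
        exact ha
    · intro h4
      refine ⟨(hx₂ h4).1, (hx₂ h4).2, (F.swap h4).tv_moves (hx₂ h4).1 (hx₂ h4).2 (fun a => ⟨id, id⟩)
        fun w hw hwc => ⟨fun g hg a haQ e => ?_, fun y hy hyc g hg a haQ e => ?_⟩⟩
      · refine ⟨fun ha => ?_, fun ha =>
          mul_mem ha (hO h4 ((F.swap h4).centre_mem_QL (hx₂ h4).1 (hx₂ h4).2 hw hwc hg))⟩
        rw [← e, (hT₂ h4).1 w hw hwc g hg a ha haQ]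
        exact ha
      · refine ⟨fun ha => ?_, fun ha =>
          mul_mem ha (hO h4 ((F.swap h4).centre_mem_EL (hx₂ h4).1 (hx₂ h4).2 hw hwc hy hyc hg))⟩
        rw [← e, (hT₂ h4).2 w hw hwc y hy hyc g hg a ha haQ]
        exact ha
  exact ⟨⟨F.fac_le, fun x hx g hg => (key (F.fac_le hx) hg).1 hx⟩,
    ⟨hS₂, fun x hx g hg => (key (hS₂ hx) hg).2 hx⟩⟩

include F h2 hx₁ hxx₁ in
theorem exists_factors_big {x₂ : G} (hx₂ : x₂ ∈ zpowers c₂) (hxx₂ : x₂ * x₂ = z₂) (h4 : 4 ≤ n₂) :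
    ∃ S₁ S₂ : Subgroup G, Cfsg.IsInternalDirectProduct S₁ S₂ (S : Subgroup G) ∧
      Nonempty (S₁ ≃* D₁) ∧ Nonempty (S₂ ≃* D₂) ∧
      Cfsg.IsStronglyClosed S₁ (S : Subgroup G) ∧ Cfsg.IsStronglyClosed S₂ (S : Subgroup G) := by
  have F' := F.swap h4
  have htriv : ∀ g ∈ normalizer ((S : Subgroup G) : Set G), Odd (orderOf g) →
      ∀ q ∈ (S : Subgroup G), g * q * g⁻¹ = q := fun g hg hm => F.odd_normalizer_big h4 hg hm
  have hC : closure (oddSet S) ≤ (⊥ : Subgroup G) := (closure_le _).2 fun x ⟨q, hq, g, hg, hm, e⟩ =>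
    mem_bot.2 (by rw [e, htriv g hg hm q hq, inv_mul_cancel])
  have first : ∀ {D D' : Subgroup G} {c a z c' a' z' : G} {n n' : ℕ}
      (E : Frame S D D' c a z c' a' z' n n') (x : G), x ∈ zpowers c → x * x = z → 4 ≤ n' →
      fac S D c z ≤ zpowers z' ⊔ D := by
    intro D D' c a z c' a' z' n n' E x hx hxx hn'
    refine (closure_le _).2 ?_
    rintro p ⟨y, hy, hyc, hp⟩
    rcases eq_or_ne p z with rfl | hne
    · exact mem_sup_right E.d₁.z_mem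
    obtain ⟨e, he, hec, -, hform⟩ := E.orb_form hx hxx hy hyc hp hne
    have he' : e ∈ zpowers z' := by
      rcases E.d₂.center_eq hn' he (hec _ E.d₂.memc) (hec _ E.d₂.mema) with h | h <;> rw [h]
      exacts [one_mem _, mem_zpowers z']
    have hye : y * e ∈ zpowers z' ⊔ D := mul_mem (mem_sup_right hy) (mem_sup_left he')
    rcases hform with h | h <;> rw [h]
    exacts [hye, mul_mem hye (mem_sup_right E.d₁.z_mem)]
  have hsup := F.sup_eq h2 hx₁ hxx₁ (fun _ => ⟨hx₂, hxx₂⟩) F'.fac_le (fun _ => le_rfl)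
    (hC.trans bot_le)
  have hinf : fac S D₂ c₂ z₂ ⊓ D₁ = ⊥ := F'.fac_inf hx₂ hxx₂
  have hex₁ := F.orb_exists_of_sup hx₁ hxx₁ hsup (first F' x₂ hx₂ hxx₂ F.big)
  have hex₂ := F'.orb_exists_of_sup hx₂ hxx₂ (sup_comm (fac S D₁ c₁ z₁) _ ▸ hsup)
    (first F x₁ hx₁ hxx₁ h4)
  obtain ⟨hprod, i₁, i₂⟩ := F.product hx₁ hxx₁ F'.fac_le (fun s hs q hq => F'.fac_conj hs hq) hsup hinf
  obtain ⟨c1, c2⟩ := F.strongly_closed hx₁ hxx₁ (x₂ := x₂) (fun _ => ⟨hx₂, hxx₂⟩) F'.fac_le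
    (fun s hs q hq => F'.fac_conj hs hq) (fun _ => le_rfl)
    (fun g hg hm => ⟨fun a ha => (htriv g hg hm a (F.fac_le ha)).symm ▸ ha,
      fun a ha => (htriv g hg hm a (F'.fac_le ha)).symm ▸ ha⟩)
    (fun y hy hyc g hg a ha _ => F.fac₂_fixed_QL hx₁ hxx₁ hx₂ hxx₂ h4 hy hyc hg ha)
    (fun y hy hyc w hw hwc g hg a ha hE => F.fac₂_fixed_EL hx₁ hxx₁ hx₂ hxx₂ h4 hinf hex₂ hy hyc hw hwc
      hg ha hE)
    (fun _ => ⟨fun w hw hwc g hg a ha _ => F'.fac₂_fixed_QL hx₂ hxx₂ hx₁ hxx₁ F.big hw hwc hg ha,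
      fun w hw hwc y hy hyc g hg a ha hE => F'.fac₂_fixed_EL hx₂ hxx₂ hx₁ hxx₁ F.big
        (F.fac_inf hx₁ hxx₁) hex₁ hw hwc hy hyc hg ha hE⟩)
  exact ⟨_, _, hprod, i₁, i₂, c1, c2⟩

include F h2 hx₁ hxx₁ in
theorem exists_factors_small (hn : n₂ = 2) :
    ∃ S₁ S₂ : Subgroup G, Cfsg.IsInternalDirectProduct S₁ S₂ (S : Subgroup G) ∧
      Nonempty (S₁ ≃* D₁) ∧ Nonempty (S₂ ≃* D₂) ∧
      Cfsg.IsStronglyClosed S₁ (S : Subgroup G) ∧ Cfsg.IsStronglyClosed S₂ (S : Subgroup G) := by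
  have hfirst : closure (oddSet S) ≤ zpowers z₁ ⊔ D₂ := (closure_le _).2 fun x hx => by
    obtain ⟨d, e, hd, he, rfl⟩ := F.oddSet_form hn hx
    refine mul_mem_sup ?_ he
    rcases hd with rfl | rfl
    exacts [one_mem _, mem_zpowers _]
  have hcen : ∀ s ∈ (S : Subgroup G), ∀ q ∈ closure (oddSet S), Commute s q := by
    intro s hs q hq
    exact (mem_centralizer_singleton_iff.1 ((closure_le (centralizer ({s} : Set G))).2
      (fun x hx => mem_centralizer_singleton_iff.2 ((F.oddSet_central hn hx).2.2 s hs).eq) hq)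
      : q * s = s * q).symm
  have hconj : ∀ s ∈ (S : Subgroup G), ∀ q ∈ closure (oddSet S), s * q * s⁻¹ ∈ closure (oddSet S) :=
    fun s hs q hq => by rw [(hcen s hs q hq).eq, mul_inv_cancel_right]; exact hq
  have hno : ∀ {P : Prop}, 4 ≤ n₂ → P := fun h => absurd h (by omega)
  have hsup := F.sup_eq h2 hx₁ hxx₁ (x₂ := 1) hno F.oddSet_le hno le_rfl
  have hex := F.orb_exists_of_sup hx₁ hxx₁ hsup hfirst
  have hz := F.z₁_not_mem hn hx₁ hxx₁ ⟨a₁, F.d₁.mema, F.d₁.anot, hex a₁ F.d₁.mema F.d₁.anot⟩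
  have hinf : closure (oddSet S) ⊓ D₁ = ⊥ := by
    refine eq_bot_iff.2 fun q hq => ?_
    obtain ⟨hq, hqD⟩ := Subgroup.mem_inf.1 hq
    rcases F.d₁.center_eq F.big hqD (hcen _ (F.le₁ F.d₁.memc) q hq).symm
      (hcen _ (F.le₁ F.d₁.mema) q hq).symm with h | h
    · exact mem_bot.2 h
    · exact absurd (h ▸ hq) hz
  obtain ⟨hprod, i₁, i₂⟩ := F.product hx₁ hxx₁ F.oddSet_le hconj hsup hinf
  have hEQ : ∀ {y w}, y ∈ D₁ → w ∈ D₂ → EL S y w = QL S y := fun hy hw => F.EL_eq_of_two hn hw hy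
  obtain ⟨c1, c2⟩ := F.strongly_closed hx₁ hxx₁ (x₂ := 1) hno F.oddSet_le hconj hno
    (fun g hg hm => by
      constructor
      · intro a ha
        have hle : (fac S D₁ c₁ z₁).map (MulAut.conj g).toMonoidHom ≤ fac S D₁ c₁ z₁ := by
          rw [fac, MonoidHom.map_closure, closure_le]
          rintro _ ⟨x, ⟨y, hy, hyc, hx⟩, rfl⟩
          exact subset_closure ⟨y, hy, hyc, F.orb_conj hg (F.odd_fix_z₁ hn hx₁ hxx₁ hg hm)
            (fun q => mem_normalizer_iff.1 (F.odd_normalizes hn hg hm hy) q) hx⟩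
        exact hle ⟨a, ha, rfl⟩
      · intro a ha
        have hle : (closure (oddSet S)).map (MulAut.conj g).toMonoidHom ≤ closure (oddSet S) := by
          rw [MonoidHom.map_closure, closure_le]
          rintro _ ⟨_, ⟨q, hq, g', hg', hm', rfl⟩, rfl⟩
          refine subset_closure ⟨g * q * g⁻¹, conj_mem_of_mem_normalizer hg hq, g * g' * g⁻¹,
            mul_mem (mul_mem hg hg') (inv_mem hg), ?_, ?_⟩
          · rwa [show g * g' * g⁻¹ = MulAut.conj g g' from rfl, MulEquiv.orderOf_eq]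
          · simp only [MulEquiv.coe_toMonoidHom, MulAut.conj_apply]
            group
        exact hle ⟨a, ha, rfl⟩)
    (fun y hy hyc g hg a ha _ => F.oddSet_fixed hn hx₁ hxx₁ hy hyc hg ha)
    (fun y hy hyc w hw hwc g hg a ha _ => F.oddSet_fixed hn hx₁ hxx₁ hy hyc (hEQ hy hw ▸ hg) ha)
    hno
  exact ⟨_, _, hprod, i₁, i₂, c1, c2⟩

include F h2 in
/-- **Product fusion.** -/
theorem exists_factors :
    ∃ S₁ S₂ : Subgroup G, Cfsg.IsInternalDirectProduct S₁ S₂ (S : Subgroup G) ∧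
      Nonempty (S₁ ≃* D₁) ∧ Nonempty (S₂ ≃* D₂) ∧
      Cfsg.IsStronglyClosed S₁ (S : Subgroup G) ∧ Cfsg.IsStronglyClosed S₂ (S : Subgroup G) := by
  obtain ⟨x₁, hx₁, hxx₁⟩ := F.d₁.exists_quarter F.big
  rcases Nat.lt_or_ge n₂ 4 with h | h
  · refine F.exists_factors_small h2 hx₁ hxx₁ ?_
    obtain ⟨k, hk⟩ := F.d₂.pow
    have := F.d₂.two
    rcases k with _ | _ | k
    · simp at hk; omega
    · simpa using hk
    · rw [hk, pow_succ, pow_succ] at h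
      have := Nat.two_pow_pos k
      omega
  · obtain ⟨x₂, hx₂, hxx₂⟩ := F.d₂.exists_quarter h
    exact F.exists_factors_big h2 hx₁ hxx₁ hx₂ hxx₂ h

end Frame

end Cfsg.Lib.TwoFusion.DihProd
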