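import Cfsg.Agent.Lib.TwoFusion.DihedralProduct.Classes

/-!
# The centres over `V × D₂`

An element `g` normalizing `V × D₂` gives the centre `g z₁ g⁻¹`; restricted to any `V × W` it is one
of the at most three centres there, and conversely each of those lifts to `V × D₂`.
-/

set_option autoImplicit false
set_option linter.style.haveILetI false
set_option linter.unusedSectionVars false

open Subgroup

namespace Cfsg.Lib.TwoFusion.DihProd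

variable {G : Type*} [Group G] [Finite G] {S : Sylow 2 G} {D₁ D₂ : Subgroup G}
  {c₁ a₁ z₁ c₂ a₂ z₂ : G} {n₁ n₂ : ℕ} {y w : G}

/-- `x` is the centre of a conjugate of the quarter turn in the normalizer of `V × D₂`. -/
def Orb (S : Sylow 2 G) (z y x : G) : Prop :=
  ∃ g ∈ normalizer (QL S y : Set G), g * z * g⁻¹ = x

namespace Frame

variable (F : Frame S D₁ D₂ c₁ a₁ z₁ c₂ a₂ z₂ n₁ n₂)

include F

theorem conj_mem_QL {x : G} (hx : x ∈ zpowers c₁) (hxx : x * x = z₁) (hy : y ∈ D₁)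
    (hyc : y ∉ zpowers c₁) {q : G} (hq : q ∈ QL S y) : x * q * x⁻¹ ∈ QL S y := by
  obtain ⟨hqS, hqy⟩ := mem_QL.1 hq
  have hxS : x ∈ (S : Subgroup G) := F.le₁ (F.d₁.rot_mem hx)
  refine mem_QL.2 ⟨mul_mem (mul_mem hxS hqS) (inv_mem hxS), ?_⟩
  have h1 := hqy.map (MulAut.conj x).toMonoidHom
  simp only [MulEquiv.coe_toMonoidHom, MulAut.conj_apply] at h1
  rw [F.d₁.quarter_conj hx hxx hy hyc] at h1
  have h2 := ((F.z₁_central (mul_mem (mul_mem hxS hqS) (inv_mem hxS))).symm.inv_right).mul_right h1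
  rwa [inv_mul_cancel_left] at h2

theorem quarter_normalizer {x : G} (hx : x ∈ zpowers c₁) (hxx : x * x = z₁) (hy : y ∈ D₁)
    (hyc : y ∉ zpowers c₁) : x ∈ normalizer (QL S y : Set G) :=
  mem_normalizer_fintype fun _ hq => F.conj_mem_QL hx hxx hy hyc hq

theorem quarter_move {x : G} (hx : x ∈ zpowers c₁) (hxx : x * x = z₁) (hy : y ∈ D₁)
    (hyc : y ∉ zpowers c₁) {q : G} (hq : q ∈ QL S y) : x * q * x⁻¹ = q ∨ x * q * x⁻¹ = q * z₁ := by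
  obtain ⟨hqS, hqy⟩ := mem_QL.1 hq
  obtain ⟨d, hd, e, he, rfl⟩ := F.decomp hqS
  rw [← mul_one y, F.commute_iff hd he hy (one_mem _)] at hqy
  have hxD := F.d₁.rot_mem hx
  have e1 : x * (d * e) * x⁻¹ = x * d * x⁻¹ * e := by
    rw [← mul_one x, F.conj_mul hxD (one_mem _) hd he]
    group
  have hzy : ∀ v ∈ D₁, v ∉ zpowers c₁ → x * (v * e) * x⁻¹ = v * e * z₁ := fun v hv hvc => by
    rw [← mul_one x, F.conj_mul hxD (one_mem _) hv he]
    simp only [mul_one, one_mul, inv_one]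
    rw [F.d₁.quarter_conj hx hxx hv hvc, mul_assoc z₁ v e, (F.z₁_central (F.mem_mul hv he)).eq]
  rcases F.d₁.four hy hyc hd hqy.1 with h | h | h | h
  · exact Or.inl (by rw [e1, h]; group)
  · left
    rw [e1, h, Dih.rot_commute hx F.d₁.z_mem_rot |>.eq, mul_inv_cancel_right]
  · exact Or.inr (h ▸ hzy y hy hyc)
  · exact Or.inr (h ▸ hzy (z₁ * y) (mul_mem F.d₁.z_mem hy) (F.d₁.zy_not_rot hyc))

theorem tv_QL {x : G} (hx : x ∈ zpowers c₁) (hxx : x * x = z₁) (hy : y ∈ D₁)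
    (hyc : y ∉ zpowers c₁) {Q : Subgroup G} (hQ : Q ≤ QL S y) (hz : z₁ ∈ Q) (hyQ : y ∈ Q) :
    Tv Q x z₁ := by
  refine ⟨hz, F.d₁.z_sq, fun q hq => F.z₁_central (mem_QL.1 (hQ hq)).1, ?_,
    fun q hq => F.quarter_move hx hxx hy hyc (hQ hq), y, hyQ, fun e => F.d₁.z_ne_one ?_⟩
  · rw [(F.z₁_central (F.le₁ (F.d₁.rot_mem hx))).symm.eq, mul_inv_cancel_right]
  · rw [F.d₁.quarter_conj hx hxx hy hyc, mul_eq_right] at e
    exact e

theorem QL_form (hy : y ∈ D₁) : QL S y = (D₁ ⊓ centralizer ({y} : Set G)) ⊔ D₂ := by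
  refine le_antisymm (fun q hq => ?_) (sup_le ?_ ?_)
  · obtain ⟨hqS, hqy⟩ := mem_QL.1 hq
    obtain ⟨d, hd, e, he, rfl⟩ := F.decomp hqS
    rw [← mul_one y, F.commute_iff hd he hy (one_mem _)] at hqy
    exact mul_mem_sup (F.d₁.mem_four.2 ⟨hd, hqy.1⟩) he
  · intro d hd
    exact mem_QL.2 ⟨F.le₁ (F.d₁.mem_four.1 hd).1, (F.d₁.mem_four.1 hd).2⟩
  · exact fun e he => mem_QL.2 ⟨F.le₂ he, (F.comm hy he).symm⟩

theorem QL_gen (hy : y ∈ D₁) {K : Subgroup G}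
    (hK : ∀ w ∈ D₂, w ∉ zpowers c₂ → EL S y w ≤ K) : QL S y ≤ K := by
  rw [F.QL_form hy]
  have hr : ∀ w ∈ D₂, w ∉ zpowers c₂ → w ∈ K := fun w hw hwc => hK w hw hwc
    (mem_EL.2 ⟨F.le₂ hw, (F.comm hy hw).symm, Commute.refl w⟩)
  refine sup_le (fun d hd => ?_) fun e he => ?_
  · obtain ⟨hd, hdy⟩ := F.d₁.mem_four.1 hd
    exact hK a₂ F.d₂.mema F.d₂.anot (mem_EL.2 ⟨F.le₁ hd, hdy, F.comm hd F.d₂.mema⟩)
  · by_cases hec : e ∈ zpowers c₂
    · have := mul_mem (hr (e * a₂) (mul_mem he F.d₂.mema)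
        (fun h => F.d₂.anot ((mul_mem_cancel_left hec).1 h))) (hr a₂ F.d₂.mema F.d₂.anot)
      rwa [mul_assoc, F.d₂.sq a₂ F.d₂.mema F.d₂.anot, mul_one] at this
    · exact hr e he hec

theorem EL_eq_of_two (h2 : n₂ = 2) (hw : w ∈ D₂) (hy : y ∈ D₁) : EL S y w = QL S y := by
  refine le_antisymm EL_le_QL fun q hq => ?_
  obtain ⟨hqS, hqy⟩ := mem_QL.1 hq
  obtain ⟨d, hd, e, he, rfl⟩ := F.decomp hqS
  refine mem_EL.2 ⟨hqS, hqy, ?_⟩
  exact (F.comm hd hw).mul_left (F.d₂.commute_of_two h2 he hw)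

/-- An element of `N(V × D₂)` fixes `z₂`. -/
theorem normalizer_fix_z₂ (h4 : 4 ≤ n₂) (hy : y ∈ D₁) (hyc : y ∉ zpowers c₁) {g : G}
    (hg : g ∈ normalizer (QL S y : Set G)) : g * z₂ * g⁻¹ = z₂ := by
  obtain ⟨x, hx, hxx⟩ := F.d₂.exists_quarter h4
  have hxQ : x ∈ QL S y := mem_QL.2 ⟨F.le₂ (F.d₂.rot_mem hx), (F.comm hy (F.d₂.rot_mem hx)).symm⟩
  have hq := conj_mem_of_mem_normalizer hg hxQ
  obtain ⟨hqS, hqy⟩ := mem_QL.1 hq
  obtain ⟨d, hd, e, he, hde⟩ := F.decomp hqS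
  rw [hde, ← mul_one y, F.commute_iff hd he hy (one_mem _)] at hqy
  have hdd : d * d = 1 := by
    rcases F.d₁.four hy hyc hd hqy.1 with h | h | h | h <;> rw [h]
    · exact mul_one 1
    · exact F.d₁.z_sq
    · exact F.d₁.sq y hy hyc
    · exact F.d₁.sq _ (mul_mem F.d₁.z_mem hy) (F.d₁.zy_not_rot hyc)
  have hsq : g * z₂ * g⁻¹ = e * e := by
    rw [← hxx, show g * (x * x) * g⁻¹ = g * x * g⁻¹ * (g * x * g⁻¹) by group, hde,
      (F.comm hd he).symm.mul_mul_mul_comm, hdd, one_mul]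
  rw [hsq]
  refine (F.d₂.sq_one_rot (F.d₂.sq_rot he) ?_).resolve_left fun h => F.d₂.z_ne_one ?_
  · rw [← hsq, show g * z₂ * g⁻¹ * (g * z₂ * g⁻¹) = g * (z₂ * z₂) * g⁻¹ by group, F.d₂.z_sq]
    group
  · exact conj_eq_one_iff.1 (hsq.trans h)

end Frame

namespace Rect

variable (r : Rect S D₁ D₂ c₁ a₁ z₁ c₂ a₂ z₂ n₁ n₂ y w)

include r

/-- A transvection of `V × W` is conjugate to a quarter turn. -/
theorem tv_class {x₁ : G} (hx₁ : x₁ ∈ zpowers c₁) (hxx₁ : x₁ * x₁ = z₁) {u x : G} {k : ℕ}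
    (hu : u ∈ normalizer (EL S y w : Set G)) (hk : orderOf u = 2 ^ k) (h : Tv (EL S y w) u x) :
    (∃ g ∈ normalizer (EL S y w : Set G),
        g * z₁ * g⁻¹ = x ∧ Same (EL S y w) u (g * x₁ * g⁻¹)) ∨
      (4 ≤ n₂ ∧ ∃ g ∈ normalizer (EL S y w : Set G), g * z₂ * g⁻¹ = x) := by
  obtain ⟨t₁, hy₁, hw₁⟩ := r.quarter₁ hx₁ hxx₁
  obtain ⟨g, hg, hgu⟩ := r.conj_into inf_le_right le_rfl hu hk
  rcases r.tv_act hgu (h.conj hg) with ⟨e, ey, ew⟩ | ⟨e, hn, -, -⟩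
  · refine Or.inl ⟨g⁻¹, inv_mem hg, by rw [← e]; group, ?_⟩
    have := (r.same_act hgu.1 t₁.1 (ey.trans hy₁.symm) (ew.trans hw₁.symm)).conj (inv_mem hg)
    rwa [show g⁻¹ * (g * u * g⁻¹) * g⁻¹⁻¹ = u by group] at this
  · exact Or.inr ⟨hn, g⁻¹, inv_mem hg, by rw [← e]; group⟩

/-- A two-element centralizing `V × W` lies in it. -/
theorem mem_of_centralize {u : G} {k : ℕ} (hk : orderOf u = 2 ^ k)
    (hc : u ∈ centralizer (EL S y w : Set G)) : u ∈ EL S y w := by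
  have hcN : u ∈ normalizer (EL S y w : Set G) := mem_normalizer_fintype fun q hq => by
    rw [← mem_centralizer_iff.1 hc q hq, mul_inv_cancel_right]
    exact hq
  obtain ⟨g, hg, hgu⟩ := r.conj_into inf_le_right le_rfl hcN hk
  have hq : ∀ q ∈ EL S y w, Commute (g * u * g⁻¹) q := fun q hq => by
    have := (show Commute u (g⁻¹ * q * g) from (mem_centralizer_iff.1 hc _ (by
      simpa using conj_mem_of_mem_normalizer (inv_mem hg) hq)).symm).map (MulAut.conj g).toMonoidHom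
    simpa [mul_assoc] using this
  have hm : g * u * g⁻¹ ∈ EL S y w := mem_EL.2 ⟨hgu.1, hq y r.mem_y, hq w r.mem_w⟩
  have := conj_mem_of_mem_normalizer (inv_mem hg) hm
  rwa [show g⁻¹ * (g * u * g⁻¹) * g⁻¹⁻¹ = u by group] at this

/-- A conjugate of the quarter turn moving a subgroup between `V × W` and `V × D₂`. -/
theorem local_of_tv {x₁ : G} (hx₁ : x₁ ∈ zpowers c₁) (hxx₁ : x₁ * x₁ = z₁) {Q : Subgroup G}
    (hQ : Q ≤ QL S y) (hEQ : EL S y w ≤ Q) {g : G} (hg : g ∈ normalizer (Q : Set G))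
    (hmove : x₁ * (g * z₁ * g⁻¹) * x₁⁻¹ ≠ g * z₁ * g⁻¹) :
    ∃ h ∈ normalizer (EL S y w : Set G), h * z₁ * h⁻¹ = g * z₁ * g⁻¹ ∧
      Same (EL S y w) (g * x₁ * g⁻¹) (h * x₁ * h⁻¹) := by
  have F := r.frame
  have hu : Tv Q (g * x₁ * g⁻¹) (g * z₁ * g⁻¹) :=
    (F.tv_QL hx₁ hxx₁ r.ymem r.ynot hQ (hEQ r.mem_z₁) (hEQ r.mem_y)).conj hg
  obtain ⟨hxS, hxy⟩ := mem_QL.1 (hQ hu.mem)
  have hxE : g * z₁ * g⁻¹ ∈ EL S y w := mem_EL.2 ⟨hxS, hxy, hu.cen w (hEQ r.mem_w)⟩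
  have huN : g * x₁ * g⁻¹ ∈ normalizer (EL S y w : Set G) := mem_normalizer_fintype fun q hq => by
    rcases hu.move q (hEQ hq) with e | e <;> rw [e]
    exacts [hq, mul_mem hq hxE]
  obtain ⟨k, hk⟩ := r.quarter_order hx₁ hxx₁ (h := g)
  by_cases hne : ∃ q ∈ EL S y w, g * x₁ * g⁻¹ * q * (g * x₁ * g⁻¹)⁻¹ ≠ q
  · rcases r.tv_class hx₁ hxx₁ huN hk
      ⟨hxE, hu.sq, fun q hq => hu.cen q (hEQ hq), hu.fix, fun q hq => hu.move q (hEQ hq), hne⟩ with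
      ⟨h, hh, e, hs⟩ | ⟨hn, h, hh, e⟩
    · exact ⟨h, hh, e, hs⟩
    · obtain ⟨x₂, hx₂, hxx₂⟩ := F.d₂.exists_quarter hn
      refine absurd ?_ hmove
      have := r.fix₂ hx₁ hxx₁ hx₂ hxx₂ (one_mem _) hh
      rwa [one_mul, inv_one, mul_one, e] at this
  · exfalso
    push Not at hne
    have hmem := r.mem_of_centralize hk (mem_centralizer_iff.2 fun q hq => by
      have h2 := hne q hq
      rw [mul_inv_eq_iff_eq_mul] at h2
      exact h2.symm)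
    obtain ⟨q, hq, hmv⟩ := hu.ne
    have hm := (hu.move q hq).resolve_left hmv
    obtain ⟨hqS, hqy⟩ := mem_QL.1 (hQ hq)
    obtain ⟨hmS, hmy⟩ := mem_QL.1 (EL_le_QL hmem)
    obtain ⟨d, hd, e, he, rfl⟩ := F.decomp hqS
    obtain ⟨d', hd', e', he', hde⟩ := F.decomp hmS
    rw [hde] at hm
    rw [← mul_one y, F.commute_iff hd he r.ymem (one_mem _)] at hqy
    rw [hde, ← mul_one y, F.commute_iff hd' he' r.ymem (one_mem _)] at hmy
    obtain ⟨xd, hxd, xe, hxe, hxde⟩ := F.decomp hxS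
    rw [hxde, F.conj_mul hd' he' hd he, (F.comm hxd he).symm.mul_mul_mul_comm] at hm
    obtain ⟨h1, -⟩ := F.unique (mul_mem (mul_mem hd' hd) (inv_mem hd'))
      (mul_mem (mul_mem he' he) (inv_mem he')) (mul_mem hd hxd) (mul_mem he hxe) hm
    have hcomm : Commute d' d := by
      rcases F.d₁.four r.ymem r.ynot hd' hmy.1 with a | a | a | a <;> rw [a]
      exacts [Commute.one_left d, F.d₁.z_comm hd, hqy.1.symm,
        (F.d₁.z_comm hd).mul_left hqy.1.symm]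
    rw [hcomm.eq, mul_inv_cancel_right, left_eq_mul] at h1
    apply hmove
    rw [hxde, h1, one_mul, (F.comm (F.d₁.rot_mem hx₁) hxe).eq, mul_inv_cancel_right]

end Rect

namespace Frame

variable (F : Frame S D₁ D₂ c₁ a₁ z₁ c₂ a₂ z₂ n₁ n₂)

include F

theorem orb_cases {x₁ : G} (hx₁ : x₁ ∈ zpowers c₁) (hxx₁ : x₁ * x₁ = z₁) (hy : y ∈ D₁)
    (hyc : y ∉ zpowers c₁) {x : G} (hx : Orb S z₁ y x) :
    x = z₁ ∨ x₁ * x * x₁⁻¹ ≠ x := by
  obtain ⟨g, hg, rfl⟩ := hx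
  by_contra hc
  push Not at hc
  obtain ⟨hz, hf⟩ := hc
  have hzQ : z₁ ∈ QL S y := mem_QL.2 ⟨F.le₁ F.d₁.z_mem, F.z₁_central (F.le₁ hy)⟩
  have hu := (F.tv_QL hx₁ hxx₁ hy hyc le_rfl hzQ
    (mem_QL.2 ⟨F.le₁ hy, Commute.refl y⟩)).conj hg
  obtain ⟨hxS, hxy⟩ := mem_QL.1 hu.mem
  -- a rectangle where it acts
  obtain ⟨w, hw, hwc, q, hq, hne⟩ : ∃ w ∈ D₂, w ∉ zpowers c₂ ∧ ∃ q ∈ EL S y w,
      g * x₁ * g⁻¹ * q * (g * x₁ * g⁻¹)⁻¹ ≠ q := by
    by_contra hall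
    push Not at hall
    obtain ⟨q, hq, hne⟩ := hu.ne
    refine hne (F.QL_gen hy (K := (MulAut.conj (g * x₁ * g⁻¹)).toMonoidHom.eqLocus (MonoidHom.id G))
      (fun w hw hwc q hq => hall w hw hwc q hq) hq)
  have r : Rect S D₁ D₂ c₁ a₁ z₁ c₂ a₂ z₂ n₁ n₂ y w := ⟨F, hy, hyc, hw, hwc⟩
  have hxE : g * z₁ * g⁻¹ ∈ EL S y w := mem_EL.2 ⟨hxS, hxy, hu.cen w (EL_le_QL r.mem_w)⟩
  have huN : g * x₁ * g⁻¹ ∈ normalizer (EL S y w : Set G) := mem_normalizer_fintype fun q hq => by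
    rcases hu.move q (EL_le_QL hq) with e | e <;> rw [e]
    exacts [hq, mul_mem hq hxE]
  obtain ⟨j, hj⟩ := r.quarter_order hx₁ hxx₁ (h := g)
  rcases r.tv_class hx₁ hxx₁ huN hj ⟨hxE, hu.sq, fun q hq => hu.cen q (EL_le_QL hq), hu.fix,
      fun q hq => hu.move q (EL_le_QL hq), q, hq, hne⟩ with ⟨h, hh, e, -⟩ | ⟨hn, h, hh, e⟩
  · exact hz (e ▸ (r.centre_fixed hx₁ hxx₁ hh (by rw [e]; exact hf)).1)
  · obtain ⟨x₂, hx₂, hxx₂⟩ := F.d₂.exists_quarter hn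
    have r' : Rect S D₂ D₁ c₂ a₂ z₂ c₁ a₁ z₁ n₂ n₁ w y := ⟨F.swap hn, hw, hwc, hy, hyc⟩
    have hx₂Q : x₂ ∈ QL S y := mem_QL.2
      ⟨F.le₂ (F.d₂.rot_mem hx₂), (F.comm hy (F.d₂.rot_mem hx₂)).symm⟩
    have hfix : x₂ * (h * z₂ * h⁻¹) * x₂⁻¹ = h * z₂ * h⁻¹ := by
      rw [e, (hu.cen x₂ hx₂Q).symm.eq, mul_inv_cancel_right]
    have e2 := (r'.centre_fixed hx₂ hxx₂ (EL_comm (S := S) ▸ hh) hfix).1
    rw [e] at e2
    have e3 := F.normalizer_fix_z₂ hn hy hyc hg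
    exact r.z_ne (mul_left_cancel (mul_right_cancel (e2.trans e3.symm)))

/-- At most two centres differ from `z₁`. -/
theorem orb_unique {x₁ : G} (hx₁ : x₁ ∈ zpowers c₁) (hxx₁ : x₁ * x₁ = z₁) (hy : y ∈ D₁)
    (hyc : y ∉ zpowers c₁) {x x' : G} (hx : Orb S z₁ y x) (hx' : Orb S z₁ y x') (hn : x ≠ z₁)
    (hn' : x' ≠ z₁) : x' = x ∨ x' = x * z₁ := by
  have r : Rect S D₁ D₂ c₁ a₁ z₁ c₂ a₂ z₂ n₁ n₂ y a₂ := ⟨F, hy, hyc, F.d₂.mema, F.d₂.anot⟩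
  have hm := (F.orb_cases hx₁ hxx₁ hy hyc hx).resolve_left hn
  have hm' := (F.orb_cases hx₁ hxx₁ hy hyc hx').resolve_left hn'
  obtain ⟨g, hg, rfl⟩ := hx
  obtain ⟨g', hg', rfl⟩ := hx'
  obtain ⟨h, hh, e, -⟩ := r.local_of_tv hx₁ hxx₁ le_rfl EL_le_QL hg hm
  obtain ⟨h', hh', e', -⟩ := r.local_of_tv hx₁ hxx₁ le_rfl EL_le_QL hg' hm'
  rw [← e, ← e']
  exact r.centre_unique hx₁ hxx₁ hh hh' (e ▸ hn) (e' ▸ hn')

end Frame

namespace Rect

variable (r : Rect S D₁ D₂ c₁ a₁ z₁ c₂ a₂ z₂ n₁ n₂ y w)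

include r

/-- The centres over `V × W` lift to `V × D₂`. -/
theorem orb_of_centre {x₁ : G} (hx₁ : x₁ ∈ zpowers c₁) (hxx₁ : x₁ * x₁ = z₁) {h : G}
    (hh : h ∈ normalizer (EL S y w : Set G)) : Orb S z₁ y (h * z₁ * h⁻¹) := by
  classical
  have F := r.frame
  haveI : Fact (Nat.Prime 2) := ⟨Nat.prime_two⟩
  obtain ⟨t₁, -, -⟩ := r.quarter₁ hx₁ hxx₁
  rcases r.centre_cases hx₁ hxx₁ hh with ⟨e, -⟩ | ⟨hmv, hmz⟩
  · exact ⟨1, one_mem _, by rw [e]; group⟩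
  obtain ⟨x, hx⟩ : ∃ x, x = h * z₁ * h⁻¹ := ⟨_, rfl⟩
  rw [← hx] at hmv hmz ⊢
  have hm : x₁ * x * x₁⁻¹ ≠ x := fun e => F.d₁.z_ne_one (mul_eq_left.1 (hmv.symm.trans e))
  have hxE : x ∈ EL S y w := hx ▸ conj_mem_of_mem_normalizer hh r.mem_z₁
  obtain ⟨hxS, hxy, hxw⟩ := mem_EL.1 hxE
  rcases Nat.lt_or_ge n₂ 4 with hn | hn
  · have h2 : n₂ = 2 := by
      obtain ⟨k, hk⟩ := F.d₂.pow
      have := F.d₂.two
      rcases k with _ | _ | k
      · simp at hk; omega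
      · simpa using hk
      · rw [hk, pow_succ, pow_succ] at hn
        have := Nat.two_pow_pos k
        omega
    exact ⟨h, F.EL_eq_of_two h2 r.wmem r.ymem ▸ hh, hx.symm⟩
  -- climbing
  obtain ⟨x₂, hx₂, hxx₂⟩ := F.d₂.exists_quarter hn
  have hxc : ∀ s ∈ D₂, Commute s x := by
    intro s hs
    obtain ⟨d, hd, e, he, hde⟩ := F.decomp hxS
    have h2 := r.centre_fix₂ hx₁ hxx₁ hx₂ hxx₂ hh
    rw [← hx, hde, mul_inv_eq_iff_eq_mul] at h2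
    have h3 : Commute e x₂ := by
      have h4 : Commute (d * e) (1 * x₂) := by rw [one_mul]; exact h2.symm
      exact ((F.commute_iff hd he (one_mem _) (F.d₂.rot_mem hx₂)).1 h4).2
    rw [hde] at hxw
    rw [← one_mul w, F.commute_iff hd he (one_mem _) r.wmem] at hxw
    rw [hde]
    refine (F.comm hd hs).symm.mul_right ?_
    have he2 : e = 1 ∨ e = z₂ := by
      rcases F.d₂.four r.wmem r.wnot he hxw.2 with a | a | a | a
      · exact Or.inl a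
      · exact Or.inr a
      all_goals
        exfalso
        have hec : e ∉ zpowers c₂ := by
          rw [a]
          first | exact r.wnot | exact F.d₂.zy_not_rot r.wnot
        have h5 := F.d₂.quarter_conj hx₂ hxx₂ he hec
        rw [h3.symm.eq, mul_inv_cancel_right, right_eq_mul] at h5
        exact F.d₂.z_ne_one h5
    rcases he2 with a | a <;> rw [a]
    exacts [Commute.one_right s, (F.d₂.z_comm hs).symm]
  suffices H : ∀ (m : ℕ) (K : Subgroup G), Nat.card D₂ - Nat.card K = m → K ≤ D₂ →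
      D₂ ⊓ centralizer ({w} : Set G) ≤ K →
      (∃ g ∈ normalizer (((D₁ ⊓ centralizer ({y} : Set G)) ⊔ K : Subgroup G) : Set G),
        g * z₁ * g⁻¹ = x) → Orb S z₁ y x from
    H _ _ rfl inf_le_left le_rfl ⟨h, F.EL_form r.ymem r.wmem ▸ hh, hx.symm⟩
  intro m
  induction m using Nat.strong_induction_on with
  | _ m ih =>
  intro K hm' hK hWK hg
  obtain ⟨g, hg, hgx⟩ := hg
  rcases eq_or_lt_of_le hK with rfl | hlt
  · exact ⟨g, F.QL_form r.ymem ▸ hg, hgx⟩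
  obtain ⟨Q, hQdef⟩ : ∃ Q, Q = (D₁ ⊓ centralizer ({y} : Set G)) ⊔ K := ⟨_, rfl⟩
  rw [← hQdef] at hg
  have hQ : Q ≤ QL S y := by rw [hQdef, F.QL_form r.ymem]; exact sup_le_sup_left hK _
  have hEQ : EL S y w ≤ Q := by rw [hQdef, F.EL_form r.ymem r.wmem]; exact sup_le_sup_left hWK _
  have hQS : Q ≤ (S : Subgroup G) := fun q hq => (mem_QL.1 (hQ hq)).1
  obtain ⟨L, hL⟩ : ∃ L, L = D₂ ⊓ normalizer (K : Set G) := ⟨_, rfl⟩
  have hKL : K < L := hL ▸ Cfsg.Lib.Fusion.lt_inf_normalizer (S.2.to_le F.le₂) hlt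
  have hLD : L ≤ D₂ := hL ▸ inf_le_left
  -- the quarter turn and the elements of `L` normalize `Q`
  have hx₁Q : x₁ ∈ normalizer (Q : Set G) := by
    refine mem_normalizer_fintype fun q hq => ?_
    rcases F.quarter_move hx₁ hxx₁ r.ymem r.ynot (hQ hq) with e | e <;> rw [e]
    exacts [hq, mul_mem hq (hEQ r.mem_z₁)]
  have hLQ : ∀ s ∈ L, s ∈ normalizer (Q : Set G) := by
    intro s hs
    rw [hL] at hs
    refine mem_normalizer_fintype fun q hq => ?_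
    rw [hQdef] at hq ⊢
    have hle : ((D₁ ⊓ centralizer ({y} : Set G)) ⊔ K).map (MulAut.conj s).toMonoidHom ≤
        (D₁ ⊓ centralizer ({y} : Set G)) ⊔ K := by
      rw [Subgroup.map_sup]
      refine sup_le_sup ?_ ?_
      · rintro _ ⟨d, hd, rfl⟩
        show s * d * s⁻¹ ∈ _
        rwa [(F.comm hd.1 hs.1).symm.eq, mul_inv_cancel_right]
      · rintro _ ⟨e, he, rfl⟩
        exact conj_mem_of_mem_normalizer hs.2 he
    exact hle ⟨q, hq, rfl⟩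
  obtain ⟨u, hudef⟩ : ∃ u, u = g * x₁ * g⁻¹ := ⟨_, rfl⟩
  have huQ : u ∈ normalizer (Q : Set G) := hudef ▸ mul_mem (mul_mem hg hx₁Q) (inv_mem hg)
  -- `u` commutes with `L` on `Q`
  have hus : ∀ s ∈ L, Same Q (s * u * s⁻¹) u := by
    intro s hs
    have hsD := hLD hs
    have hsg : s * g ∈ normalizer (Q : Set G) := mul_mem (hLQ s hs) hg
    have hxsg : s * g * z₁ * (s * g)⁻¹ = x := by
      rw [show s * g * z₁ * (s * g)⁻¹ = s * (g * z₁ * g⁻¹) * s⁻¹ by group, hgx, (hxc s hsD).eq,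
        mul_inv_cancel_right]
    have hesu : s * u * s⁻¹ = s * g * x₁ * (s * g)⁻¹ := by rw [hudef]; group
    intro q hq
    have key : ∀ w' ∈ D₂, w' ∉ zpowers c₂ → EL S y w' ≤ Q →
        Same (EL S y w') (s * u * s⁻¹) u := by
      intro w' hw' hwc' hE'
      have r' : Rect S D₁ D₂ c₁ a₁ z₁ c₂ a₂ z₂ n₁ n₂ y w' := ⟨F, r.ymem, r.ynot, hw', hwc'⟩
      obtain ⟨h₁, hh₁, e₁, s₁⟩ := r'.local_of_tv hx₁ hxx₁ hQ hE' hg (by rw [hgx]; exact hm)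
      obtain ⟨h₂, hh₂, e₂, s₂⟩ := r'.local_of_tv hx₁ hxx₁ hQ hE' hsg (by rw [hxsg]; exact hm)
      rw [hesu, hudef]
      exact (s₂.trans (r'.same_of_centre hx₁ hxx₁ hh₂ hh₁
        (by rw [e₂, e₁, hxsg, hgx]))).trans s₁.symm
    let J : Subgroup G :=
      (MulAut.conj (s * u * s⁻¹)).toMonoidHom.eqLocus (MulAut.conj u).toMonoidHom
    have hVJ : EL S y w ≤ J := fun v hv => key w r.wmem r.wnot hEQ v hv
    have hwK : w ∈ K := hWK ⟨r.wmem, mem_centralizer_singleton_iff.2 rfl⟩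
    have hrefl : ∀ w' ∈ K, w' ∉ zpowers c₂ → w' ∈ J := by
      intro w' hw' hwc'
      have hwQ : w' ∈ Q := hQdef ▸ mem_sup_right hw'
      have r' : Rect S D₁ D₂ c₁ a₁ z₁ c₂ a₂ z₂ n₁ n₂ y w' := ⟨F, r.ymem, r.ynot, hK hw', hwc'⟩
      exact key w' (hK hw') hwc'
        (r'.gen (hEQ r.mem_z₁) (hEQ r.mem_z₂) (hEQ r.mem_y) hwQ) w' r'.mem_w
    have hQJ : Q ≤ J := by
      rw [hQdef]
      refine sup_le (fun d hd => hVJ ?_) fun e he => ?_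
      · rw [F.EL_form r.ymem r.wmem]
        exact mem_sup_left hd
      · by_cases hec : e ∈ zpowers c₂
        · have := mul_mem (hrefl (e * w) (mul_mem he hwK)
            (fun h => r.wnot ((mul_mem_cancel_left hec).1 h))) (hrefl w hwK r.wnot)
          rwa [mul_assoc, F.d₂.sq w r.wmem r.wnot, mul_one] at this
        · exact hrefl e he hec
    exact hQJ hq
  obtain ⟨k, hkdef⟩ : ∃ k, k = x₁ * u := ⟨_, rfl⟩
  have hkQ : k ∈ normalizer (Q : Set G) := hkdef ▸ mul_mem hx₁Q huQ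
  have hkx : k * z₁ * k⁻¹ = x := by
    obtain ⟨h₁, hh₁, e₁, s₁⟩ := r.local_of_tv hx₁ hxx₁ hQ hEQ hg (by rw [hgx]; exact hm)
    have hs := r.same_of_centre hx₁ hxx₁ hh₁ hh (by rw [e₁, hgx, hx])
    have hz := (s₁.trans hs) z₁ r.mem_z₁
    rw [← hudef, hmz] at hz
    rw [hkdef, show x₁ * u * z₁ * (x₁ * u)⁻¹ = x₁ * (u * z₁ * u⁻¹) * x₁⁻¹ by group, hz,
      show x₁ * (z₁ * x) * x₁⁻¹ = x₁ * z₁ * x₁⁻¹ * (x₁ * x * x₁⁻¹) by group, r.conj_z₁ t₁.1, hmv,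
      ← mul_assoc, (F.z₁_central hxS).eq, mul_assoc, F.d₁.z_sq, mul_one]
  obtain ⟨M, hMdef⟩ : ∃ M, M = (D₁ ⊓ centralizer ({y} : Set G)) ⊔ L := ⟨_, rfl⟩
  have hQM : Q ≤ M := by rw [hQdef, hMdef]; exact sup_le_sup_left hKL.le _
  have hMQ : M ≤ normalizer (Q : Set G) := by
    rw [hMdef]
    exact sup_le ((le_sup_left.trans hQdef.ge).trans le_normalizer) hLQ
  have hMS : M ≤ (S : Subgroup G) := by
    rw [hMdef]
    exact sup_le (inf_le_left.trans F.le₁) (hLD.trans F.le₂)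
  have hQc : ∀ {a}, a ∈ normalizer (Q : Set G) → ∀ q ∈ Q, a * q * a⁻¹ ∈ Q :=
    fun ha q hq => conj_mem_of_mem_normalizer ha hq
  let H : Subgroup G :=
    { carrier := {a | a ∈ normalizer (Q : Set G) ∧ ∃ m ∈ M, Same Q a m}
      one_mem' := ⟨one_mem _, 1, one_mem _, Same.refl _ _⟩
      mul_mem' := by
        rintro a b ⟨ha, m, hm, e⟩ ⟨hb, m', hm', e'⟩
        exact ⟨mul_mem ha hb, m * m', mul_mem hm hm', e.mul (hQc hb) e'⟩
      inv_mem' := by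
        rintro a ⟨ha, m, hm, e⟩
        exact ⟨inv_mem ha, m⁻¹, inv_mem hm, e.inv fun q hq => by
          simpa using hQc (inv_mem (hMQ hm)) q hq⟩ }
  have hMH : M ≤ H := fun m hm => ⟨hMQ hm, m, hm, Same.refl _ _⟩
  have hkH : ∀ m ∈ M, k * m * k⁻¹ ∈ H := by
    intro m hm
    have hle : M.map (MulAut.conj k).toMonoidHom ≤ H := by
      rw [hMdef, Subgroup.map_sup]
      refine sup_le ?_ ?_
      · rintro _ ⟨d, hd, rfl⟩
        exact hMH (hQM (hQc hkQ d (hQdef ▸ mem_sup_left hd)))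
      · rintro _ ⟨s, hs, rfl⟩
        have hsQ := hLQ s hs
        refine ⟨mul_mem (mul_mem hkQ hsQ) (inv_mem hkQ), s, hMdef ▸ mem_sup_right hs, ?_⟩
        have e1 : Same Q (s * k * s⁻¹) k := by
          rw [hkdef]
          have := (hus s hs).mul_left x₁
          rwa [show x₁ * (s * u * s⁻¹) = s * (x₁ * u) * s⁻¹ by
            rw [show x₁ * (s * u * s⁻¹) = x₁ * s * (u * s⁻¹) by group,
              (F.comm (F.d₁.rot_mem hx₁) (hLD hs)).eq]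
            group] at this
        have e2 := (e1.mul_right (hQc hsQ)).mul_right (hQc (inv_mem hkQ))
        show Same Q (k * s * k⁻¹) s
        rw [show s * k * s⁻¹ * s * k⁻¹ = s by group] at e2
        exact e2.symm
    exact hle ⟨m, hm, rfl⟩
  -- `M` is a Sylow subgroup of `H`
  obtain ⟨R, hR⟩ := ((S.2.to_le hMS : IsPGroup 2 M).of_equiv
    (subgroupOfEquivOfLe hMH).symm).exists_le_sylow
  have hRM : ∀ a : H, a ∈ (R : Subgroup H) → (a : G) ∈ M := by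
    intro a ha
    obtain ⟨haQ, m, hm, e⟩ := a.2
    have hma : (⟨m, hMH hm⟩⁻¹ * a : H) ∈ (R : Subgroup H) :=
      mul_mem (inv_mem (hR (mem_subgroupOf.2 hm))) ha
    obtain ⟨j, hj⟩ := IsPGroup.iff_orderOf.1 R.2 ⟨_, hma⟩
    rw [Subgroup.orderOf_mk, ← Subgroup.orderOf_coe] at hj
    have hc : ((⟨m, hMH hm⟩⁻¹ * a : H) : G) ∈ centralizer (EL S y w : Set G) := by
      rw [← same_one_iff]
      refine Same.mono ?_ hEQ
      have := e.mul_left m⁻¹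
      rwa [inv_mul_cancel] at this
    have := mul_mem hm (hQM (hEQ (r.mem_of_centralize hj hc)))
    rwa [Subgroup.coe_mul, Subgroup.coe_inv, mul_inv_cancel_left] at this
  obtain ⟨R', hR'⟩ := (((S.2.to_le hMS : IsPGroup 2 M).map (MulAut.conj k).toMonoidHom).of_equiv
    (subgroupOfEquivOfLe (show M.map (MulAut.conj k).toMonoidHom ≤ H by
      rintro _ ⟨m, hm, rfl⟩; exact hkH m hm)).symm).exists_le_sylow
  obtain ⟨h₀, hh₀⟩ := MulAction.exists_smul_eq H R' R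
  obtain ⟨g', hg'⟩ : ∃ g', g' = (h₀ : G) * k := ⟨_, rfl⟩
  have hg'M : g' ∈ normalizer (M : Set G) := mem_normalizer_fintype fun m (hm : m ∈ M) => by
    show g' * m * g'⁻¹ ∈ M
    have h1 : h₀ * ⟨k * m * k⁻¹, hkH m hm⟩ * h₀⁻¹ ∈ (R : Subgroup H) := by
      rw [← hh₀, Sylow.coe_subgroup_smul]
      exact ⟨_, hR' (mem_subgroupOf.2 ⟨m, hm, rfl⟩), rfl⟩
    have := hRM _ h1
    rw [hg', show (h₀ : G) * k * m * ((h₀ : G) * k)⁻¹ = h₀ * (k * m * k⁻¹) * (h₀ : G)⁻¹ by group]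
    exact this
  have hMx : ∀ m ∈ M, m * x * m⁻¹ = x := by
    intro m hm
    have hle : M ≤ centralizer ({x} : Set G) := by
      rw [hMdef]
      refine sup_le (fun d hd => ?_) fun s hs => mem_centralizer_singleton_iff.2 (hxc s (hLD hs)).eq
      refine mem_centralizer_singleton_iff.2 (r.comm_EL ?_ hxE).eq
      rw [F.EL_form r.ymem r.wmem]
      exact mem_sup_left hd
    rw [mem_centralizer_singleton_iff.1 (hle hm), mul_inv_cancel_right]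
  have hg'x : g' * z₁ * g'⁻¹ = x := by
    obtain ⟨hh₀Q, m, hm, e⟩ := h₀.2
    rw [hg', show (h₀ : G) * k * z₁ * ((h₀ : G) * k)⁻¹ = h₀ * (k * z₁ * k⁻¹) * (h₀ : G)⁻¹ by group,
      hkx, e x (hEQ hxE), hMx m hm]
  refine ih _ ?_ L rfl hLD (hWK.trans hKL.le) ⟨g', hMdef ▸ hg'M, hg'x⟩
  have h1 := Cfsg.Lib.Fusion.card_lt_card_of_lt hKL
  have h2 := Nat.le_of_dvd Nat.card_pos (card_dvd_of_le hLD)
  omega

end Rect

end Cfsg.Lib.TwoFusion.DihProd
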