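import Cfsg.Agent.Lib.TwoFusion.DihedralProduct.Orbit
import Cfsg.Agent.Lib.Fusion.Generation

/-!
# The centric radical subgroups of a product of two dihedral groups

A proper one is `V × D₂`, `D₁ × W` or `V × W`: an automorphism of odd order fixing the centre involutions
is trivial on a subgroup with a nonabelian projection in both coordinates.
-/

set_option autoImplicit false
set_option linter.style.haveILetI false
set_option linter.unusedSectionVars false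

open Subgroup

namespace Cfsg.Lib.Fusion

variable {G : Type*} [Group G] [Finite G] {p : ℕ} [hp : Fact p.Prime]

/-- A Sylow subgroup meets a normal subgroup in a Sylow subgroup. -/
theorem not_dvd_relIndex_inf {N T K : Subgroup G} (hTp : IsPGroup p T) (hTN : T ≤ N)
    (hT : ¬ p ∣ T.relIndex N) (hKN : K ≤ N) (hK : ∀ g ∈ N, ∀ k ∈ K, g * k * g⁻¹ ∈ K) :
    ¬ p ∣ (T ⊓ K).relIndex K := by
  classical
  let T₀ : Sylow p N := (hTp.of_equiv (subgroupOfEquivOfLe hTN).symm).toSylow hT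
  obtain ⟨PK, hPK⟩ := ((hTp.to_inf_left (K := K)).of_equiv (subgroupOfEquivOfLe inf_le_right).symm :
    IsPGroup p ((T ⊓ K).subgroupOf K)).exists_le_sylow
  obtain ⟨R, hR⟩ : ∃ R, R = (PK : Subgroup K).map K.subtype := ⟨_, rfl⟩
  have hRK : R ≤ K := hR ▸ map_subtype_le _
  obtain ⟨S', hS'⟩ := ((hR ▸ PK.2.map K.subtype : IsPGroup p R).of_equiv
    (subgroupOfEquivOfLe (hRK.trans hKN)).symm).exists_le_sylow
  obtain ⟨n, hn⟩ := MulAction.exists_smul_eq N S' T₀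
  have hle : R.map (MulAut.conj (n : G)).toMonoidHom ≤ T ⊓ K := by
    rintro _ ⟨x, hx, rfl⟩
    refine ⟨?_, hK n n.2 x (hRK hx)⟩
    have h1 : MulAut.conj n ⟨x, hKN (hRK hx)⟩ ∈ (T₀ : Subgroup N) := by
      rw [← hn, Sylow.coe_subgroup_smul]
      exact ⟨_, hS' (mem_subgroupOf.2 hx), rfl⟩
    exact h1
  have hc := Nat.le_of_dvd Nat.card_pos (card_dvd_of_le hle)
  rw [card_map_of_injective (K := R) (f := (MulAut.conj (n : G)).toMonoidHom)
    (MulAut.conj (n : G)).injective] at hc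
  have hTR : T ⊓ K ≤ R := fun x hx => hR ▸ ⟨⟨x, hx.2⟩, hPK (mem_subgroupOf.2 hx), rfl⟩
  rw [eq_of_le_of_card_ge hTR hc, hR]
  show ¬ p ∣ (((PK : Subgroup K).map K.subtype).subgroupOf K).index
  rw [subgroupOf, comap_map_eq_self_of_injective K.subtype_injective]
  exact PK.not_dvd_index

/-- A normal subgroup of `N(Q)` whose elements of order prime to `p` centralize `Q` adds nothing to a
radical subgroup. -/
theorem inf_le_of_radical {S : Sylow p G} {Q A : Subgroup G} (hF : FullyNormalized S Q)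
    (hR : Radical S Q) (hQA : Q ≤ A) (hAN : A ≤ normalizer (Q : Set G))
    (hA : ∀ g ∈ normalizer (Q : Set G), ∀ a ∈ A, g * a * g⁻¹ ∈ A)
    (hodd : ∀ a ∈ A, ¬ p ∣ orderOf a → ∀ q ∈ Q, a * q * a⁻¹ = q) : (S : Subgroup G) ⊓ A ≤ Q := by
  classical
  refine hR _ (le_inf hF.1 hQA) (inf_le_inf_left _ hAN) fun g hg m hm => ?_
  have hSy : ¬ p ∣ ((S : Subgroup G) ⊓ A).relIndex A := by
    have := not_dvd_relIndex_inf (T := (S : Subgroup G) ⊓ normalizer (Q : Set G)) S.2.to_inf_left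
      inf_le_right hF.2 hAN hA
    rwa [show (S : Subgroup G) ⊓ normalizer (Q : Set G) ⊓ A = (S : Subgroup G) ⊓ A from
      le_antisymm (inf_le_inf_right _ inf_le_left)
        (le_inf (inf_le_inf_left _ hAN) inf_le_right)] at this
  let P : Sylow p A := ((S.2.to_inf_left (K := A)).of_equiv
    (subgroupOfEquivOfLe inf_le_right).symm).toSylow hSy
  obtain ⟨x, hx, r, hr, hxr⟩ := exists_mul_of_sylow P ⟨g * m * g⁻¹, hA g hg m hm.2⟩
  refine ⟨(x : G), mem_subgroupOf.1 hx, fun q hq => ?_⟩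
  have hrc : (r : G) ∈ centralizer (Q : Set G) := by
    have hle : pResidual p A ≤ (centralizer (Q : Set G)).subgroupOf A := by
      rw [pResidual, closure_le]
      intro a ha
      refine mem_centralizer_iff.2 fun q hq => ?_
      have := hodd a a.2 (hp.out.coprime_iff_not_dvd.1 (Nat.Coprime.symm (by
        rw [Subgroup.orderOf_coe]; exact ha))) q hq
      exact (mul_inv_eq_iff_eq_mul.1 this).symm
    exact hle hr
  have he : g * m * g⁻¹ = (x : G) * r := congrArg Subtype.val hxr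
  rw [he, show (x : G) * r * q * ((x : G) * r)⁻¹ = x * (r * q * (r : G)⁻¹) * (x : G)⁻¹ by group,
    ← mem_centralizer_iff.1 hrc q hq, mul_inv_cancel_right]

end Cfsg.Lib.Fusion

namespace Cfsg.Lib.TwoFusion.DihProd

variable {G : Type*} [Group G]

/-- `g` of order `m` with `g q g⁻¹ = q ζ` and `g ζ g⁻¹ ∈ ζ Z`. -/
theorem shift_mem {g q ζ : G} {Z : Subgroup G} (h1 : g * q * g⁻¹ = q * ζ)
    (h2 : ζ⁻¹ * (g * ζ * g⁻¹) ∈ Z) (hZ : ∀ z ∈ Z, g * z * g⁻¹ ∈ Z) (hc : ∀ z ∈ Z, Commute ζ z) :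
    ζ ^ orderOf g ∈ Z := by
  obtain ⟨v, hv, hgζ⟩ : ∃ v ∈ Z, g * ζ * g⁻¹ = ζ * v := ⟨_, h2, (mul_inv_cancel_left _ _).symm⟩
  have key : ∀ k : ℕ, ∃ v' ∈ Z, g ^ k * q * (g ^ k)⁻¹ = q * ζ ^ k * v' := by
    intro k
    induction k with
    | zero => exact ⟨1, one_mem _, by simp⟩
    | succ k ih =>
      obtain ⟨v', hv', e⟩ := ih
      refine ⟨v ^ k * (g * v' * g⁻¹), mul_mem (pow_mem hv k) (hZ v' hv'), ?_⟩
      rw [pow_succ', show g * g ^ k * q * (g * g ^ k)⁻¹ = g * (g ^ k * q * (g ^ k)⁻¹) * g⁻¹ by group, e,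
        show g * (q * ζ ^ k * v') * g⁻¹ = g * q * g⁻¹ * (g * ζ ^ k * g⁻¹) * (g * v' * g⁻¹) by group,
        h1, ← conj_pow, hgζ, (hc v hv).mul_pow, pow_succ']
      group
  obtain ⟨v', hv', e⟩ := key (orderOf g)
  rw [pow_orderOf_eq_one, one_mul, inv_one, mul_one, mul_assoc, left_eq_mul] at e
  exact eq_inv_of_mul_eq_one_left e ▸ inv_mem hv'

theorem mem_of_odd_pow {S : Sylow 2 G} {ζ : G} {Z : Subgroup G} {m : ℕ}
    (hS : ζ ∈ (S : Subgroup G)) (hm : Odd m) (h : ζ ^ m ∈ Z) : ζ ∈ Z := by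
  haveI : Fact (Nat.Prime 2) := ⟨Nat.prime_two⟩
  obtain ⟨k, hk⟩ := IsPGroup.iff_orderOf.1 S.2 ⟨ζ, hS⟩
  rw [Subgroup.orderOf_mk] at hk
  obtain ⟨j, hj⟩ := exists_pow_eq_self_of_coprime (x := ζ) (n := m)
    (hk ▸ Nat.Coprime.pow_right k (Nat.coprime_two_right.2 hm))
  exact hj ▸ pow_mem h j

theorem fix_of_shift {S : Sylow 2 G} {g q ζ : G} (hm : Odd (orderOf g))
    (hS : ζ ∈ (S : Subgroup G)) (h1 : g * q * g⁻¹ = q * ζ) (h2 : g * ζ * g⁻¹ = ζ) :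
    g * q * g⁻¹ = q := by
  have h : ζ ∈ (⊥ : Subgroup G) := mem_of_odd_pow hS hm (shift_mem h1
    (mem_bot.2 (by rw [h2, inv_mul_cancel])) (fun z hz => by
      rw [mem_bot.1 hz, mul_one, mul_inv_cancel]; exact one_mem _)
    fun z hz => by rw [mem_bot.1 hz]; exact Commute.one_right ζ)
  rw [h1, mem_bot.1 h, mul_one]

namespace Dih

variable {D : Subgroup G} {c a z : G} {n : ℕ} (h : Dih D c a z n)

include h

theorem rot_of_sq {d : G} (hd : d ∈ D) (hsq : d * d ≠ 1) : d ∈ zpowers c := by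
  by_contra hdc
  exact hsq (h.sq d hd hdc)

theorem rot_shift {d d' : G} (hd : d ∈ zpowers c) (hd' : d' ∈ zpowers c) (e : d' * d' = d * d) :
    d⁻¹ * d' = 1 ∨ d⁻¹ * d' = z := by
  refine h.sq_one_rot (mul_mem (inv_mem hd) hd') ?_
  rw [(rot_commute hd' (inv_mem hd)).mul_mul_mul_comm, e]
  group

theorem commute_thick_iff {d d₀ : G} (hd : d ∈ D) (hd₀ : d₀ ∈ D) (hsq : d₀ * d₀ ≠ 1) :
    Commute d d₀ ↔ d ∈ zpowers c := by
  refine ⟨fun hc => ?_, fun hdc => rot_commute hdc (h.rot_of_sq hd₀ hsq)⟩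
  by_contra hdc
  exact hsq (h.sq_one_of_commute hd hdc (h.rot_of_sq hd₀ hsq) hc)

theorem sq_of_two (h2 : n = 2) {d : G} (hd : d ∈ D) : d * d = 1 := by
  by_cases hdc : d ∈ zpowers c
  · obtain ⟨i, rfl⟩ := mem_zpowers_iff.1 hdc
    rw [← (Commute.refl c).mul_zpow, ← pow_two, ← h2, ← h.ord, pow_orderOf_eq_one, one_zpow]
  · exact h.sq d hd hdc

/-- A multiplicatively closed set of elements squaring to one commutes with a reflection. -/
theorem exists_comm {P : G → Prop} (hP : ∀ d, P d → d ∈ D ∧ d * d = 1)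
    (hmul : ∀ d d', P d → P d' → P (d * d')) :
    ∃ y ∈ D, y ∉ zpowers c ∧ ∀ d, P d → Commute d y := by
  by_cases hr : ∃ y, P y ∧ y ∉ zpowers c
  · obtain ⟨y, hy, hyc⟩ := hr
    refine ⟨y, (hP y hy).1, hyc, fun d hd => ?_⟩
    by_cases hdc : d ∈ zpowers c
    · rcases h.sq_one_rot hdc (hP d hd).2 with e | e <;> rw [e]
      exacts [Commute.one_left y, h.z_comm (hP y hy).1]
    · have hm := h.refl_mul (hP d hd).1 hdc (hP y hy).1 hyc
      have e : d = d * y * y := by rw [mul_assoc, (hP y hy).2, mul_one]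
      rw [e]
      refine Commute.mul_left ?_ (Commute.refl y)
      rcases h.sq_one_rot hm (hP _ (hmul d y hd hy)).2 with e' | e' <;> rw [e']
      exacts [Commute.one_left y, h.z_comm (hP y hy).1]
  · push Not at hr
    refine ⟨a, h.mema, h.anot, fun d hd => ?_⟩
    rcases h.sq_one_rot (hr d hd) (hP d hd).2 with e | e <;> rw [e]
    exacts [Commute.one_left a, h.z_comm h.mema]

theorem z_mem_zpowers [Finite G] {S : Sylow 2 G} (hDS : D ≤ (S : Subgroup G)) {s : G}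
    (hs : s ∈ zpowers c) (hs1 : s ≠ 1) : z ∈ zpowers s := by
  haveI : Fact (Nat.Prime 2) := ⟨Nat.prime_two⟩
  obtain ⟨k, hk⟩ := IsPGroup.iff_orderOf.1 S.2 ⟨s, hDS (h.rot_mem hs)⟩
  rw [Subgroup.orderOf_mk] at hk
  rcases k with _ | k
  · exact absurd (orderOf_eq_one_iff.1 hk) hs1
  have h2 : s ^ 2 ^ k * s ^ 2 ^ k = 1 := by
    rw [← pow_add, ← two_mul, ← pow_succ', ← hk, pow_orderOf_eq_one]
  refine ((h.sq_one_rot (pow_mem hs _) h2).resolve_left fun e => ?_) ▸ pow_mem (mem_zpowers s) _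
  exact pow_ne_one_of_lt_orderOf (by positivity) (by rw [hk, pow_succ]; have := Nat.two_pow_pos k; omega) e

end Dih

namespace Frame

variable [Finite G] {S : Sylow 2 G} {D₁ D₂ : Subgroup G} {c₁ a₁ z₁ c₂ a₂ z₂ : G} {n₁ n₂ : ℕ}
  (F : Frame S D₁ D₂ c₁ a₁ z₁ c₂ a₂ z₂ n₁ n₂) {Q : Subgroup G} (hQS : Q ≤ (S : Subgroup G))

include F

theorem sq_mul {d e : G} (hd : d ∈ D₁) (he : e ∈ D₂) : d * e * (d * e) = d * d * (e * e) :=
  (F.comm hd he).symm.mul_mul_mul_comm _ _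

include hQS

/-- An automorphism of odd order fixing the centre involutions fixes the squares. -/
theorem sq_fix {g : G} (hg : g ∈ normalizer (Q : Set G)) (hm : Odd (orderOf g))
    (hz₁ : g * z₁ * g⁻¹ = z₁) (hz₂ : n₂ = 2 ∨ g * z₂ * g⁻¹ = z₂) :
    ∀ q ∈ Q, g * (q * q) * g⁻¹ = q * q := by
  haveI : Fact (Nat.Prime 2) := ⟨Nat.prime_two⟩
  suffices H : ∀ (j : ℕ) (q : G), orderOf q = j → q ∈ Q → g * (q * q) * g⁻¹ = q * q from
    fun q hq => H _ q rfl hq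
  intro j
  induction j using Nat.strong_induction_on with
  | _ j ih =>
  intro q hj hq
  rcases eq_or_ne q 1 with rfl | hq1
  · group
  have hgq := conj_mem_of_mem_normalizer hg hq
  obtain ⟨d, hd, e, he, hde⟩ := F.decomp (hQS hq)
  obtain ⟨d', hd', e', he', hde'⟩ := F.decomp (hQS hgq)
  have hsq : g * (q * q) * g⁻¹ = d' * d' * (e' * e') := by
    rw [show g * (q * q) * g⁻¹ = g * q * g⁻¹ * (g * q * g⁻¹) by group, hde', F.sq_mul hd' he']
  by_cases hs : q * q * (q * q) = 1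
  · rw [hde, F.sq_mul hd he] at hs ⊢
    rw [F.sq_mul (mul_mem hd hd) (mul_mem he he)] at hs
    obtain ⟨h1, h2⟩ := F.unique (mul_mem (mul_mem hd hd) (mul_mem hd hd))
      (mul_mem (mul_mem he he) (mul_mem he he)) (one_mem _) (one_mem _) (hs.trans (one_mul 1).symm)
    have f1 : g * (d * d) * g⁻¹ = d * d := by
      rcases F.d₁.sq_one_rot (F.d₁.sq_rot hd) h1 with h | h <;> rw [h]
      exacts [by group, hz₁]
    have f2 : g * (e * e) * g⁻¹ = e * e := by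
      rcases hz₂ with h | hz
      · rw [F.d₂.sq_of_two h he]; group
      rcases F.d₂.sq_one_rot (F.d₂.sq_rot he) h2 with h | h <;> rw [h]
      exacts [by group, hz]
    rw [show g * (d * d * (e * e)) * g⁻¹ = g * (d * d) * g⁻¹ * (g * (e * e) * g⁻¹) by group, f1, f2]
  have hlt : orderOf (q * q) < j := by
    obtain ⟨k, hk⟩ := IsPGroup.iff_orderOf.1 S.2 ⟨q, hQS hq⟩
    rw [Subgroup.orderOf_mk] at hk
    rcases k with _ | k
    · exact absurd (orderOf_eq_one_iff.1 hk) hq1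
    have : orderOf (q * q) ∣ 2 ^ k := orderOf_dvd_of_pow_eq_one (by
      rw [← pow_two, ← pow_mul, ← pow_succ', ← hk, pow_orderOf_eq_one])
    have h2 := Nat.le_of_dvd (Nat.two_pow_pos k) this
    have := Nat.two_pow_pos k
    rw [← hj, hk, pow_succ]
    omega
  have hih := ih _ hlt (q * q) rfl (mul_mem hq hq)
  obtain ⟨ζ, hζ⟩ : ∃ ζ, ζ = (d * d)⁻¹ * (d' * d') * ((e * e)⁻¹ * (e' * e')) := ⟨_, rfl⟩
  have h1 : g * (q * q) * g⁻¹ = q * q * ζ := by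
    rw [hsq, hde, F.sq_mul hd he, hζ,
      (F.comm (mul_mem (inv_mem (mul_mem hd hd)) (mul_mem hd' hd')) (mul_mem he he)).symm.mul_mul_mul_comm,
      mul_inv_cancel_left, mul_inv_cancel_left]
  have h2 : g * (q * q * (q * q)) * g⁻¹ = g * (q * q) * g⁻¹ * (g * (q * q) * g⁻¹) := by group
  rw [hih, hsq, hde, F.sq_mul hd he, F.sq_mul (mul_mem hd hd) (mul_mem he he),
    F.sq_mul (mul_mem hd' hd') (mul_mem he' he')] at h2
  obtain ⟨e1, e2⟩ := F.unique (mul_mem (mul_mem hd hd) (mul_mem hd hd))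
    (mul_mem (mul_mem he he) (mul_mem he he)) (mul_mem (mul_mem hd' hd') (mul_mem hd' hd'))
    (mul_mem (mul_mem he' he') (mul_mem he' he')) h2
  have hf : g * ζ * g⁻¹ = ζ := by
    have f1 : g * ((d * d)⁻¹ * (d' * d')) * g⁻¹ = (d * d)⁻¹ * (d' * d') := by
      rcases F.d₁.rot_shift (F.d₁.sq_rot hd) (F.d₁.sq_rot hd') e1.symm with h | h <;> rw [h]
      exacts [by group, hz₁]
    have f2 : g * ((e * e)⁻¹ * (e' * e')) * g⁻¹ = (e * e)⁻¹ * (e' * e') := by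
      rcases hz₂ with h | hz
      · rw [F.d₂.sq_of_two h he, F.d₂.sq_of_two h he']; group
      rcases F.d₂.rot_shift (F.d₂.sq_rot he) (F.d₂.sq_rot he') e2.symm with h | h <;> rw [h]
      exacts [by group, hz]
    rw [hζ, show ∀ A B : G, g * (A * B) * g⁻¹ = g * A * g⁻¹ * (g * B * g⁻¹) from fun A B => by group,
      f1, f2]
  refine fix_of_shift (S := S) hm ?_ h1 hf
  rw [hζ]
  exact F.mem_mul (mul_mem (inv_mem (mul_mem hd hd)) (mul_mem hd' hd'))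
    (mul_mem (inv_mem (mul_mem he he)) (mul_mem he' he'))

/-- The thick coordinate of `q⁻¹ (g q g⁻¹)`. -/
theorem coord {g : G} (hg : g ∈ normalizer (Q : Set G)) (hm : Odd (orderOf g))
    (hz₁ : g * z₁ * g⁻¹ = z₁) (hz₂ : n₂ = 2 ∨ g * z₂ * g⁻¹ = z₂) {d₀ e₀ : G} (hd₀ : d₀ ∈ D₁)
    (he₀ : e₀ ∈ D₂) (hq₀ : d₀ * e₀ ∈ Q) (hsq : d₀ * d₀ ≠ 1) {d e d' e' : G} (hd : d ∈ D₁)
    (he : e ∈ D₂) (hd' : d' ∈ D₁) (he' : e' ∈ D₂) (hq : d * e ∈ Q)
    (hde : g * (d * e) * g⁻¹ = d' * e') :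
    d⁻¹ * d' ∈ zpowers c₁ ∧ (d ∈ zpowers c₁ → d⁻¹ * d' = 1 ∨ d⁻¹ * d' = z₁) := by
  have hfix := F.sq_fix hQS hg hm hz₁ hz₂
  have hsqs : ∀ {d e d' e'}, d ∈ D₁ → e ∈ D₂ → d' ∈ D₁ → e' ∈ D₂ → d * e ∈ Q →
      g * (d * e) * g⁻¹ = d' * e' → d' * d' = d * d := by
    intro d e d' e' hd he hd' he' hq hde
    have h1 := hfix _ hq
    rw [show g * (d * e * (d * e)) * g⁻¹ = g * (d * e) * g⁻¹ * (g * (d * e) * g⁻¹) by group, hde,
      F.sq_mul hd' he', F.sq_mul hd he] at h1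
    exact (F.unique (mul_mem hd' hd') (mul_mem he' he') (mul_mem hd hd) (mul_mem he he) h1).1
  obtain ⟨f, hf, f', hf', hg₀⟩ := F.decomp (hQS (conj_mem_of_mem_normalizer hg hq₀))
  have hfsq := hsqs hd₀ he₀ hf hf' hq₀ hg₀
  have hfne : f * f ≠ 1 := by rw [hfsq]; exact hsq
  -- the commutator with `d₀ e₀` is fixed
  have hcomm : g * (d * e * (d₀ * e₀) * (d * e)⁻¹ * (d₀ * e₀)⁻¹) * g⁻¹ =
      d * e * (d₀ * e₀) * (d * e)⁻¹ * (d₀ * e₀)⁻¹ := by
    have k : ∀ A B : G, A * B * A⁻¹ * B⁻¹ = A * A * (A⁻¹ * B * (A⁻¹ * B)) * (B⁻¹ * B⁻¹) :=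
      fun A B => by group
    rw [k, show ∀ A B C : G, g * (A * B * C) * g⁻¹ = g * A * g⁻¹ * (g * B * g⁻¹) * (g * C * g⁻¹) from
      fun A B C => by group, hfix _ hq, hfix _ (mul_mem (inv_mem hq) hq₀), hfix _ (inv_mem hq₀)]
  have key : ∀ {A B C E : G}, A ∈ D₁ → B ∈ D₂ → C ∈ D₁ → E ∈ D₂ →
      A * B * (C * E) * (A * B)⁻¹ * (C * E)⁻¹ = A * C * A⁻¹ * C⁻¹ * (B * E * B⁻¹ * E⁻¹) := by
    intro A B C E hA hB hC hE
    rw [F.conj_mul hA hB hC hE, _root_.mul_inv_rev, ← (F.comm (inv_mem hC) (inv_mem hE)).eq,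
      (F.comm (inv_mem hC) (mul_mem (mul_mem hB hE) (inv_mem hB))).symm.mul_mul_mul_comm]
  rw [show g * (d * e * (d₀ * e₀) * (d * e)⁻¹ * (d₀ * e₀)⁻¹) * g⁻¹ = g * (d * e) * g⁻¹ *
      (g * (d₀ * e₀) * g⁻¹) * (g * (d * e) * g⁻¹)⁻¹ * (g * (d₀ * e₀) * g⁻¹)⁻¹ by group, hde, hg₀,
    key hd' he' hf hf', key hd he hd₀ he₀] at hcomm
  have hc := (F.unique (mul_mem (mul_mem (mul_mem hd' hf) (inv_mem hd')) (inv_mem hf))
    (mul_mem (mul_mem (mul_mem he' hf') (inv_mem he')) (inv_mem hf'))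
    (mul_mem (mul_mem (mul_mem hd hd₀) (inv_mem hd)) (inv_mem hd₀))
    (mul_mem (mul_mem (mul_mem he he₀) (inv_mem he)) (inv_mem he₀)) hcomm).1
  have hiff : d ∈ zpowers c₁ ↔ d' ∈ zpowers c₁ := by
    rw [← F.d₁.commute_thick_iff hd hd₀ hsq, ← F.d₁.commute_thick_iff hd' hf hfne]
    constructor <;> intro h
    · exact mul_inv_eq_iff_eq_mul.1 (mul_inv_eq_one.1 (hc.trans (by rw [h.eq]; group)))
    · exact mul_inv_eq_iff_eq_mul.1 (mul_inv_eq_one.1 (hc.symm.trans (by rw [h.eq]; group)))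
  by_cases hdc : d ∈ zpowers c₁
  · exact ⟨mul_mem (inv_mem hdc) (hiff.1 hdc), fun _ =>
      F.d₁.rot_shift hdc (hiff.1 hdc) (hsqs hd he hd' he' hq hde)⟩
  · exact ⟨F.d₁.refl_mul (inv_mem hd) (fun h => hdc (inv_mem_iff.1 h)) hd'
      fun h => hdc (hiff.2 h), fun h => absurd h hdc⟩

/-- Both projections nonabelian: trivial. -/
theorem odd_trivial {g : G} (hg : g ∈ normalizer (Q : Set G)) (hm : Odd (orderOf g))
    (hz₁ : g * z₁ * g⁻¹ = z₁) (hz₂ : g * z₂ * g⁻¹ = z₂) (h4 : 4 ≤ n₂) {d₀ e₀ f₀ g₀ : G}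
    (hd₀ : d₀ ∈ D₁) (he₀ : e₀ ∈ D₂) (hq₀ : d₀ * e₀ ∈ Q) (hsq : d₀ * d₀ ≠ 1) (hf₀ : f₀ ∈ D₁)
    (hg₀ : g₀ ∈ D₂) (hr₀ : f₀ * g₀ ∈ Q) (hsq' : g₀ * g₀ ≠ 1) : ∀ q ∈ Q, g * q * g⁻¹ = q := by
  have F' := F.swap h4
  have step : ∀ q ∈ Q, ∃ r ∈ zpowers c₁, ∃ s ∈ zpowers c₂, r * s ∈ Q ∧ g * q * g⁻¹ = q * (r * s) ∧
      (∀ d ∈ zpowers c₁, ∀ e ∈ zpowers c₂, q = d * e → g * (r * s) * g⁻¹ = r * s) := by
    intro q hq
    have hgq := conj_mem_of_mem_normalizer hg hq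
    obtain ⟨d, hd, e, he, rfl⟩ := F.decomp (hQS hq)
    obtain ⟨d', hd', e', he', hde⟩ := F.decomp (hQS hgq)
    have c1 := F.coord hQS hg hm hz₁ (Or.inr hz₂) hd₀ he₀ hq₀ hsq hd he hd' he' hq hde
    have c2 := F'.coord hQS hg hm hz₂ (Or.inr hz₁) hg₀ hf₀
      ((F.comm hf₀ hg₀).eq ▸ hr₀) hsq' he hd he' hd' ((F.comm hd he).eq ▸ hq)
      (by rw [← (F.comm hd he).eq, hde, (F.comm hd' he').eq])
    have e1 : g * (d * e) * g⁻¹ = d * e * (d⁻¹ * d' * (e⁻¹ * e')) := by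
      rw [(F.comm (mul_mem (inv_mem hd) hd') he).symm.mul_mul_mul_comm, mul_inv_cancel_left,
        mul_inv_cancel_left, hde]
    refine ⟨_, c1.1, _, c2.1, ?_, e1, fun D hD E hE hq' => ?_⟩
    · have := mul_mem (inv_mem hq) hgq
      rwa [e1, inv_mul_cancel_left] at this
    obtain ⟨rfl, rfl⟩ := F.unique hd he (F.d₁.rot_mem hD) (F.d₂.rot_mem hE) hq'
    have f1 : g * (d⁻¹ * d') * g⁻¹ = d⁻¹ * d' := by
      rcases c1.2 hD with h | h <;> rw [h]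
      exacts [by group, hz₁]
    have f2 : g * (e⁻¹ * e') * g⁻¹ = e⁻¹ * e' := by
      rcases c2.2 hE with h | h <;> rw [h]
      exacts [by group, hz₂]
    rw [show ∀ A B : G, g * (A * B) * g⁻¹ = g * A * g⁻¹ * (g * B * g⁻¹) from fun A B => by group,
      f1, f2]
  have hrot : ∀ d ∈ zpowers c₁, ∀ e ∈ zpowers c₂, d * e ∈ Q → g * (d * e) * g⁻¹ = d * e := by
    intro d hd e he hq
    obtain ⟨r, hr, s, hs, -, h1, h2⟩ := step _ hq
    exact fix_of_shift (S := S) hm (F.mem_mul (F.d₁.rot_mem hr) (F.d₂.rot_mem hs)) h1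
      (h2 d hd e he rfl)
  intro q hq
  obtain ⟨r, hr, s, hs, hrs, h1, -⟩ := step _ hq
  exact fix_of_shift (S := S) hm (hQS hrs) h1 (hrot r hr s hs hrs)

/-- A central involution with both projections thick is in `⟨z₁, z₂⟩`. -/
theorem centre_forms {d₀ e₀ f₀ g₀ : G} (hd₀ : d₀ ∈ D₁) (he₀ : e₀ ∈ D₂) (hq₀ : d₀ * e₀ ∈ Q)
    (hsq : d₀ * d₀ ≠ 1) (hf₀ : f₀ ∈ D₁) (hg₀ : g₀ ∈ D₂) (hr₀ : f₀ * g₀ ∈ Q) (hsq' : g₀ * g₀ ≠ 1)
    {x : G} (hx : x ∈ Q) (hxx : x * x = 1) (hxc : ∀ q ∈ Q, Commute x q) :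
    x = 1 ∨ x = z₁ ∨ x = z₂ ∨ x = z₁ * z₂ := by
  obtain ⟨d, hd, e, he, rfl⟩ := F.decomp (hQS hx)
  have hdc := (F.d₁.commute_thick_iff hd hd₀ hsq).1 ((F.commute_iff hd he hd₀ he₀).1 (hxc _ hq₀)).1
  have hec := (F.d₂.commute_thick_iff he hg₀ hsq').1 ((F.commute_iff hd he hf₀ hg₀).1 (hxc _ hr₀)).2
  rw [F.sq_mul hd he] at hxx
  obtain ⟨h1, h2⟩ := F.unique (mul_mem hd hd) (mul_mem he he) (one_mem _) (one_mem _)
    (hxx.trans (one_mul 1).symm)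
  rcases F.d₁.sq_one_rot hdc h1 with h | h <;> rcases F.d₂.sq_one_rot hec h2 with h' | h' <;>
    rw [h, h'] <;> simp

omit hQS in
/-- `D₁` lies in a radical subgroup with thick first and four group second projection. -/
theorem thick_thin (hFN : Cfsg.Lib.Fusion.FullyNormalized S Q) (hR : Cfsg.Lib.Fusion.Radical S Q)
    {w : G} (hw : w ∈ D₂) (hwc : w ∉ zpowers c₂) (hzQ : z₂ ∈ Q) (hwQ : w ∈ Q)
    (hQw : ∀ q ∈ Q, Commute q w) {d₀ e₀ : G} (hd₀ : d₀ ∈ D₁) (he₀ : e₀ ∈ D₂) (hq₀ : d₀ * e₀ ∈ Q)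
    (hsq : d₀ * d₀ ≠ 1) : D₁ ≤ Q := by
  haveI : Fact (Nat.Prime 2) := ⟨Nat.prime_two⟩
  have hQS := hFN.1
  have split : ∀ {d e}, d ∈ D₁ → e ∈ D₂ → d * e ∈ Q → d ∈ Q ∧ e ∈ Q ∧ Commute e w := by
    intro d e hd he hq
    have hc : Commute e w := by
      have hc' : Commute (d * e) (1 * w) := by rw [one_mul]; exact hQw _ hq
      exact ((F.commute_iff hd he (one_mem _) hw).1 hc').2
    have heQ : e ∈ Q := by
      rcases F.d₂.four hw hwc he hc with h | h | h | h <;> rw [h]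
      exacts [one_mem _, hzQ, hwQ, mul_mem hzQ hwQ]
    exact ⟨(mul_mem_cancel_right heQ).1 hq, heQ, hc⟩
  have hd₀Q := (split hd₀ he₀ hq₀).1
  have hWc : ∀ v ∈ D₂, v ∈ Q → ∀ q ∈ Q, Commute v q := by
    intro v hv hvQ q hq
    obtain ⟨d, hd, e, he, rfl⟩ := F.decomp (hQS hq)
    refine (F.comm hd hv).symm.mul_right ?_
    have hew := (split hd he hq).2.2
    rcases F.d₂.four hw hwc hv (hQw v hvQ) with h | h | h | h <;> rw [h]
    exacts [Commute.one_left e, F.d₂.z_comm he, hew.symm, (F.d₂.z_comm he).mul_left hew.symm]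
  -- the images of `z₁` and `W`
  have hdd : d₀ * d₀ ∈ zpowers c₁ := F.d₁.sq_rot hd₀
  have hz₁Q : z₁ ∈ Q := zpowers_le.2 (mul_mem hd₀Q hd₀Q) (F.d₁.z_mem_zpowers F.le₁ hdd hsq)
  have hfix : ∀ g ∈ normalizer (Q : Set G), g * z₁ * g⁻¹ = z₁ := by
    intro g hg
    obtain ⟨d', hd', e', he', hde⟩ := F.decomp (hQS (conj_mem_of_mem_normalizer hg hd₀Q))
    have hgQ := conj_mem_of_mem_normalizer hg hd₀Q
    rw [hde] at hgQ
    have hee : e' * e' = 1 := by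
      rcases F.d₂.four hw hwc he' (split hd' he' hgQ).2.2 with h | h | h | h <;> rw [h]
      exacts [mul_one 1, F.d₂.z_sq, F.d₂.sq w hw hwc,
        F.d₂.sq _ (mul_mem F.d₂.z_mem hw) (F.d₂.zy_not_rot hwc)]
    obtain ⟨i, hi⟩ := mem_zpowers_iff.1 (F.d₁.z_mem_zpowers F.le₁ hdd hsq)
    have h1 : g * z₁ * g⁻¹ ∈ zpowers c₁ := by
      rw [← hi, ← conj_zpow, show g * (d₀ * d₀) * g⁻¹ = g * d₀ * g⁻¹ * (g * d₀ * g⁻¹) by group, hde,
        F.sq_mul hd' he', hee, mul_one]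
      exact zpow_mem (F.d₁.sq_rot hd') i
    refine (F.d₁.sq_one_rot h1 ?_).resolve_left fun h => F.d₁.z_ne_one (conj_eq_one_iff.1 h)
    rw [show g * z₁ * g⁻¹ * (g * z₁ * g⁻¹) = g * (z₁ * z₁) * g⁻¹ by group, F.d₁.z_sq]
    group
  have hW : ∀ g ∈ normalizer (Q : Set G), ∀ v ∈ D₂, v ∈ Q →
      ∃ v' ∈ D₂, v' ∈ Q ∧ (g * v * g⁻¹ = v' ∨ g * v * g⁻¹ = z₁ * v') := by
    intro g hg v hv hvQ
    have hgv := conj_mem_of_mem_normalizer hg hvQ
    obtain ⟨d, hd, e, he, hde⟩ := F.decomp (hQS hgv)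
    rw [hde] at hgv
    obtain ⟨hdQ, heQ, -⟩ := split hd he hgv
    refine ⟨e, he, heQ, ?_⟩
    have hvv : v * v = 1 := by
      rcases F.d₂.four hw hwc hv (hQw v hvQ) with h | h | h | h <;> rw [h]
      exacts [mul_one 1, F.d₂.z_sq, F.d₂.sq w hw hwc,
        F.d₂.sq _ (mul_mem F.d₂.z_mem hw) (F.d₂.zy_not_rot hwc)]
    have hcen : Commute (d * e) (d₀ * e₀) := by
      rw [← hde]
      have h1 := (hWc v hv hvQ _ (conj_mem_of_mem_normalizer (inv_mem hg) hq₀)).map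
        (MulAut.conj g).toMonoidHom
      simp only [MulEquiv.coe_toMonoidHom, MulAut.conj_apply] at h1
      rwa [show g * (g⁻¹ * (d₀ * e₀) * g⁻¹⁻¹) * g⁻¹ = d₀ * e₀ by group] at h1
    have hdc := (F.d₁.commute_thick_iff hd hd₀ hsq).1 ((F.commute_iff hd he hd₀ he₀).1 hcen).1
    have h1 : g * v * g⁻¹ * (g * v * g⁻¹) = 1 := by
      rw [show g * v * g⁻¹ * (g * v * g⁻¹) = g * (v * v) * g⁻¹ by group, hvv]; group
    rw [hde, F.sq_mul hd he, ← mul_one (1 : G)] at h1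
    rcases F.d₁.sq_one_rot hdc (F.unique (mul_mem hd hd) (mul_mem he he) (one_mem _) (one_mem _) h1).1
      with h | h
    · exact Or.inl (by rw [hde, h, one_mul])
    · exact Or.inr (by rw [hde, h])
  have hzz : ∀ g ∈ normalizer (Q : Set G), ∀ A : G,
      g * (z₁ * A) * g⁻¹ = z₁ * (g * A * g⁻¹) := fun g hg A => by
    rw [show g * (z₁ * A) * g⁻¹ = g * z₁ * g⁻¹ * (g * A * g⁻¹) by group, hfix g hg]
  let A : Subgroup G :=
    { carrier := {g | g ∈ normalizer (Q : Set G) ∧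
        ∀ v ∈ D₂, v ∈ Q → g * v * g⁻¹ = v ∨ g * v * g⁻¹ = z₁ * v}
      one_mem' := ⟨one_mem _, fun v _ _ => Or.inl (by group)⟩
      mul_mem' := by
        rintro g g' ⟨hg, e⟩ ⟨hg', e'⟩
        refine ⟨mul_mem hg hg', fun v hv hvQ => ?_⟩
        rw [show g * g' * v * (g * g')⁻¹ = g * (g' * v * g'⁻¹) * g⁻¹ by group]
        rcases e' v hv hvQ with h' | h' <;> rw [h']
        · exact e v hv hvQ
        · rw [hzz g hg]
          rcases e v hv hvQ with h | h <;> rw [h]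
          · exact Or.inr rfl
          · exact Or.inl (by rw [← mul_assoc, F.d₁.z_sq, one_mul])
      inv_mem' := by
        rintro g ⟨hg, e⟩
        refine ⟨inv_mem hg, fun v hv hvQ => ?_⟩
        rcases e v hv hvQ with h | h
        · left
          conv_lhs => rw [← h]
          group
        · right
          have h2 : g⁻¹ * (z₁ * (g * v * g⁻¹)) * g⁻¹⁻¹ = z₁ * v := by
            rw [hzz _ (inv_mem hg)]; group
          rwa [h, ← mul_assoc z₁ z₁ v, F.d₁.z_sq, one_mul] at h2 }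
  have hA : ∀ g ∈ normalizer (Q : Set G), ∀ b ∈ A, g * b * g⁻¹ ∈ A := by
    rintro g hg b ⟨hb, e⟩
    refine ⟨mul_mem (mul_mem hg hb) (inv_mem hg), fun v hv hvQ => ?_⟩
    obtain ⟨v', hv', hv'Q, h'⟩ := hW g⁻¹ (inv_mem hg) v hv hvQ
    rw [show g * b * g⁻¹ * v * (g * b * g⁻¹)⁻¹ = g * (b * (g⁻¹ * v * g⁻¹⁻¹) * b⁻¹) * g⁻¹ by group]
    have back : ∀ A, g⁻¹ * v * g⁻¹⁻¹ = A → g * A * g⁻¹ = v := fun A e => by rw [← e]; group
    rcases h' with h' | h' <;> rw [h'] <;> have hb' := back _ h'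
    · rcases e v' hv' hv'Q with h | h <;> rw [h]
      · exact Or.inl hb'
      · exact Or.inr (by rw [hzz g hg, hb'])
    · rw [hzz b hb]
      rw [hzz g hg] at hb'
      rcases e v' hv' hv'Q with h | h <;> rw [h]
      · exact Or.inl (by rw [hzz g hg, hb'])
      · exact Or.inr (by rw [hzz g hg, hzz g hg, hb'])
  have hodd : ∀ b ∈ A, ¬ 2 ∣ orderOf b → ∀ q ∈ Q, b * q * b⁻¹ = q := by
    rintro g ⟨hg, e⟩ hm
    have hm : Odd (orderOf g) := Nat.odd_iff.2 (Nat.two_dvd_ne_zero.1 hm)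
    have hv : ∀ v ∈ D₂, v ∈ Q → g * v * g⁻¹ = v := fun v hv hvQ => by
      rcases e v hv hvQ with h | h
      · exact h
      · exact fix_of_shift (S := S) (q := v) (ζ := z₁) hm (F.le₁ F.d₁.z_mem)
          (by rw [h, (F.comm F.d₁.z_mem hv).eq]) (hfix g hg)
    have hz₁ := hfix g hg
    have hz₂ : g * z₂ * g⁻¹ = z₂ := hv z₂ F.d₂.z_mem hzQ
    have step : ∀ q ∈ Q, ∃ r ∈ zpowers c₁, ∃ s ∈ D₂, r * s ∈ Q ∧ g * q * g⁻¹ = q * (r * s) ∧
        (∀ d ∈ zpowers c₁, ∀ e' ∈ D₂, q = d * e' → g * (r * s) * g⁻¹ = r * s) := by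
      intro q hq
      have hgq := conj_mem_of_mem_normalizer hg hq
      obtain ⟨d, hd, f, hf, rfl⟩ := F.decomp (hQS hq)
      obtain ⟨d', hd', f', hf', hde⟩ := F.decomp (hQS hgq)
      have c1 := F.coord hQS hg hm hz₁ (Or.inr hz₂) hd₀ he₀ hq₀ hsq hd hf hd' hf' hq hde
      have hfQ := mul_mem (inv_mem (split hd hf hq).2.1) (split hd' hf' (hde ▸ hgq)).2.1
      have e1 : g * (d * f) * g⁻¹ = d * f * (d⁻¹ * d' * (f⁻¹ * f')) := by
        rw [(F.comm (mul_mem (inv_mem hd) hd') hf).symm.mul_mul_mul_comm, mul_inv_cancel_left,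
          mul_inv_cancel_left, hde]
      refine ⟨_, c1.1, _, mul_mem (inv_mem hf) hf', ?_, e1, fun D hD E hE hq' => ?_⟩
      · have := mul_mem (inv_mem hq) hgq
        rwa [e1, inv_mul_cancel_left] at this
      obtain ⟨rfl, rfl⟩ := F.unique hd hf (F.d₁.rot_mem hD) hE hq'
      have f1 : g * (d⁻¹ * d') * g⁻¹ = d⁻¹ * d' := by
        rcases c1.2 hD with h | h <;> rw [h]
        exacts [by group, hz₁]
      rw [show ∀ A B : G, g * (A * B) * g⁻¹ = g * A * g⁻¹ * (g * B * g⁻¹) from fun A B => by group,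
        f1, hv _ (mul_mem (inv_mem hf) hf') hfQ]
    have hrot : ∀ d ∈ zpowers c₁, ∀ f ∈ D₂, d * f ∈ Q → g * (d * f) * g⁻¹ = d * f := by
      intro d hd f hf hq
      obtain ⟨r, hr, s, hs, -, h1, h2⟩ := step _ hq
      exact fix_of_shift (S := S) hm (F.mem_mul (F.d₁.rot_mem hr) hs) h1 (h2 d hd f hf rfl)
    intro q hq
    obtain ⟨r, hr, s, hs, hrs, h1, -⟩ := step _ hq
    exact fix_of_shift (S := S) hm (hQS hrs) h1 (hrot r hr s hs hrs)
  have hQA : Q ≤ A := fun q hq => ⟨le_normalizer hq, fun v hv hvQ =>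
    Or.inl (mul_inv_eq_iff_eq_mul.2 (hWc v hv hvQ q hq).symm.eq)⟩
  have hle := Cfsg.Lib.Fusion.inf_le_of_radical hFN hR hQA (fun g hg => hg.1) hA hodd
  by_contra hD
  have hlt : D₁ ⊓ Q < D₁ := lt_of_le_not_ge inf_le_left fun h => hD (h.trans inf_le_right)
  refine (Cfsg.Lib.Fusion.lt_inf_normalizer (S.2.to_le F.le₁) hlt).not_ge fun x hx => ?_
  refine ⟨hx.1, hle ⟨F.le₁ hx.1, mem_normalizer_fintype fun q hq => ?_, fun v hv _ =>
    Or.inl (mul_inv_eq_iff_eq_mul.2 (F.comm hx.1 hv).eq)⟩⟩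
  obtain ⟨d, hd, e, he, rfl⟩ := F.decomp (hQS hq)
  obtain ⟨hdQ, heQ, -⟩ := split hd he hq
  rw [show x * (d * e) * x⁻¹ = x * d * x⁻¹ * (x * e * x⁻¹) by group, (F.comm hx.1 he).eq,
    mul_inv_cancel_right]
  exact mul_mem (conj_mem_of_mem_normalizer hx.2 ⟨hd, hdQ⟩).2 heQ

omit hQS in
/-- **The centric radical proper subgroups.** -/
theorem radical_form (hlt : Q < (S : Subgroup G)) (hFN : Cfsg.Lib.Fusion.FullyNormalized S Q)
    (hcen : ∀ s ∈ (S : Subgroup G), (∀ q ∈ Q, s * q = q * s) → s ∈ Q)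
    (hR : Cfsg.Lib.Fusion.Radical S Q) :
    (∃ y w, Rect S D₁ D₂ c₁ a₁ z₁ c₂ a₂ z₂ n₁ n₂ y w ∧ Q = EL S y w) ∨
      (∃ y ∈ D₁, y ∉ zpowers c₁ ∧ Q = QL S y) ∨
      (4 ≤ n₂ ∧ ∃ w ∈ D₂, w ∉ zpowers c₂ ∧ Q = QL S w) := by
  haveI : Fact (Nat.Prime 2) := ⟨Nat.prime_two⟩
  have hQS := hFN.1
  have cen : ∀ {s}, s ∈ (S : Subgroup G) → (∀ q ∈ Q, Commute s q) → s ∈ Q :=
    fun hs h => hcen _ hs fun q hq => (h q hq).eq
  have hz₁Q : z₁ ∈ Q := cen (F.le₁ F.d₁.z_mem) fun q hq => F.z₁_central (hQS hq)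
  have hz₂Q : z₂ ∈ Q := cen (F.le₂ F.d₂.z_mem) fun q hq => F.z₂_central (hQS hq)
  have p₁ : (∃ d ∈ D₁, ∃ e ∈ D₂, d * e ∈ Q ∧ d * d ≠ 1) ∨
      ∃ y ∈ D₁, y ∉ zpowers c₁ ∧ y ∈ Q ∧ ∀ q ∈ Q, Commute q y := by
    by_cases hk : ∃ d ∈ D₁, ∃ e ∈ D₂, d * e ∈ Q ∧ d * d ≠ 1
    · exact Or.inl hk
    push Not at hk
    obtain ⟨y, hy, hyc, h⟩ := F.d₁.exists_comm (P := fun d => d ∈ D₁ ∧ ∃ e ∈ D₂, d * e ∈ Q)
      (fun d ⟨hd, e, he, hq⟩ => ⟨hd, hk d hd e he hq⟩)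
      fun d d' ⟨hd, e, he, hq⟩ ⟨hd', e', he', hq'⟩ => ⟨mul_mem hd hd', e * e', mul_mem he he', by
        rw [← (F.comm hd' he).symm.mul_mul_mul_comm]; exact mul_mem hq hq'⟩
    have hc : ∀ q ∈ Q, Commute q y := fun q hq => by
      obtain ⟨d, hd, e, he, rfl⟩ := F.decomp (hQS hq)
      exact (h d ⟨hd, e, he, hq⟩).mul_left (F.comm hy he).symm
    exact Or.inr ⟨y, hy, hyc, cen (F.le₁ hy) fun q hq => (hc q hq).symm, hc⟩
  have p₂ : (∃ d ∈ D₁, ∃ e ∈ D₂, d * e ∈ Q ∧ e * e ≠ 1) ∨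
      ∃ w ∈ D₂, w ∉ zpowers c₂ ∧ w ∈ Q ∧ ∀ q ∈ Q, Commute q w := by
    by_cases hk : ∃ d ∈ D₁, ∃ e ∈ D₂, d * e ∈ Q ∧ e * e ≠ 1
    · exact Or.inl hk
    push Not at hk
    obtain ⟨w, hw, hwc, h⟩ := F.d₂.exists_comm (P := fun e => e ∈ D₂ ∧ ∃ d ∈ D₁, d * e ∈ Q)
      (fun e ⟨he, d, hd, hq⟩ => ⟨he, hk d hd e he hq⟩)
      fun e e' ⟨he, d, hd, hq⟩ ⟨he', d', hd', hq'⟩ => ⟨mul_mem he he', d * d', mul_mem hd hd', by
        rw [← (F.comm hd' he).symm.mul_mul_mul_comm]; exact mul_mem hq hq'⟩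
    have hc : ∀ q ∈ Q, Commute q w := fun q hq => by
      obtain ⟨d, hd, e, he, rfl⟩ := F.decomp (hQS hq)
      exact (F.comm hd hw).mul_left (h e ⟨he, d, hd, hq⟩)
    exact Or.inr ⟨w, hw, hwc, cen (F.le₂ hw) fun q hq => (hc q hq).symm, hc⟩
  rcases p₁ with ⟨d₀, hd₀, e₀, he₀, hq₀, hsq⟩ | ⟨y, hy, hyc, hyQ, hQy⟩
  · rcases p₂ with ⟨f₀, hf₀, g₀, hg₀, hr₀, hsq'⟩ | ⟨w, hw, hwc, hwQ, hQw⟩
    · exfalso
      have h4 : 4 ≤ n₂ := by
        obtain ⟨k, hk⟩ := F.d₂.pow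
        rcases k with _ | _ | k
        · have := F.d₂.two; simp at hk; omega
        · exact absurd (F.d₂.sq_of_two (by simpa using hk) hg₀) hsq'
        · calc 4 = 2 ^ 2 := rfl
            _ ≤ n₂ := hk ▸ Nat.pow_le_pow_right two_pos (by omega)
      have hfour : ∀ g ∈ normalizer (Q : Set G), ∀ z : G, (z = z₁ ∨ z = z₂) →
          g * z * g⁻¹ = 1 ∨ g * z * g⁻¹ = z₁ ∨ g * z * g⁻¹ = z₂ ∨ g * z * g⁻¹ = z₁ * z₂ := by
        intro g hg z hz
        have hzQ : z ∈ Q ∧ z * z = 1 ∧ ∀ q ∈ Q, Commute z q := by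
          rcases hz with rfl | rfl
          exacts [⟨hz₁Q, F.d₁.z_sq, fun q hq => F.z₁_central (hQS hq)⟩,
            ⟨hz₂Q, F.d₂.z_sq, fun q hq => F.z₂_central (hQS hq)⟩]
        refine F.centre_forms hQS hd₀ he₀ hq₀ hsq hf₀ hg₀ hr₀ hsq'
          (conj_mem_of_mem_normalizer hg hzQ.1) ?_ fun q hq => ?_
        · rw [show g * z * g⁻¹ * (g * z * g⁻¹) = g * (z * z) * g⁻¹ by group, hzQ.2.1]; group
        · have h1 := (hzQ.2.2 _ (conj_mem_of_mem_normalizer (inv_mem hg) hq)).map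
            (MulAut.conj g).toMonoidHom
          simp only [MulEquiv.coe_toMonoidHom, MulAut.conj_apply] at h1
          rwa [show g * (g⁻¹ * q * g⁻¹⁻¹) * g⁻¹ = q by group] at h1
      let A : Subgroup G :=
        { carrier := {g | g ∈ normalizer (Q : Set G) ∧ g * z₁ * g⁻¹ = z₁ ∧ g * z₂ * g⁻¹ = z₂}
          one_mem' := ⟨one_mem _, by group, by group⟩
          mul_mem' := by
            rintro g g' ⟨hg, e, f⟩ ⟨hg', e', f'⟩
            refine ⟨mul_mem hg hg', ?_, ?_⟩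
            · rw [show g * g' * z₁ * (g * g')⁻¹ = g * (g' * z₁ * g'⁻¹) * g⁻¹ by group, e', e]
            · rw [show g * g' * z₂ * (g * g')⁻¹ = g * (g' * z₂ * g'⁻¹) * g⁻¹ by group, f', f]
          inv_mem' := by
            rintro g ⟨hg, e, f⟩
            refine ⟨inv_mem hg, ?_, ?_⟩
            · conv_lhs => rw [← e]
              group
            · conv_lhs => rw [← f]
              group }
      have hA : ∀ g ∈ normalizer (Q : Set G), ∀ b ∈ A, g * b * g⁻¹ ∈ A := by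
        rintro g hg b ⟨hb, e, f⟩
        have key : ∀ z : G, (z = z₁ ∨ z = z₂) → g * b * g⁻¹ * z * (g * b * g⁻¹)⁻¹ = z := by
          intro z hz
          have h2 : b * (g⁻¹ * z * g⁻¹⁻¹) * b⁻¹ = g⁻¹ * z * g⁻¹⁻¹ := by
            rcases hfour g⁻¹ (inv_mem hg) z hz with h | h | h | h <;> rw [h]
            exacts [by group, e, f, by
              rw [show b * (z₁ * z₂) * b⁻¹ = b * z₁ * b⁻¹ * (b * z₂ * b⁻¹) by group, e, f]]
          calc g * b * g⁻¹ * z * (g * b * g⁻¹)⁻¹ = g * (b * (g⁻¹ * z * g⁻¹⁻¹) * b⁻¹) * g⁻¹ := by group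
            _ = z := by rw [h2]; group
        exact ⟨mul_mem (mul_mem hg hb) (inv_mem hg), key z₁ (Or.inl rfl), key z₂ (Or.inr rfl)⟩
      have hodd : ∀ b ∈ A, ¬ 2 ∣ orderOf b → ∀ q ∈ Q, b * q * b⁻¹ = q := fun b hb hm =>
        F.odd_trivial hQS hb.1 (Nat.odd_iff.2 (Nat.two_dvd_ne_zero.1 hm)) hb.2.1 hb.2.2 h4
          hd₀ he₀ hq₀ hsq hf₀ hg₀ hr₀ hsq'
      have hSA : ∀ s ∈ (S : Subgroup G), s ∈ normalizer (Q : Set G) → s ∈ A := fun s hs hN =>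
        ⟨hN, mul_inv_eq_iff_eq_mul.2 (F.z₁_central hs).symm.eq,
          mul_inv_eq_iff_eq_mul.2 (F.z₂_central hs).symm.eq⟩
      exact (Cfsg.Lib.Fusion.lt_inf_normalizer S.2 hlt).not_ge fun s hs =>
        Cfsg.Lib.Fusion.inf_le_of_radical hFN hR (fun q hq => hSA q (hQS hq) (le_normalizer hq))
          (fun g hg => hg.1) hA hodd ⟨hs.1, hSA s hs.1 hs.2⟩
    · have hD := F.thick_thin hFN hR hw hwc hz₂Q hwQ hQw hd₀ he₀ hq₀ hsq
      have e : Q = QL S w := by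
        refine le_antisymm (fun q hq => mem_QL.2 ⟨hQS hq, hQw q hq⟩) fun q hq => ?_
        obtain ⟨hqS, hqw⟩ := mem_QL.1 hq
        obtain ⟨d, hd, e, he, rfl⟩ := F.decomp hqS
        refine mul_mem (hD hd) ?_
        have hqw' : Commute (d * e) (1 * w) := by rw [one_mul]; exact hqw
        rcases F.d₂.four hw hwc he ((F.commute_iff hd he (one_mem _) hw).1 hqw').2 with
          h | h | h | h <;> rw [h]
        exacts [one_mem _, hz₂Q, hwQ, mul_mem hz₂Q hwQ]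
      refine Or.inr (Or.inr ⟨?_, w, hw, hwc, e⟩)
      obtain ⟨k, hk⟩ := F.d₂.pow
      rcases k with _ | _ | k
      · have := F.d₂.two; simp at hk; omega
      · refine absurd hlt (not_lt_of_ge fun s hs => ?_)
        rw [e]
        obtain ⟨d, hd, f, hf, rfl⟩ := F.decomp hs
        exact mem_QL.2 ⟨hs, (F.comm hd hw).mul_left (F.d₂.commute_of_two (by simpa using hk) hf hw)⟩
      · calc 4 = 2 ^ 2 := rfl
          _ ≤ n₂ := hk ▸ Nat.pow_le_pow_right two_pos (by omega)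
  · rcases p₂ with ⟨f₀, hf₀, g₀, hg₀, hr₀, hsq'⟩ | ⟨w, hw, hwc, hwQ, hQw⟩
    · have h4 : 4 ≤ n₂ := by
        obtain ⟨k, hk⟩ := F.d₂.pow
        rcases k with _ | _ | k
        · have := F.d₂.two; simp at hk; omega
        · exact absurd (F.d₂.sq_of_two (by simpa using hk) hg₀) hsq'
        · calc 4 = 2 ^ 2 := rfl
            _ ≤ n₂ := hk ▸ Nat.pow_le_pow_right two_pos (by omega)
      have hD := (F.swap h4).thick_thin hFN hR hy hyc hz₁Q hyQ hQy hg₀ hf₀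
        ((F.comm hf₀ hg₀).eq ▸ hr₀) hsq'
      refine Or.inr (Or.inl ⟨y, hy, hyc, le_antisymm (fun q hq => mem_QL.2 ⟨hQS hq, hQy q hq⟩)
        fun q hq => ?_⟩)
      obtain ⟨hqS, hqy⟩ := mem_QL.1 hq
      obtain ⟨d, hd, e, he, rfl⟩ := F.decomp hqS
      refine mul_mem ?_ (hD he)
      have hqy' : Commute (d * e) (y * 1) := by rw [mul_one]; exact hqy
      rcases F.d₁.four hy hyc hd ((F.commute_iff hd he hy (one_mem _)).1 hqy').1 with
        h | h | h | h <;> rw [h]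
      exacts [one_mem _, hz₁Q, hyQ, mul_mem hz₁Q hyQ]
    · have r : Rect S D₁ D₂ c₁ a₁ z₁ c₂ a₂ z₂ n₁ n₂ y w := ⟨F, hy, hyc, hw, hwc⟩
      exact Or.inl ⟨y, w, r, le_antisymm (fun q hq => mem_EL.2 ⟨hQS hq, hQy q hq, hQw q hq⟩)
        (r.gen hz₁Q hz₂Q hyQ hwQ)⟩

omit hQS in
/-- When both factors are nonabelian, odd elements of `N(S)` centralize `S`. -/
theorem odd_normalizer_big (h4 : 4 ≤ n₂) {g : G} (hg : g ∈ normalizer ((S : Subgroup G) : Set G))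
    (hm : Odd (orderOf g)) : ∀ q ∈ (S : Subgroup G), g * q * g⁻¹ = q := by
  obtain ⟨x₁, hx₁, hxx₁⟩ := F.d₁.exists_quarter F.big
  obtain ⟨x₂, hx₂, hxx₂⟩ := F.d₂.exists_quarter h4
  have hx₁S := F.le₁ (F.d₁.rot_mem hx₁)
  have hx₂S := F.le₂ (F.d₂.rot_mem hx₂)
  have hsq₁ : x₁ * x₁ ≠ 1 := hxx₁ ▸ F.d₁.z_ne_one
  have hsq₂ : x₂ * x₂ ≠ 1 := hxx₂ ▸ F.d₂.z_ne_one
  have triv : ∀ g ∈ normalizer ((S : Subgroup G) : Set G), Odd (orderOf g) → g * z₁ * g⁻¹ = z₁ →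
      g * z₂ * g⁻¹ = z₂ → ∀ q ∈ (S : Subgroup G), g * q * g⁻¹ = q := fun g hg hm e f =>
    F.odd_trivial le_rfl hg hm e f h4 (F.d₁.rot_mem hx₁) (one_mem _)
      ((mul_one x₁).symm ▸ hx₁S) hsq₁ (one_mem _) (F.d₂.rot_mem hx₂) ((one_mul x₂).symm ▸ hx₂S) hsq₂
  have mem : ∀ g ∈ normalizer ((S : Subgroup G) : Set G), ∀ z : G, (z = z₁ ∨ z = z₂) →
      g * z * g⁻¹ = z₁ ∨ g * z * g⁻¹ = z₂ := by
    intro g hg z hz
    have hz' : z ∈ (S : Subgroup G) ∧ z * z = 1 ∧ z ≠ 1 ∧ ∀ q ∈ (S : Subgroup G), Commute z q := by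
      rcases hz with rfl | rfl
      exacts [⟨F.le₁ F.d₁.z_mem, F.d₁.z_sq, F.d₁.z_ne_one, fun q hq => F.z₁_central hq⟩,
        ⟨F.le₂ F.d₂.z_mem, F.d₂.z_sq, F.d₂.z_ne_one, fun q hq => F.z₂_central hq⟩]
    have hf := F.centre_forms le_rfl (F.d₁.rot_mem hx₁) (one_mem _) ((mul_one x₁).symm ▸ hx₁S) hsq₁
      (one_mem _) (F.d₂.rot_mem hx₂) ((one_mul x₂).symm ▸ hx₂S) hsq₂
      (conj_mem_of_mem_normalizer hg hz'.1)
      (by rw [show g * z * g⁻¹ * (g * z * g⁻¹) = g * (z * z) * g⁻¹ by group, hz'.2.1]; group)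
      (fun q hq => by
        have h1 := (hz'.2.2.2 _ (conj_mem_of_mem_normalizer (inv_mem hg) hq)).map
          (MulAut.conj g).toMonoidHom
        simp only [MulEquiv.coe_toMonoidHom, MulAut.conj_apply] at h1
        rwa [show g * (g⁻¹ * q * g⁻¹⁻¹) * g⁻¹ = q by group] at h1)
    rcases hf with h | h | h | h
    · exact absurd (conj_eq_one_iff.1 h) hz'.2.2.1
    · exact Or.inl h
    · exact Or.inr h
    -- the roots of `z₁ z₂` commute
    exfalso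
    obtain ⟨A, hA, B, hB, hA2, hB2, hAB⟩ : ∃ A ∈ (S : Subgroup G), ∃ B ∈ (S : Subgroup G),
        A * A = z ∧ B * B = z ∧ ¬ Commute A B := by
      have h1 : a₁ * c₁ ∉ zpowers c₁ := fun h => F.d₁.anot
        ((mul_mem_cancel_right (mem_zpowers c₁)).1 h)
      have h2 : a₂ * c₂ ∉ zpowers c₂ := fun h => F.d₂.anot
        ((mul_mem_cancel_right (mem_zpowers c₂)).1 h)
      have hs₁ := mul_mem F.d₁.mema F.d₁.memc
      have hs₂ := mul_mem F.d₂.mema F.d₂.memc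
      rcases hz with rfl | rfl
      · refine ⟨x₁ * a₂, mul_mem hx₁S (F.le₂ F.d₂.mema), x₁ * (a₂ * c₂), mul_mem hx₁S (F.le₂ hs₂),
          ?_, ?_, fun hc => ?_⟩
        · rw [F.sq_mul (F.d₁.rot_mem hx₁) F.d₂.mema, F.d₂.sq _ F.d₂.mema F.d₂.anot, hxx₁, mul_one]
        · rw [F.sq_mul (F.d₁.rot_mem hx₁) hs₂, F.d₂.sq _ hs₂ h2, hxx₁, mul_one]
        have hc' := ((F.commute_iff (F.d₁.rot_mem hx₁) F.d₂.mema (F.d₁.rot_mem hx₁) hs₂).1 hc).2
        have hac : Commute a₂ c₂ := by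
          have := (Commute.refl a₂).inv_right.mul_right hc'
          rwa [inv_mul_cancel_left] at this
        have h3 := F.d₂.sq_one_of_commute F.d₂.mema F.d₂.anot (mem_zpowers c₂) hac
        exact absurd (orderOf_dvd_of_pow_eq_one ((pow_two c₂).trans h3)) (by
          rw [F.d₂.ord]; exact fun h => absurd (Nat.le_of_dvd two_pos h) (by omega))
      · refine ⟨a₁ * x₂, mul_mem (F.le₁ F.d₁.mema) hx₂S, a₁ * c₁ * x₂, mul_mem (F.le₁ hs₁) hx₂S,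
          ?_, ?_, fun hc => ?_⟩
        · rw [F.sq_mul F.d₁.mema (F.d₂.rot_mem hx₂), F.d₁.sq _ F.d₁.mema F.d₁.anot, hxx₂, one_mul]
        · rw [F.sq_mul hs₁ (F.d₂.rot_mem hx₂), F.d₁.sq _ hs₁ h1, hxx₂, one_mul]
        have hc' := ((F.commute_iff F.d₁.mema (F.d₂.rot_mem hx₂) hs₁ (F.d₂.rot_mem hx₂)).1 hc).1
        have hac : Commute a₁ c₁ := by
          have := (Commute.refl a₁).inv_right.mul_right hc'
          rwa [inv_mul_cancel_left] at this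
        have h3 := F.d₁.sq_one_of_commute F.d₁.mema F.d₁.anot (mem_zpowers c₁) hac
        have := F.big
        exact absurd (orderOf_dvd_of_pow_eq_one ((pow_two c₁).trans h3)) (by
          rw [F.d₁.ord]; exact fun h => absurd (Nat.le_of_dvd two_pos h) (by omega))
    have rot : ∀ X ∈ (S : Subgroup G), X * X = z → ∃ d ∈ zpowers c₁, ∃ e ∈ zpowers c₂,
        g * X * g⁻¹ = d * e := by
      intro X hX hX2
      obtain ⟨d, hd, e, he, hde⟩ := F.decomp (conj_mem_of_mem_normalizer hg hX)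
      have h1 : d * d * (e * e) = z₁ * z₂ := by
        rw [← F.sq_mul hd he, ← hde, show g * X * g⁻¹ * (g * X * g⁻¹) = g * (X * X) * g⁻¹ by group,
          hX2, h]
      obtain ⟨h2, h3⟩ := F.unique (mul_mem hd hd) (mul_mem he he) F.d₁.z_mem F.d₂.z_mem h1
      exact ⟨d, F.d₁.rot_of_sq hd (h2 ▸ F.d₁.z_ne_one), e, F.d₂.rot_of_sq he (h3 ▸ F.d₂.z_ne_one), hde⟩
    obtain ⟨d, hd, e, he, eA⟩ := rot A hA hA2
    obtain ⟨d', hd', e', he', eB⟩ := rot B hB hB2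
    refine hAB ?_
    have := ((F.commute_iff (F.d₁.rot_mem hd) (F.d₂.rot_mem he) (F.d₁.rot_mem hd') (F.d₂.rot_mem he')).2
      ⟨Dih.rot_commute hd hd', Dih.rot_commute he he'⟩).map (MulAut.conj g⁻¹).toMonoidHom
    rw [← eA, ← eB] at this
    simpa [mul_assoc] using this
  -- `g²` fixes both
  have hfix : ∀ g ∈ normalizer ((S : Subgroup G) : Set G), ∀ z : G, (z = z₁ ∨ z = z₂) →
      g * g * z * (g * g)⁻¹ = z := by
    intro g hg z hz
    have inj : ∀ {A B : G}, g * A * g⁻¹ = g * B * g⁻¹ → A = B :=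
      fun h => mul_left_cancel (mul_right_cancel h)
    rw [show g * g * z * (g * g)⁻¹ = g * (g * z * g⁻¹) * g⁻¹ by group]
    rcases mem g hg z hz with h | h <;> rw [h] <;> rcases hz with rfl | rfl
    · exact h
    · exact (mem g hg z₁ (Or.inl rfl)).resolve_left fun h' => by
        have e := inj (h'.trans h.symm)
        rw [← e] at h
        exact F.d₁.z_ne_one (F.unique F.d₁.z_mem (one_mem _) (one_mem _) F.d₂.z_mem
          (by rw [mul_one, one_mul, e])).1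
    · exact (mem g hg z₂ (Or.inr rfl)).resolve_right fun h' => by
        have e := inj (h'.trans h.symm)
        exact F.d₁.z_ne_one (F.unique F.d₁.z_mem (one_mem _) (one_mem _) F.d₂.z_mem
          (by rw [mul_one, one_mul, ← e])).1
    · exact h
  have hg2 := mul_mem hg hg
  have hm2 : Odd (orderOf (g * g)) := by
    rw [← pow_two]
    exact hm.of_dvd_nat (orderOf_pow_dvd _)
  have h2 := triv _ hg2 hm2 (hfix g hg z₁ (Or.inl rfl)) (hfix g hg z₂ (Or.inr rfl))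
  obtain ⟨k, hk⟩ := hm
  have he : g = (g * g) ^ (k + 1) := by
    rw [← pow_two, ← pow_mul, show 2 * (k + 1) = orderOf g + 1 by omega, pow_succ, pow_orderOf_eq_one,
      one_mul]
  have hall : ∀ (j : ℕ), ∀ q ∈ (S : Subgroup G), (g * g) ^ j * q * ((g * g) ^ j)⁻¹ = q := by
    intro j
    induction j with
    | zero => intro q _; simp
    | succ j ih =>
      intro q hq
      rw [pow_succ, show (g * g) ^ j * (g * g) * q * ((g * g) ^ j * (g * g))⁻¹ =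
        (g * g) ^ j * (g * g * q * (g * g)⁻¹) * ((g * g) ^ j)⁻¹ by group, h2 q hq, ih q hq]
  intro q hq
  rw [he]
  exact hall _ q hq

omit hQS in
/-- When `D₂` is a four group, odd elements of `N(S)` are trivial modulo the centre. -/
theorem odd_normalizer_small (h2 : n₂ = 2) {g : G} (hg : g ∈ normalizer ((S : Subgroup G) : Set G))
    (hm : Odd (orderOf g)) {d e : G} (hd : d ∈ D₁) (he : e ∈ D₂) :
    ∃ e' ∈ D₂, g * (d * e) * g⁻¹ = d * e' ∨ g * (d * e) * g⁻¹ = d * z₁ * e' := by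
  obtain ⟨x₁, hx₁, hxx₁⟩ := F.d₁.exists_quarter F.big
  have hx₁S := F.le₁ (F.d₁.rot_mem hx₁)
  have hz₁ : g * z₁ * g⁻¹ = z₁ := by
    obtain ⟨f, hf, f', hf', hgx⟩ := F.decomp (conj_mem_of_mem_normalizer hg hx₁S)
    have h1 : g * z₁ * g⁻¹ = f * f := by
      rw [← hxx₁, show g * (x₁ * x₁) * g⁻¹ = g * x₁ * g⁻¹ * (g * x₁ * g⁻¹) by group, hgx,
        F.sq_mul hf hf', F.d₂.sq_of_two h2 hf', mul_one]
    refine (F.d₁.sq_one_rot (h1 ▸ F.d₁.sq_rot hf) ?_).resolve_left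
      fun h => F.d₁.z_ne_one (conj_eq_one_iff.1 h)
    rw [show g * z₁ * g⁻¹ * (g * z₁ * g⁻¹) = g * (z₁ * z₁) * g⁻¹ by group, F.d₁.z_sq]
    group
  obtain ⟨Z, hZ⟩ : ∃ Z, Z = (S : Subgroup G) ⊓ centralizer ((S : Subgroup G) : Set G) := ⟨_, rfl⟩
  have memZ : ∀ {r s}, r ∈ D₁ → s ∈ D₂ → (r * s ∈ Z ↔ r = 1 ∨ r = z₁) := by
    intro r s hr hs
    rw [hZ]
    constructor
    · rintro ⟨-, hc⟩
      have h : ∀ t ∈ D₁, Commute r t := fun t ht => by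
        have h' : Commute (r * s) (t * 1) := by
          rw [mul_one]; exact (mem_centralizer_iff.1 hc t (F.le₁ ht)).symm
        exact ((F.commute_iff hr hs ht (one_mem _)).1 h').1
      exact F.d₁.center_eq F.big hr (h _ F.d₁.memc) (h _ F.d₁.mema)
    · intro h
      refine ⟨F.mem_mul hr hs, mem_centralizer_iff.2 fun q hq => ?_⟩
      obtain ⟨f, hf, f', hf', rfl⟩ := F.decomp hq
      refine ((F.commute_iff hr hs hf hf').2 ⟨?_, F.d₂.commute_of_two h2 hs hf'⟩).symm.eq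
      rcases h with h | h <;> rw [h]
      exacts [Commute.one_left f, F.d₁.z_comm hf]
  have hZg : ∀ z ∈ Z, g * z * g⁻¹ ∈ Z := by
    intro z hz
    rw [hZ] at hz ⊢
    refine ⟨conj_mem_of_mem_normalizer hg hz.1, mem_centralizer_iff.2 fun q hq => ?_⟩
    have h1 := mem_centralizer_iff.1 hz.2 _ (conj_mem_of_mem_normalizer (inv_mem hg) hq)
    calc q * (g * z * g⁻¹) = g * (g⁻¹ * q * g⁻¹⁻¹ * z) * g⁻¹ := by group
      _ = g * (z * (g⁻¹ * q * g⁻¹⁻¹)) * g⁻¹ := by rw [h1]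
      _ = g * z * g⁻¹ * q := by group
  have hsq₁ : x₁ * x₁ ≠ 1 := hxx₁ ▸ F.d₁.z_ne_one
  have step : ∀ {d e}, d ∈ D₁ → e ∈ D₂ → ∃ r ∈ zpowers c₁, ∃ s ∈ D₂,
      g * (d * e) * g⁻¹ = d * e * (r * s) ∧ (d ∈ zpowers c₁ → r * s ∈ Z) := by
    intro d e hd he
    obtain ⟨d', hd', e', he', hde⟩ := F.decomp (conj_mem_of_mem_normalizer hg (F.mem_mul hd he))
    have c1 := F.coord le_rfl hg hm hz₁ (Or.inl h2) (F.d₁.rot_mem hx₁) (one_mem _)
      ((mul_one x₁).symm ▸ hx₁S) hsq₁ hd he hd' he' (F.mem_mul hd he) hde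
    refine ⟨_, c1.1, _, mul_mem (inv_mem he) he', ?_, fun h => (memZ (F.d₁.rot_mem c1.1)
      (mul_mem (inv_mem he) he')).2 (c1.2 h)⟩
    rw [(F.comm (mul_mem (inv_mem hd) hd') he).symm.mul_mul_mul_comm, mul_inv_cancel_left,
      mul_inv_cancel_left, hde]
  obtain ⟨r, hr, s, hs, h1, -⟩ := step hd he
  obtain ⟨r', hr', s', hs', h1', hZ'⟩ := step (F.d₁.rot_mem hr) hs
  have hrs : r * s ∈ Z := by
    refine mem_of_odd_pow (S := S) (F.mem_mul (F.d₁.rot_mem hr) hs) hm (shift_mem h1 ?_ hZg fun z hz => ?_)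
    · rw [h1', inv_mul_cancel_left]
      exact hZ' hr
    · rw [hZ] at hz
      exact mem_centralizer_iff.1 hz.2 _ (F.mem_mul (F.d₁.rot_mem hr) hs)
  refine ⟨e * s, mul_mem he hs, ?_⟩
  have e1 : g * (d * e) * g⁻¹ = d * r * (e * s) := by
    rw [h1, (F.comm (F.d₁.rot_mem hr) he).symm.mul_mul_mul_comm]
  rcases (memZ (F.d₁.rot_mem hr) hs).1 hrs with h | h
  · exact Or.inl (by rw [e1, h, mul_one])
  · exact Or.inr (by rw [e1, h])

end Frame

end Cfsg.Lib.TwoFusion.DihProd
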