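import Cfsg.Agent.Lib.Fusion.Alperin
import Mathlib.Tactic.Group

/-!
# Transvections induced by conjugation on a subgroup

`u` moves the elements of `Q` by a central involution `x` which it fixes.  Two of them commute, or
generate a symmetric group of degree three, unless some element induces an automorphism of order 4.
-/

set_option autoImplicit false
set_option linter.style.haveILetI false

open Subgroup

namespace Cfsg.Lib.TwoFusion.DihProd

variable {G : Type*} [Group G]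

/-- `g` and `h` act in the same way on `Q`. -/
def Same (Q : Subgroup G) (g h : G) : Prop := ∀ q ∈ Q, g * q * g⁻¹ = h * q * h⁻¹

theorem Same.refl (Q : Subgroup G) (g : G) : Same Q g g := fun _ _ => rfl

theorem Same.symm {Q : Subgroup G} {g h : G} (e : Same Q g h) : Same Q h g :=
  fun q hq => (e q hq).symm

theorem Same.trans {Q : Subgroup G} {g h k : G} (e : Same Q g h) (e' : Same Q h k) : Same Q g k :=
  fun q hq => (e q hq).trans (e' q hq)

theorem Same.mono {Q Q' : Subgroup G} {g h : G} (e : Same Q g h) (hle : Q' ≤ Q) : Same Q' g h :=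
  fun q hq => e q (hle hq)

theorem Same.mul {Q : Subgroup G} {g g' h h' : G} (hg' : ∀ q ∈ Q, g' * q * g'⁻¹ ∈ Q)
    (e : Same Q g h) (e' : Same Q g' h') : Same Q (g * g') (h * h') := fun q hq => by
  rw [show g * g' * q * (g * g')⁻¹ = g * (g' * q * g'⁻¹) * g⁻¹ by group, e _ (hg' q hq), e' q hq]
  group

theorem Same.mul_left {Q : Subgroup G} {g h : G} (k : G) (e : Same Q g h) :
    Same Q (k * g) (k * h) := fun q hq => by
  rw [show k * g * q * (k * g)⁻¹ = k * (g * q * g⁻¹) * k⁻¹ by group, e q hq]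
  group

theorem Same.mul_right {Q : Subgroup G} {g h k : G} (hk : ∀ q ∈ Q, k * q * k⁻¹ ∈ Q)
    (e : Same Q g h) : Same Q (g * k) (h * k) := e.mul hk (Same.refl Q k)

theorem Same.inv {Q : Subgroup G} {g h : G} (hh : ∀ q ∈ Q, h⁻¹ * q * h ∈ Q) (e : Same Q g h) :
    Same Q g⁻¹ h⁻¹ := fun q hq => by
  have h1 := e _ (hh q hq)
  rw [show h * (h⁻¹ * q * h) * h⁻¹ = q by group] at h1
  conv_lhs => rw [← h1]
  group

theorem conj_mem_of_mem_normalizer {Q : Subgroup G} {g q : G}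
    (hg : g ∈ normalizer (Q : Set G)) (hq : q ∈ Q) : g * q * g⁻¹ ∈ Q :=
  (mem_normalizer_iff.1 hg q).1 hq

/-- Restriction to the conjugate subgroup. -/
theorem Same.conj {Q : Subgroup G} {g h k : G} (hk : k ∈ normalizer (Q : Set G)) (e : Same Q g h) :
    Same Q (k * g * k⁻¹) (k * h * k⁻¹) :=
  (e.mul_left k).mul_right fun _ hq => conj_mem_of_mem_normalizer (inv_mem hk) hq

/-- Conjugation by `u` moves `Q` by the central involution `x` of `Q`, which it fixes. -/
structure Tv (Q : Subgroup G) (u x : G) : Prop where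
  mem : x ∈ Q
  sq : x * x = 1
  cen : ∀ q ∈ Q, Commute x q
  fix : u * x * u⁻¹ = x
  move : ∀ q ∈ Q, u * q * u⁻¹ = q ∨ u * q * u⁻¹ = q * x
  ne : ∃ q ∈ Q, u * q * u⁻¹ ≠ q

namespace Tv

variable {Q : Subgroup G} {u v w x y z : G}

theorem ne_one (h : Tv Q u x) : x ≠ 1 := by
  rintro rfl
  obtain ⟨q, hq, hne⟩ := h.ne
  rcases h.move q hq with e | e
  · exact hne e
  · exact hne (e.trans (mul_one q))

theorem conj_mem (h : Tv Q u x) {q : G} (hq : q ∈ Q) : u * q * u⁻¹ ∈ Q := by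
  rcases h.move q hq with e | e <;> rw [e]
  exacts [hq, mul_mem hq h.mem]

theorem same (h : Tv Q u x) (e : Same Q v u) : Tv Q v x :=
  ⟨h.mem, h.sq, h.cen, (e x h.mem).trans h.fix, fun q hq => by rw [e q hq]; exact h.move q hq,
    h.ne.imp fun q ⟨hq, hne⟩ => ⟨hq, by rwa [e q hq]⟩⟩

theorem centre_unique (h : Tv Q u x) (h' : Tv Q u y) : x = y := by
  obtain ⟨q, hq, hne⟩ := h.ne
  exact mul_left_cancel (((h.move q hq).resolve_left hne).symm.trans ((h'.move q hq).resolve_left hne))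

theorem centre_eq (h : Tv Q u x) (h' : Tv Q v y) (e : Same Q u v) : x = y :=
  centre_unique h (h'.same e)

theorem conj {k : G} (h : Tv Q u x) (hk : k ∈ normalizer (Q : Set G)) :
    Tv Q (k * u * k⁻¹) (k * x * k⁻¹) := by
  have hkQ : ∀ {q}, q ∈ Q → k⁻¹ * q * k ∈ Q := fun {q} hq => by
    simpa using conj_mem_of_mem_normalizer (inv_mem hk) hq
  refine ⟨conj_mem_of_mem_normalizer hk h.mem, ?_, fun q hq => ?_, ?_, fun q hq => ?_, ?_⟩
  · rw [show k * x * k⁻¹ * (k * x * k⁻¹) = k * (x * x) * k⁻¹ by group, h.sq, mul_one, mul_inv_cancel]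
  · have := (h.cen _ (hkQ hq)).map (MulAut.conj k).toMonoidHom
    simpa [mul_assoc] using this
  · rw [show k * u * k⁻¹ * (k * x * k⁻¹) * (k * u * k⁻¹)⁻¹ = k * (u * x * u⁻¹) * k⁻¹ by group, h.fix]
  · rcases h.move _ (hkQ hq) with e | e
    · left
      rw [show k * u * k⁻¹ * q * (k * u * k⁻¹)⁻¹ = k * (u * (k⁻¹ * q * k) * u⁻¹) * k⁻¹ by group, e]
      group
    · right
      rw [show k * u * k⁻¹ * q * (k * u * k⁻¹)⁻¹ = k * (u * (k⁻¹ * q * k) * u⁻¹) * k⁻¹ by group, e]
      group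
  · obtain ⟨q, hq, hne⟩ := h.ne
    refine ⟨k * q * k⁻¹, conj_mem_of_mem_normalizer hk hq, fun e => hne ?_⟩
    rw [show k * u * k⁻¹ * (k * q * k⁻¹) * (k * u * k⁻¹)⁻¹ = k * (u * q * u⁻¹) * k⁻¹ by group] at e
    exact mul_left_cancel (mul_right_cancel e)

/-- The translation `q ↦ u q u⁻¹` is an involution. -/
theorem same_sq (h : Tv Q u x) : Same Q (u * u) 1 := fun q hq => by
  rw [one_mul, inv_one, mul_one, show u * u * q * (u * u)⁻¹ = u * (u * q * u⁻¹) * u⁻¹ by group]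
  rcases h.move q hq with e | e
  · rw [e, e]
  · rw [e, show u * (q * x) * u⁻¹ = u * q * u⁻¹ * (u * x * u⁻¹) by group, h.fix, e, mul_assoc, h.sq,
      mul_one]

/-- Transvections fixing each other's centres commute. -/
theorem commute_of_fix (h : Tv Q u x) (h' : Tv Q v y) (e : u * y * u⁻¹ = y) (e' : v * x * v⁻¹ = x) :
    Same Q (u * v) (v * u) := fun q hq => by
  rw [show u * v * q * (u * v)⁻¹ = u * (v * q * v⁻¹) * u⁻¹ by group,
    show v * u * q * (v * u)⁻¹ = v * (u * q * u⁻¹) * v⁻¹ by group]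
  rcases h.move q hq with a | a <;> rcases h'.move q hq with b | b
  · rw [b, a, b]
  · rw [b, show u * (q * y) * u⁻¹ = u * q * u⁻¹ * (u * y * u⁻¹) by group, e, a, b]
  · rw [b, a, show v * (q * x) * v⁻¹ = v * q * v⁻¹ * (v * x * v⁻¹) by group, e', b]
  · rw [b, show u * (q * y) * u⁻¹ = u * q * u⁻¹ * (u * y * u⁻¹) by group, e, a,
      show v * (q * x) * v⁻¹ = v * q * v⁻¹ * (v * x * v⁻¹) by group, e', b, mul_assoc,
      (h.cen y h'.mem).eq, ← mul_assoc]

/-- Without elements of order four, a moved centre moves back. -/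
theorem move_symm (hexp : ∀ g ∈ normalizer (Q : Set G), Same Q (g * g * (g * g)) 1 → Same Q (g * g) 1)
    (hu : u ∈ normalizer (Q : Set G)) (hv : v ∈ normalizer (Q : Set G)) (h : Tv Q u x)
    (h' : Tv Q v y) (e : u * y * u⁻¹ ≠ y) : v * x * v⁻¹ = x * y := by
  refine (h'.move x h.mem).resolve_left fun e' => e ?_
  have hw : Tv Q (v * u * v⁻¹) x := by
    have := h.conj hv
    rwa [e'] at this
  -- `v u v⁻¹` commutes with `u`, and `v² = 1`
  have huw := h.commute_of_fix hw h.fix hw.fix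
  have hQ : ∀ {g}, g ∈ normalizer (Q : Set G) → ∀ q ∈ Q, g * q * g⁻¹ ∈ Q :=
    fun hg q hq => conj_mem_of_mem_normalizer hg hq
  have hvw : v * u * v⁻¹ ∈ normalizer (Q : Set G) := mul_mem (mul_mem hv hu) (inv_mem hv)
  have h4 : Same Q (u * v * (u * v) * (u * v * (u * v))) 1 := by
    have e1 : Same Q (u * v * (u * v)) (u * (v * u * v⁻¹)) := by
      rw [show u * v * (u * v) = u * (v * u * v⁻¹) * (v * v) by group]
      intro q hq
      rw [show u * (v * u * v⁻¹) * (v * v) * q * (u * (v * u * v⁻¹) * (v * v))⁻¹ =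
        u * (v * u * v⁻¹) * (v * v * q * (v * v)⁻¹) * (u * (v * u * v⁻¹))⁻¹ by group, h'.same_sq q hq,
        one_mul, inv_one, mul_one]
    refine (e1.mul (hQ (mul_mem (mul_mem hu hv) (mul_mem hu hv))) e1).trans ?_
    intro q hq
    rw [show u * (v * u * v⁻¹) * (u * (v * u * v⁻¹)) * q *
        (u * (v * u * v⁻¹) * (u * (v * u * v⁻¹)))⁻¹ =
        u * (v * u * v⁻¹ * u * ((v * u * v⁻¹) * q * (v * u * v⁻¹)⁻¹) * (v * u * v⁻¹ * u)⁻¹) * u⁻¹ by
      group, ← huw _ (hQ hvw q hq)]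
    rw [show u * (u * (v * u * v⁻¹) * ((v * u * v⁻¹) * q * (v * u * v⁻¹)⁻¹) *
        (u * (v * u * v⁻¹))⁻¹) * u⁻¹ =
        u * u * ((v * u * v⁻¹) * (v * u * v⁻¹) * q * ((v * u * v⁻¹) * (v * u * v⁻¹))⁻¹) * (u * u)⁻¹ by
      group, hw.same_sq q hq, one_mul, inv_one, mul_one, h.same_sq q hq, one_mul, inv_one, mul_one]
  have h2 := hexp (u * v) (mul_mem hu hv) h4
  -- so `u` and `v` commute
  obtain ⟨q, hq, hne⟩ := h'.ne
  have hm := (h'.move q hq).resolve_left hne
  have h3 := h2 q hq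
  rw [one_mul, inv_one, mul_one] at h3
  have h5 : v * (u * (v * q * v⁻¹) * u⁻¹) * v⁻¹ = u * q * u⁻¹ := by
    have := h.same_sq _ (hQ (mul_mem (mul_mem hv hu) hv) q hq)
    rw [one_mul, inv_one, mul_one] at this
    calc v * (u * (v * q * v⁻¹) * u⁻¹) * v⁻¹ = v * u * v * q * (v * u * v)⁻¹ := by group
      _ = u * u * (v * u * v * q * (v * u * v)⁻¹) * (u * u)⁻¹ := this.symm
      _ = u * (u * v * (u * v) * q * (u * v * (u * v))⁻¹) * u⁻¹ := by group
      _ = u * q * u⁻¹ := by rw [h3]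
  by_contra hyu
  have hyx : u * y * u⁻¹ = y * x := (h.move y h'.mem).resolve_left hyu
  have hxy : v * (y * x) * v⁻¹ = y * x := by
    rw [show v * (y * x) * v⁻¹ = v * y * v⁻¹ * (v * x * v⁻¹) by group, h'.fix, e']
  rw [hm, show u * (q * y) * u⁻¹ = u * q * u⁻¹ * (u * y * u⁻¹) by group, hyx,
    show v * (u * q * u⁻¹ * (y * x)) * v⁻¹ = v * (u * q * u⁻¹) * v⁻¹ * (v * (y * x) * v⁻¹) by group,
    hxy] at h5
  have hyy : y * y = 1 := h'.sq
  have hvuq : v * (u * q * u⁻¹) * v⁻¹ = u * q * u⁻¹ * y := by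
    rcases h.move q hq with a | a
    · rw [a, hm]
    · rw [a, show v * (q * x) * v⁻¹ = v * q * v⁻¹ * (v * x * v⁻¹) by group, hm, e', mul_assoc,
        mul_assoc, (h'.cen x h.mem).eq]
  rw [hvuq, mul_assoc, ← mul_assoc y y x, hyy, one_mul, mul_eq_left] at h5
  exact h.ne_one h5

/-- Two moving transvections: the braid relation. -/
theorem braid (h : Tv Q u x) (h' : Tv Q v y) (e : u * y * u⁻¹ = y * x) (e' : v * x * v⁻¹ = x * y) :
    Same Q (v * u * v⁻¹) (u * v * u⁻¹) := fun q hq => by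
  have eu : u⁻¹ * q * u = u * q * u⁻¹ := by
    have := h.same_sq q hq
    rw [one_mul, inv_one, mul_one] at this
    conv_lhs => rw [← this]
    group
  have ev : v⁻¹ * q * v = v * q * v⁻¹ := by
    have := h'.same_sq q hq
    rw [one_mul, inv_one, mul_one] at this
    conv_lhs => rw [← this]
    group
  rw [show v * u * v⁻¹ * q * (v * u * v⁻¹)⁻¹ = v * (u * (v⁻¹ * q * v) * u⁻¹) * v⁻¹ by group,
    show u * v * u⁻¹ * q * (u * v * u⁻¹)⁻¹ = u * (v * (u⁻¹ * q * u) * v⁻¹) * u⁻¹ by group, eu, ev]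
  have hmul : ∀ g a b : G, g * (a * b) * g⁻¹ = g * a * g⁻¹ * (g * b * g⁻¹) := fun g a b => by group
  have hc : x * y = y * x := (h.cen y h'.mem).eq
  have hyx : y * x = x * y := hc.symm
  have hyx' : ∀ t, y * (x * t) = x * (y * t) := fun t => by rw [← mul_assoc, hyx, mul_assoc]
  have hxx : ∀ t, x * (x * t) = t := fun t => by rw [← mul_assoc, h.sq, one_mul]
  have hyy : ∀ t, y * (y * t) = t := fun t => by rw [← mul_assoc, h'.sq, one_mul]
  rcases h.move q hq with a | a <;> rcases h'.move q hq with b | b <;>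
    simp only [a, b, hmul, e, e', h.fix, h'.fix] <;>
    simp only [mul_assoc, hyx, hyx', hxx, hyy, h.sq, h'.sq, mul_one]

/-- The centre of the conjugate of a transvection by one moving it. -/
theorem conj_moved (_h : Tv Q u x) (hu : u ∈ normalizer (Q : Set G)) (h' : Tv Q v y)
    (e : u * y * u⁻¹ = y * x) : Tv Q (u * v * u⁻¹) (y * x) := e ▸ h'.conj hu

end Tv

end Cfsg.Lib.TwoFusion.DihProd
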